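import Mathlib
import Cfsg.Agent.D1C.BrbMT

/-!
# S4504, seat 9 (part A): the ordinary input, Sylow form

Context: a Sylow `p`-subgroup `P` of order `p` is not normal, `χ` a faithful character with
`2 χ(1) + 1 ≤ p`.

* `d1m_bdry_dichotomy(')` : the boundary (`≤`) version of `d1_brb_resp_dichotomy(')` (all four exclusions stay
  strict);
* `d1m_bdry_mt_le` : (MT≤) if `N_H(P) = C_H(P)` then every irreducible `ψ` with `2 ψ(1) + 1 ≤ p` is scalar on `P`;
* `d1m_bdry_reduce` : some constituent of `χ` on `G₁ = ⟨P^{G₁}⟩ ⊴ G` is not scalar on `P`;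
* `d1m_bdry_O1_gen` : (O1) `χ` restricted to `G₁` is irreducible;
* `d1m_bdry_O2_gen`, `d1m_bdry_O2`, `d1m_bdry_le_commutator`, `d1m_bdry_syl_perfect`,
  `d1m_bdry_normal_of_abelian_quot` : (O2) in its various forms.
-/

set_option autoImplicit false
set_option linter.unusedSectionVars false
set_option linter.style.haveILetI false

namespace Cfsg.Agent.D1M

open Cfsg Cfsg.Agent.Helper6 Cfsg.Agent.D1

open scoped ComplexConjugate

universe u

section general

variable {G : Type u} [Group G] {p : ℕ} [hp : Fact p.Prime] {P C N : Subgroup G}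
  {τ : ↥C →* ↥P} {M : Ideal Cfsg.AlgInt}

open Classical in
/-- **the dichotomy for a small character** of a block of defect one with structure `X ⊔ Y`
(hypotheses = context + outputs of `d1_conc_split`): if `2 ψ(1) + 1 ≤ p` (boundary version) then either `ψ` is constant
on `P` (i.e. `P ≤ ker ψ`), or `ψ` is exceptional of "type E": `ψ ∈ Y`, `δ = 1`, `ψ(1) = f θ(1)`. -/
theorem d1m_bdry_dichotomy [Finite G] [Fintype C] [Fintype P]
    (hM : Cfsg.IsPModular p M)
    (S : d1_sec_Setup p P C N τ) (B : Set (Cfsg.IrrCharacter G))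
    (hBP : Cfsg.IsDefectGroup p M B P)
    (b : Set (Cfsg.IrrCharacter C)) (hind : Cfsg.IsInducedBlock M C b B)
    (θ : Cfsg.IrrCharacter C) (hθb : θ ∈ b) (hθ : d1_sec_KerP P (θ : C → ℂ))
    (T : Subgroup G) (hT : d1_sec_IsStab S θ T)
    (X Y : Set (Cfsg.IrrCharacter G)) (w : Cfsg.IrrCharacter G → ℤ) (δ : ℤ)
    (jj : Cfsg.IrrCharacter G → d1_sec_J S θ)
    (hXY : B = X ∪ Y) (hw : ∀ χ, w χ = 1 ∨ w χ = -1) (hδ : δ = 1 ∨ δ = -1)
    (hvX : ∀ χ ∈ X, ∀ j, d1_sec_vJ S θ χ j = w χ)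
    (hvY : ∀ ψ ∈ Y, ∀ j, d1_sec_vJ S θ ψ j = if j = jj ψ then δ else 0)
    (ψ : Cfsg.IrrCharacter G) (hψ : ψ ∈ B)
    (hsmall : 2 * Cfsg.charDegree (ψ : G → ℂ) + 1 ≤ p) :
    (∀ u : P, (ψ : G → ℂ) u = (ψ : G → ℂ) 1) ∨
      (ψ ∈ Y ∧ δ = 1 ∧
        Cfsg.charDegree (ψ : G → ℂ) = C.relIndex N * Cfsg.charDegree (θ : C → ℂ)) := by
  haveI : Fintype N := Fintype.ofFinite _
  haveI : Finite (↥P →* ℂˣ) := d1_sec_finite_hom S
  haveI : Fintype (↥P →* ℂˣ) := Fintype.ofFinite _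
  haveI : Finite (d1_sec_J S θ) := d1_sec_finite_J S θ
  letI : Fintype (d1_sec_J S θ) := Fintype.ofFinite _
  have hψc := IsIrrCharacter.isCharacter ψ.2
  obtain ⟨a, hale, hsumP, hdeg⟩ := d1_brb_resp_one hM S B hBP b hind θ hθb hθ T hT ψ hψ
  have hcardJ := d1_sec_card_J hT
  rw [Nat.card_eq_fintype_card] at hcardJ
  have hfdvd := S.relIndex_dvd
  have hef : C.relIndex T * T.relIndex N = C.relIndex N :=
    Subgroup.relIndex_mul_relIndex C T N hT.C_le hT.le_N
  have hp2 := hp.out.two_le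
  have hθ1pos : 0 < Cfsg.charDegree (θ : C → ℂ) := d1_fin_charDegree_pos θ
  have hconst : a = Cfsg.charDegree (ψ : G → ℂ) → ∀ u : P, (ψ : G → ℂ) u = (ψ : G → ℂ) 1 := by
    intro had u
    apply d1_brb_resp_const_of_sum hψc _ u
    rw [hsumP, had, charDegree_cast_of_isCharacter hψc]
  -- the naturals involved
  obtain ⟨d, hd⟩ : ∃ d : ℕ, d = Cfsg.charDegree (ψ : G → ℂ) := ⟨_, rfl⟩
  obtain ⟨θ1, hθ1⟩ : ∃ d : ℕ, d = Cfsg.charDegree (θ : C → ℂ) := ⟨_, rfl⟩
  obtain ⟨f, hf⟩ : ∃ f : ℕ, f = C.relIndex N := ⟨_, rfl⟩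
  obtain ⟨e, he⟩ : ∃ e : ℕ, e = C.relIndex T := ⟨_, rfl⟩
  obtain ⟨h, hh⟩ : ∃ h : ℕ, h = T.relIndex N := ⟨_, rfl⟩
  obtain ⟨t, ht⟩ : ∃ t : ℕ, t = Fintype.card (d1_sec_J S θ) := ⟨_, rfl⟩
  rw [← hd] at hale hsmall hconst hdeg ⊢
  rw [← hθ1] at hθ1pos hdeg ⊢
  rw [← hf] at hfdvd hef hdeg ⊢
  rw [← he] at hef hcardJ
  rw [← hh] at hef
  rw [← ht] at hcardJ
  have hfpos : 0 < f := by
    rcases Nat.eq_zero_or_pos f with h0 | h0
    · rw [h0, zero_dvd_iff] at hfdvd
      omega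
    · exact h0
  have hepos : 0 < e := by
    rcases Nat.eq_zero_or_pos e with h0 | h0
    · rw [h0, zero_mul] at hef
      omega
    · exact h0
  have hhpos : 0 < h := by
    rcases Nat.eq_zero_or_pos h with h0 | h0
    · rw [h0, mul_zero] at hef
      omega
    · exact h0
  -- integer versions
  have hPZ : (t : ℤ) * (e : ℤ) = (p : ℤ) - 1 := by
    have : t * e + 1 = p := by omega
    have h2 : ((t * e + 1 : ℕ) : ℤ) = (p : ℤ) := by rw [this]
    push_cast at h2
    linarith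
  have hefZ : (e : ℤ) * (h : ℤ) = (f : ℤ) := by exact_mod_cast hef
  have haleZ : (a : ℤ) ≤ (d : ℤ) := by exact_mod_cast hale
  have ha0 : (0 : ℤ) ≤ (a : ℤ) := Int.natCast_nonneg _
  have hsmallZ : 2 * (d : ℤ) + 1 ≤ (p : ℤ) := by exact_mod_cast hsmall
  have hθ1Z : (1 : ℤ) ≤ (θ1 : ℤ) := by exact_mod_cast hθ1pos
  have hhZ : (1 : ℤ) ≤ (h : ℤ) := by exact_mod_cast hhpos
  have hfZ : (1 : ℤ) ≤ (f : ℤ) := by exact_mod_cast hfpos
  have hp2Z : (2 : ℤ) ≤ (p : ℤ) := by exact_mod_cast hp2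
  have hψ' := hψ
  rw [hXY] at hψ
  rcases hψ with hψX | hψY
  · -- `ψ ∈ X`
    have hs : ∑ j : d1_sec_J S θ, d1_sec_vJ S θ ψ j = (t : ℤ) * w ψ := by
      rw [Finset.sum_congr rfl (fun j _ => hvX ψ hψX j), Finset.sum_const, Finset.card_univ,
        nsmul_eq_mul, ht]
    rw [hs] at hdeg
    have hK : (1 : ℤ) ≤ (θ1 : ℤ) * (h : ℤ) := by nlinarith
    have hft : (f : ℤ) * (θ1 : ℤ) * (t : ℤ) = (θ1 : ℤ) * (h : ℤ) * ((p : ℤ) - 1) := by
      rw [← hPZ, ← hefZ]
      ring
    rcases hw ψ with hw1 | hw1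
    · exfalso
      rw [hw1, mul_one] at hdeg
      have h1 : (d : ℤ) = (p : ℤ) * (a : ℤ) + (θ1 : ℤ) * (h : ℤ) * ((p : ℤ) - 1) := by
        rw [hdeg]
        linear_combination hft
      have h2 : (0 : ℤ) ≤ (p : ℤ) * (a : ℤ) := mul_nonneg (by linarith) ha0
      nlinarith
    · left
      apply hconst
      rw [hw1] at hdeg
      have h1 : (d : ℤ) = (p : ℤ) * (a : ℤ) - (θ1 : ℤ) * (h : ℤ) * ((p : ℤ) - 1) := by
        rw [hdeg]
        linear_combination -hft
      have hKd : (θ1 : ℤ) * (h : ℤ) ≤ (d : ℤ) := by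
        have h3 : (p : ℤ) * (a : ℤ) ≤ (p : ℤ) * (d : ℤ) :=
          mul_le_mul_of_nonneg_left haleZ (by linarith)
        have h4 : (θ1 : ℤ) * (h : ℤ) * ((p : ℤ) - 1) ≤ (d : ℤ) * ((p : ℤ) - 1) := by linarith
        exact le_of_mul_le_mul_right h4 (by linarith)
      have h5 := d1_brb_resp_arith (p : ℤ) (a : ℤ) (d : ℤ) ((θ1 : ℤ) * (h : ℤ))
        (by linarith) (by linarith) hKd (by linarith)
      exact_mod_cast h5
  · -- `ψ ∈ Y`
    have hs : ∑ j : d1_sec_J S θ, d1_sec_vJ S θ ψ j = δ := by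
      rw [Finset.sum_congr rfl (fun j _ => hvY ψ hψY j),
        Finset.sum_ite_eq' Finset.univ (jj ψ) (fun _ => δ), if_pos (Finset.mem_univ _)]
    rw [hs] at hdeg
    rcases hδ with hδ1 | hδ1
    · right
      refine ⟨hψY, hδ1, ?_⟩
      rw [hδ1, mul_one] at hdeg
      have ha1 : (a : ℤ) = 0 := by
        by_contra hne
        have h1 : (1 : ℤ) ≤ (a : ℤ) := by omega
        have h2 : (p : ℤ) ≤ (p : ℤ) * (a : ℤ) := by nlinarith
        have h3 : (0 : ℤ) ≤ (f : ℤ) * (θ1 : ℤ) := by nlinarith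
        linarith
      rw [ha1, mul_zero, zero_add] at hdeg
      exact_mod_cast hdeg
    · left
      apply hconst
      have hfib := d1_brb_resp_fibre hM S B hBP b hind θ hθb hθ T hT ψ hψ' (jj ψ)
        (fun j => by rw [hvY ψ hψY j, hδ1])
      rw [← hd, ← hθ1, ← hf] at hfib
      rw [hδ1] at hdeg
      -- `f = p - 1`
      obtain ⟨c, hc⟩ := hfdvd
      have hfp : f = p - 1 := by
        rcases Nat.lt_or_ge c 2 with hc2 | hc2
        · have hc1 : c = 1 := by
            rcases Nat.eq_zero_or_pos c with h0 | h0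
            · rw [h0, mul_zero] at hc
              omega
            · omega
          rw [hc1, mul_one] at hc
          exact hc.symm
        · exfalso
          have h1 : 2 * f ≤ p - 1 := by
            rw [hc]
            calc 2 * f = f * 2 := by ring
              _ ≤ f * c := Nat.mul_le_mul_left f hc2
          have h1Z : 2 * (f : ℤ) ≤ (p : ℤ) - 1 := by
            have : 2 * f + 1 ≤ p := by omega
            have h2 : ((2 * f + 1 : ℕ) : ℤ) ≤ (p : ℤ) := by exact_mod_cast this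
            push_cast at h2
            linarith
          have h3 : (p : ℤ) - (f : ℤ) ≤ (θ1 : ℤ) * ((p : ℤ) - (f : ℤ)) := by nlinarith
          linarith
      have hfpZ : (f : ℤ) = (p : ℤ) - 1 := by
        have : f + 1 = p := by omega
        have h2 : ((f + 1 : ℕ) : ℤ) = (p : ℤ) := by rw [this]
        push_cast at h2
        linarith
      rw [hfpZ] at hfib hdeg
      have hKd : (θ1 : ℤ) ≤ (d : ℤ) := by linarith
      have h5 := d1_brb_resp_arith (p : ℤ) (a : ℤ) (d : ℤ) (θ1 : ℤ)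
        (by linarith) (by linarith) hKd (by linarith)
      exact_mod_cast h5

end general

section sylow

variable {G : Type u} [Group G] {M : Ideal Cfsg.AlgInt}

open Classical in
/-- the boundary dichotomy in the shape of `d1_conc_split` -/
theorem d1m_bdry_dichotomy' [Finite G] (p : ℕ) [hp : Fact p.Prime] (hM : Cfsg.IsPModular p M)
    (P : Sylow p G)
    {τ : ↥(Subgroup.centralizer ((P : Subgroup G) : Set G)) →* ↥(P : Subgroup G)}
    [Fintype ↥(Subgroup.centralizer ((P : Subgroup G) : Set G))]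
    [Fintype ↥(P : Subgroup G)]
    (S : d1_sec_Setup p (P : Subgroup G) (Subgroup.centralizer ((P : Subgroup G) : Set G))
      (Subgroup.normalizer ((P : Subgroup G) : Set G)) τ)
    (B : Set (Cfsg.IrrCharacter G))
    (hBP : Cfsg.IsDefectGroup p M B (P : Subgroup G))
    (b : Set (Cfsg.IrrCharacter (Subgroup.centralizer ((P : Subgroup G) : Set G))))
    (θ : Cfsg.IrrCharacter (Subgroup.centralizer ((P : Subgroup G) : Set G)))
    (hroot : d1_glob_IsRoot M (P : Subgroup G) B b θ)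
    (X Y : Set (Cfsg.IrrCharacter G)) (w : Cfsg.IrrCharacter G → ℤ) (δ : ℤ)
    (jj : Cfsg.IrrCharacter G → d1_sec_J S θ)
    (hXY : B = X ∪ Y) (hw : ∀ χ, w χ = 1 ∨ w χ = -1) (hδ : δ = 1 ∨ δ = -1)
    (hvX : ∀ χ ∈ X, ∀ j, d1_sec_vJ S θ χ j = w χ)
    (hvY : ∀ ψ ∈ Y, ∀ j, d1_sec_vJ S θ ψ j = if j = jj ψ then δ else 0)
    (ψ : Cfsg.IrrCharacter G) (hψ : ψ ∈ B)
    (hsmall : 2 * Cfsg.charDegree (ψ : G → ℂ) + 1 ≤ p) :
    (∀ u : ↥(P : Subgroup G), (ψ : G → ℂ) u = (ψ : G → ℂ) 1) ∨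
      (ψ ∈ Y ∧ δ = 1 ∧
        Cfsg.charDegree (ψ : G → ℂ) =
          (Subgroup.centralizer ((P : Subgroup G) : Set G)).relIndex
            (Subgroup.normalizer ((P : Subgroup G) : Set G)) *
          Cfsg.charDegree (θ : Subgroup.centralizer ((P : Subgroup G) : Set G) → ℂ)) :=
  d1m_bdry_dichotomy hM S B hBP b hroot.1 θ hroot.2.1 hroot.2.2
    (d1_glob_T (P : Subgroup G) (θ : Subgroup.centralizer ((P : Subgroup G) : Set G) → ℂ))
    (d1_sec_isStab_of_frozen S θ _ (d1_glob_mem_T (P : Subgroup G) _))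
    X Y w δ jj hXY hw hδ hvX hvY ψ hψ hsmall

end sylow

/-- **(MT≤)**: if `N_H(P) = C_H(P)` for a Sylow subgroup `P` of order `p`, every irreducible character `ψ`
with `2 ψ(1) + 1 ≤ p` is scalar on `P`. -/
theorem d1m_bdry_mt_le {H : Type u} [Group H] [Finite H] (p : ℕ) [hp : Fact p.Prime] (P : Sylow p H)
    (hP : Nat.card P = p)
    (hNC : (Subgroup.centralizer ((P : Subgroup H) : Set H)).relIndex
      (Subgroup.normalizer ((P : Subgroup H) : Set H)) = 1)
    (ψ : Cfsg.IrrCharacter H) (hsmall : 2 * Cfsg.charDegree (ψ : H → ℂ) + 1 ≤ p)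
    (u : H) (hu : u ∈ (P : Subgroup H)) :
    ‖(ψ : H → ℂ) u‖ = (Cfsg.charDegree (ψ : H → ℂ) : ℝ) := by
  classical
  obtain ⟨M, hM⟩ := exists_isPModular p hp.out
  haveI : Fintype H := Fintype.ofFinite H
  haveI : Fintype ↥(Subgroup.centralizer ((P : Subgroup H) : Set H)) := Fintype.ofFinite _
  haveI : Fintype ↥(P : Subgroup H) := Fintype.ofFinite _
  obtain ⟨τ, S⟩ := d1_sec_exists_setup P hP
  have hψc := IsIrrCharacter.isCharacter ψ.2
  have hB : Cfsg.IsPBlock M (Cfsg.blockOf M (ψ : H → ℂ)) := ⟨ψ, rfl⟩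
  have hψB : ψ ∈ Cfsg.blockOf M (ψ : H → ℂ) := mem_blockOf_self hM.2.1 ψ
  have hBP := d1_brb_resp_defect p hM P hP ψ (by omega)
  obtain ⟨b, θ, hroot⟩ := d1_ine_Hroot p hM P hP _ hB hBP
  obtain ⟨X, Y, w, δ, jj, hXY, hdisj, hX, hY, hw, hδ, hvX, hvY, hbij⟩ :=
    d1_conc_split p hM P hP S _ hB hBP b θ hroot
  rcases d1m_bdry_dichotomy' p hM P S _ hBP b θ hroot X Y w δ jj hXY hw hδ hvX hvY ψ hψB
    hsmall with hconst | ⟨hψY, hδ1, hdeg⟩
  · have h1 := hconst ⟨u, hu⟩
    rw [h1, ← charDegree_cast_of_isCharacter hψc, Complex.norm_natCast]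
  · obtain ⟨hf1, -⟩ := d1_brbo_main' p hM P hP S _ hB hBP b θ hroot X Y w δ jj hXY hdisj
      hX hY hw hδ hvX hvY hbij ψ hψY hδ1 hdeg
    exact hf1 hNC ⟨u, hu⟩

/-- If a Sylow `p`-subgroup `P` is not normal in `G` and `χ` is a faithful character, some irreducible
constituent of the restriction of `χ` to a normal subgroup `G₁ = ⟨P^{G₁}⟩` is not scalar on `P`. -/
theorem d1m_bdry_reduce {G : Type u} [Group G] [Finite G] (p : ℕ) [Fact p.Prime] (P : Sylow p G)
    (G₁ : Subgroup G) [Fintype G₁] (hG₁ : G₁.Normal) (hle : (P : Subgroup G) ≤ G₁)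
    (hgen : Subgroup.normalClosure (((P.subtype hle : Sylow p G₁) : Subgroup G₁) : Set G₁) = ⊤)
    (hnn : ¬ (P : Subgroup G).Normal) (χ : G → ℂ) (hχ : IsCharacter G χ)
    (hfaith : ∀ g : G, χ g = χ 1 → g = 1) :
    ∃ ψ : IrrCharacter G₁, classInner (fun x : G₁ => χ x) (ψ : G₁ → ℂ) ≠ 0 ∧
      ∃ u ∈ ((P.subtype hle : Sylow p G₁) : Subgroup G₁),
        ‖(ψ : G₁ → ℂ) u‖ ≠ (charDegree (ψ : G₁ → ℂ) : ℝ) := by
  classical
  by_contra hcon
  push Not at hcon
  have hχ₁ : IsCharacter G₁ (fun x : G₁ => χ x) := IsCharacter.restrict G₁ hχ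
  -- `P₁` is central in `G₁`
  have hcentral : ∀ u ∈ ((P.subtype hle : Sylow p G₁) : Subgroup G₁), ∀ h : G₁,
      u * h * u⁻¹ * h⁻¹ = 1 := by
    intro u hu h
    have hval : (fun x : G₁ => χ x) (u * h * u⁻¹ * h⁻¹) = (fun x : G₁ => χ x) 1 := by
      apply d1_brb_char_at hχ₁
      intro ψ hne
      exact d1_brb_comm_ker (IsIrrCharacter.isCharacter ψ.2) u (hcon ψ hne u hu) h
    have h1 := hfaith _ hval
    exact Subtype.ext h1
  -- hence `P₁` is normal in `G₁`, hence `P₁ = ⊤`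
  have hnormal : ((P.subtype hle : Sylow p G₁) : Subgroup G₁).Normal := by
    constructor
    intro u hu h
    have h1 := hcentral u hu h
    have h2 : h * u * h⁻¹ = u := by
      have : u * h = h * u := by
        have h3 : u * h * u⁻¹ * h⁻¹ * (h * u) = h * u := by rw [h1, one_mul]
        rw [← h3]
        group
      rw [← this]
      group
    rw [h2]
    exact hu
  have htop : ((P.subtype hle : Sylow p G₁) : Subgroup G₁) = ⊤ := by
    rw [← hgen]
    exact (Subgroup.normalClosure_eq_self ((P.subtype hle : Sylow p G₁) : Subgroup G₁)).symm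
  have h1 : ((P.subtype hle : Sylow p G₁) : Subgroup G₁) = (P : Subgroup G).subgroupOf G₁ :=
    Sylow.coe_subtype _ _
  rw [h1, Subgroup.subgroupOf_eq_top] at htop
  have hPG : (P : Subgroup G) = G₁ := le_antisymm hle htop
  apply hnn
  rw [hPG]
  exact hG₁

/-- A character having an irreducible constituent of at least its own degree is that constituent. -/
theorem d1m_bdry_eq_of_degree_le {H : Type u} [Group H] [Fintype H] {φ : H → ℂ}
    (hφ : IsCharacter H φ) (ψ : IrrCharacter H) (hne : classInner φ (ψ : H → ℂ) ≠ 0)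
    (hdeg : charDegree φ ≤ charDegree (ψ : H → ℂ)) : φ = (ψ : H → ℂ) := by
  classical
  haveI : Finite (IrrCharacter H) := irr_finite
  haveI := Fintype.ofFinite (IrrCharacter H)
  have hcf := IsCharacter.isClassFunction hφ
  have hn : ∀ θ : IrrCharacter H, ∃ n : ℕ, classInner φ (θ : H → ℂ) = n := fun θ =>
    classInner_char_char_nat hφ (IsIrrCharacter.isCharacter θ.2)
  choose n hn using hn
  have hφ1 : charDegree φ = ∑ θ : IrrCharacter H, n θ * charDegree (θ : H → ℂ) := by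
    have h1 : φ 1 = ∑ θ : IrrCharacter H, (n θ : ℂ) * (θ : H → ℂ) 1 := by
      conv_lhs => rw [classFunction_expansion φ hcf]
      rw [Finset.sum_apply]
      apply Finset.sum_congr rfl
      intro θ _
      rw [Pi.smul_apply, smul_eq_mul, hn]
    have h2 : ((charDegree φ : ℕ) : ℂ) =
        ((∑ θ : IrrCharacter H, n θ * charDegree (θ : H → ℂ) : ℕ) : ℂ) := by
      rw [charDegree_cast_of_isCharacter hφ, h1]
      push_cast
      apply Finset.sum_congr rfl
      intro θ _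
      rw [charDegree_cast_of_isCharacter (IsIrrCharacter.isCharacter θ.2)]
    exact_mod_cast h2
  have hnψ : n ψ ≠ 0 := by
    intro h0
    apply hne
    rw [hn ψ, h0, Nat.cast_zero]
  have hsplit : ∑ θ : IrrCharacter H, n θ * charDegree (θ : H → ℂ) =
      n ψ * charDegree (ψ : H → ℂ) +
        ∑ θ ∈ Finset.univ.erase ψ, n θ * charDegree (θ : H → ℂ) :=
    (Finset.add_sum_erase _ _ (Finset.mem_univ ψ)).symm
  have hψpos := d1_fin_charDegree_pos ψ
  have hge : charDegree (ψ : H → ℂ) ≤ n ψ * charDegree (ψ : H → ℂ) :=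
    Nat.le_mul_of_pos_left _ (Nat.pos_of_ne_zero hnψ)
  have hrest : ∑ θ ∈ Finset.univ.erase ψ, n θ * charDegree (θ : H → ℂ) = 0 := by omega
  have hnψ1 : n ψ = 1 := by
    have h1 : n ψ * charDegree (ψ : H → ℂ) ≤ 1 * charDegree (ψ : H → ℂ) := by omega
    have h2 := Nat.le_of_mul_le_mul_right h1 hψpos
    omega
  have hzero : ∀ θ : IrrCharacter H, θ ≠ ψ → n θ = 0 := by
    intro θ hθ
    have h1 := (Finset.sum_eq_zero_iff.mp hrest) θ (Finset.mem_erase.mpr ⟨hθ, Finset.mem_univ _⟩)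
    rcases Nat.mul_eq_zero.mp h1 with h2 | h2
    · exact h2
    · exact absurd h2 (d1_fin_charDegree_pos θ).ne'
  conv_lhs => rw [classFunction_expansion φ hcf]
  rw [Finset.sum_eq_single ψ]
  · rw [hn ψ, hnψ1, Nat.cast_one, one_smul]
  · intro θ _ hθ
    rw [hn θ, hzero θ hθ, Nat.cast_zero, zero_smul]
  · intro h
    exact absurd (Finset.mem_univ ψ) h

/-- `|P.subtype hle| = |P|` -/
theorem d1m_bdry_card_subtype {G : Type u} [Group G] (p : ℕ) [Fact p.Prime] (P : Sylow p G)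
    (G₁ : Subgroup G) (hle : (P : Subgroup G) ≤ G₁) :
    Nat.card ((P.subtype hle : Sylow p G₁) : Subgroup G₁) = Nat.card (P : Subgroup G) := by
  have h1 : ((P.subtype hle : Sylow p G₁) : Subgroup G₁) = (P : Subgroup G).subgroupOf G₁ :=
    Sylow.coe_subtype _ _
  rw [h1]
  exact Nat.card_congr (Subgroup.subgroupOfEquivOfLe hle).toEquiv

/-- **(O1), general form**: `χ` faithful with `2 χ(1) + 1 ≤ p`, `P` of order `p` not normal, `G₁ ⊴ G` with
`P ≤ G₁ = ⟨P^{G₁}⟩`: the restriction of `χ` to `G₁` is irreducible. -/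
theorem d1m_bdry_O1_gen {G : Type u} [Group G] [Finite G] (p : ℕ) [Fact p.Prime] (P : Sylow p G)
    (hP : Nat.card P = p)
    (G₁ : Subgroup G) (hG₁ : G₁.Normal) (hle : (P : Subgroup G) ≤ G₁)
    (hgen : Subgroup.normalClosure (((P.subtype hle : Sylow p G₁) : Subgroup G₁) : Set G₁) = ⊤)
    (hnn : ¬ (P : Subgroup G).Normal) (χ : G → ℂ) (hχ : IsCharacter G χ)
    (hfaith : ∀ g : G, χ g = χ 1 → g = 1) (hdeg : 2 * charDegree χ + 1 ≤ p) :
    IsIrrCharacter G₁ (fun x : G₁ => χ x) := by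
  classical
  haveI := Fintype.ofFinite G₁
  obtain ⟨ψ, hne, u, hu, hns⟩ := d1m_bdry_reduce p P G₁ hG₁ hle hgen hnn χ hχ hfaith
  have hχ₁ : IsCharacter G₁ (fun x : G₁ => χ x) := IsCharacter.restrict G₁ hχ
  have hP₁ : Nat.card ((P.subtype hle : Sylow p G₁) : Subgroup G₁) = p :=
    (d1m_bdry_card_subtype p P G₁ hle).trans hP
  have hbig : ¬ 2 * charDegree (ψ : G₁ → ℂ) + 1 < p := fun hlt =>
    hns (d1_brb_mt p (P.subtype hle) hP₁ hgen ψ hlt u hu)
  have hdeg₁ : charDegree (fun x : G₁ => χ x) = charDegree χ := rfl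
  have heq := d1m_bdry_eq_of_degree_le hχ₁ ψ hne (by rw [hdeg₁]; omega)
  rw [heq]
  exact ψ.2

/-- **(O2), general form**: in `G₁ = ⟨P^{G₁}⟩ ⊴ G` the normalizer of `P` is bigger than its centralizer. -/
theorem d1m_bdry_O2_gen {G : Type u} [Group G] [Finite G] (p : ℕ) [Fact p.Prime] (P : Sylow p G)
    (hP : Nat.card P = p)
    (G₁ : Subgroup G) (hG₁ : G₁.Normal) (hle : (P : Subgroup G) ≤ G₁)
    (hgen : Subgroup.normalClosure (((P.subtype hle : Sylow p G₁) : Subgroup G₁) : Set G₁) = ⊤)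
    (hnn : ¬ (P : Subgroup G).Normal) (χ : G → ℂ) (hχ : IsCharacter G χ)
    (hfaith : ∀ g : G, χ g = χ 1 → g = 1) (hdeg : 2 * charDegree χ + 1 ≤ p) :
    (Subgroup.centralizer (((P.subtype hle : Sylow p G₁) : Subgroup G₁) : Set G₁)).relIndex
      (Subgroup.normalizer (((P.subtype hle : Sylow p G₁) : Subgroup G₁) : Set G₁)) ≠ 1 := by
  classical
  haveI := Fintype.ofFinite G₁
  intro hNC
  obtain ⟨ψ, hne, u, hu, hns⟩ := d1m_bdry_reduce p P G₁ hG₁ hle hgen hnn χ hχ hfaith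
  have hχ₁ : IsCharacter G₁ (fun x : G₁ => χ x) := IsCharacter.restrict G₁ hχ
  have hP₁ : Nat.card ((P.subtype hle : Sylow p G₁) : Subgroup G₁) = p :=
    (d1m_bdry_card_subtype p P G₁ hle).trans hP
  obtain ⟨a, b, ha, hb, hab⟩ := degree_le_of_classInner_ne_zero hχ₁ ψ.2 hne
  have hψdeg : charDegree (ψ : G₁ → ℂ) = a := by
    have := charDegree_cast_of_isCharacter (IsIrrCharacter.isCharacter ψ.2)
    rw [ha] at this
    exact_mod_cast this
  have hχdeg : charDegree (fun x : G₁ => χ x) = b := by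
    have := charDegree_cast_of_isCharacter hχ₁
    rw [hb] at this
    exact_mod_cast this
  have hdeg₁ : charDegree (fun x : G₁ => χ x) = charDegree χ := rfl
  have hsmall : 2 * charDegree (ψ : G₁ → ℂ) + 1 ≤ p := by
    rw [hψdeg]
    rw [hdeg₁] at hχdeg
    omega
  exact hns (d1m_bdry_mt_le p (P.subtype hle) hP₁ hNC ψ hsmall u hu)

/-- **(O2), element form**: the normal closure of `P` contains an element normalising but not centralising `P`. -/
theorem d1m_bdry_O2 {G : Type u} [Group G] [Finite G] (p : ℕ) [Fact p.Prime] (P : Sylow p G)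
    (hP : Nat.card P = p) (hnn : ¬ (P : Subgroup G).Normal) (χ : G → ℂ) (hχ : IsCharacter G χ)
    (hfaith : ∀ g : G, χ g = χ 1 → g = 1) (hdeg : 2 * charDegree χ + 1 ≤ p) :
    ∃ c ∈ Subgroup.normalClosure ((P : Subgroup G) : Set G),
      c ∈ Subgroup.normalizer ((P : Subgroup G) : Set G) ∧
      c ∉ Subgroup.centralizer ((P : Subgroup G) : Set G) := by
  have hle : (P : Subgroup G) ≤ Subgroup.normalClosure ((P : Subgroup G) : Set G) :=
    Subgroup.le_normalClosure
  have hgen := d1_brb_normalClosure_top p P hle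
  have h := d1m_bdry_O2_gen p P hP _ Subgroup.normalClosure_normal hle hgen hnn χ hχ hfaith hdeg
  rw [Ne, Subgroup.relIndex_eq_one, SetLike.not_le_iff_exists] at h
  obtain ⟨c, hcN, hcC⟩ := h
  have h1 : ((P.subtype hle : Sylow p (Subgroup.normalClosure ((P : Subgroup G) : Set G))) :
      Subgroup (Subgroup.normalClosure ((P : Subgroup G) : Set G))) =
      (P : Subgroup G).subgroupOf (Subgroup.normalClosure ((P : Subgroup G) : Set G)) :=
    Sylow.coe_subtype _ _
  rw [h1] at hcN hcC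
  refine ⟨(c : G), c.2, ?_, ?_⟩
  · rw [Subgroup.mem_normalizer_iff]
    rw [Subgroup.mem_normalizer_iff] at hcN
    intro h
    constructor
    · intro hh
      have := (hcN ⟨h, hle hh⟩).mp (by rw [Subgroup.mem_subgroupOf]; exact hh)
      rw [Subgroup.mem_subgroupOf] at this
      simpa using this
    · intro hh
      have hmem : h ∈ Subgroup.normalClosure ((P : Subgroup G) : Set G) := by
        have h2 : h = (c : G)⁻¹ * ((c : G) * h * (c : G)⁻¹) * (c : G) := by group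
        rw [h2]
        exact Subgroup.mul_mem _ (Subgroup.mul_mem _ (Subgroup.inv_mem _ c.2) (hle hh)) c.2
      have := (hcN ⟨h, hmem⟩).mpr (by rw [Subgroup.mem_subgroupOf]; simpa using hh)
      rw [Subgroup.mem_subgroupOf] at this
      exact this
  · intro hcc
    apply hcC
    rw [Subgroup.mem_centralizer_iff]
    rw [Subgroup.mem_centralizer_iff] at hcc
    intro h hh
    rw [SetLike.mem_coe, Subgroup.mem_subgroupOf] at hh
    apply Subtype.ext
    simpa using hcc (h : G) hh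

/-- **(O2), commutator form**: `P` lies in the commutator subgroup of its normal closure. -/
theorem d1m_bdry_le_commutator {G : Type u} [Group G] [Finite G] (p : ℕ) [hp : Fact p.Prime]
    (P : Sylow p G)
    (hP : Nat.card P = p) (hnn : ¬ (P : Subgroup G).Normal) (χ : G → ℂ) (hχ : IsCharacter G χ)
    (hfaith : ∀ g : G, χ g = χ 1 → g = 1) (hdeg : 2 * charDegree χ + 1 ≤ p) :
    (P : Subgroup G) ≤ ⁅Subgroup.normalClosure ((P : Subgroup G) : Set G),
      Subgroup.normalClosure ((P : Subgroup G) : Set G)⁆ := by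
  obtain ⟨c, hcY, hcN, hcC⟩ := d1m_bdry_O2 p P hP hnn χ hχ hfaith hdeg
  rw [Subgroup.mem_centralizer_iff] at hcC
  push Not at hcC
  obtain ⟨x, hx, hne⟩ := hcC
  rw [SetLike.mem_coe] at hx
  have hle : (P : Subgroup G) ≤ Subgroup.normalClosure ((P : Subgroup G) : Set G) :=
    Subgroup.le_normalClosure
  have hvP : c * x * c⁻¹ * x⁻¹ ∈ (P : Subgroup G) := by
    have h1 : c * x * c⁻¹ ∈ (P : Subgroup G) := (Subgroup.mem_normalizer_iff.mp hcN x).mp hx
    exact Subgroup.mul_mem _ h1 (Subgroup.inv_mem _ hx)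
  have hv1 : c * x * c⁻¹ * x⁻¹ ≠ 1 := by
    intro h1
    apply hne
    have h2 : c * x = c * x * c⁻¹ * x⁻¹ * (x * c) := by group
    rw [h2, h1, one_mul]
  have hvK : c * x * c⁻¹ * x⁻¹ ∈ ⁅Subgroup.normalClosure ((P : Subgroup G) : Set G),
      Subgroup.normalClosure ((P : Subgroup G) : Set G)⁆ := by
    have := Subgroup.commutator_mem_commutator hcY (hle hx)
    rwa [commutatorElement_def] at this
  have hz := d1_sec_zpowers_eq (P : Subgroup G) hP _ hvP hv1
  intro y hy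
  rw [← hz] at hy
  exact (Subgroup.zpowers_le.mpr hvK) hy

/-- **(O2), perfect form**: the normal closure of `P` is perfect. -/
theorem d1m_bdry_syl_perfect {G : Type u} [Group G] [Finite G] (p : ℕ) [hp : Fact p.Prime]
    (P : Sylow p G)
    (hP : Nat.card P = p) (hnn : ¬ (P : Subgroup G).Normal) (χ : G → ℂ) (hχ : IsCharacter G χ)
    (hfaith : ∀ g : G, χ g = χ 1 → g = 1) (hdeg : 2 * charDegree χ + 1 ≤ p) :
    ⁅Subgroup.normalClosure ((P : Subgroup G) : Set G),
      Subgroup.normalClosure ((P : Subgroup G) : Set G)⁆ =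
      Subgroup.normalClosure ((P : Subgroup G) : Set G) := by
  apply le_antisymm
  · exact Subgroup.commutator_le_left _ _
  · haveI : (Subgroup.normalClosure ((P : Subgroup G) : Set G)).Normal :=
      Subgroup.normalClosure_normal
    apply Subgroup.normalClosure_le_normal
    exact d1m_bdry_le_commutator p P hP hnn χ hχ hfaith hdeg

/-- **(O2), corollary**: if `X / M` is abelian and `P ≰ M`, then `P` is normal in `X`. -/
theorem d1m_bdry_normal_of_abelian_quot {G : Type u} [Group G] [Finite G] (p : ℕ)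
    [hp : Fact p.Prime] (P : Sylow p G)
    (hP : Nat.card P = p) (χ : G → ℂ) (hχ : IsCharacter G χ)
    (hfaith : ∀ g : G, χ g = χ 1 → g = 1) (hdeg : 2 * charDegree χ + 1 ≤ p)
    (M : Subgroup G) (hM : commutator G ≤ M) (hPM : ¬ (P : Subgroup G) ≤ M) :
    (P : Subgroup G).Normal := by
  by_contra hnn
  apply hPM
  refine (d1m_bdry_le_commutator p P hP hnn χ hχ hfaith hdeg).trans (le_trans ?_ hM)
  rw [commutator_def]
  exact Subgroup.commutator_mono le_top le_top

end Cfsg.Agent.D1M
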