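import Mathlib
import Cfsg.Agent.D1M.BrbBdryA
import Cfsg.Agent.Helper6.PCGroupA
import Cfsg.Agent.Helper6.CentralDefectA

/-!
# S4504, seat 9: the ordinary input (O1), (O2), (O3) -- the four frozen exports

All under the hypotheses of S4504 (`p ‖ |G|`, no normal subgroup of order `p`, `χ` a faithful character with
`2 χ(1) + 1 = p`), for an element `x` of order `p`:

* `d1m_bdry_pprime_central` : every normal `p'`-subgroup is central;
* `d1m_bdry_automizer` : some `c ∈ ⟨x^G⟩` has `c x c⁻¹ = x ^ a ≠ x`;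
* `d1m_bdry_perfect` : `⟨x^G⟩` is perfect;
* `d1m_bdry_not_full` : some `x ^ a` (`p ∤ a`) is not conjugate to `x`.
-/

set_option autoImplicit false
set_option linter.unusedSectionVars false
set_option linter.style.haveILetI false

namespace Cfsg.Agent.D1M

open Cfsg Cfsg.Agent.Helper6 Cfsg.Agent.D1

open scoped ComplexConjugate commutatorElement

universe u

/-- the Sylow subgroup generated by an element of order `p`, under the hypotheses of S4504 -/
theorem d1m_bdry_setup {G : Type u} [Group G] [Finite G] (p : ℕ) [hp : Fact p.Prime]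
    (hsq : ¬ p ^ 2 ∣ Nat.card G) (hnn : ∀ H : Subgroup G, H.Normal → Nat.card H ≠ p)
    (x : G) (hx : orderOf x = p) :
    ∃ P : Sylow p G, (P : Subgroup G) = Subgroup.zpowers x ∧ Nat.card P = p ∧
      ¬ (P : Subgroup G).Normal ∧
      Subgroup.normalClosure ((P : Subgroup G) : Set G) = Subgroup.normalClosure ({x} : Set G) := by
  have hdiv : p ∣ Nat.card G := by rw [← hx]; exact orderOf_dvd_natCard x
  have hpg : IsPGroup p (Subgroup.zpowers x) := by
    apply IsPGroup.of_card (n := 1)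
    rw [Nat.card_zpowers, hx, pow_one]
  obtain ⟨P, hP⟩ := hpg.exists_le_sylow
  have hcard : Nat.card P = p := d1_brb_card_sylow p hdiv hsq P
  have hPx : (P : Subgroup G) = Subgroup.zpowers x := by
    symm
    apply Subgroup.eq_of_le_of_card_ge hP
    rw [hcard, Nat.card_zpowers, hx]
  refine ⟨P, hPx, hcard, fun h => hnn _ h hcard, ?_⟩
  rw [hPx, Subgroup.zpowers_eq_closure, Subgroup.normalClosure_closure_eq_normalClosure]

/-- natural exponents for the elements of `⟨x⟩` -/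
theorem d1m_bdry_exists_nat_pow {G : Type u} [Group G] (p : ℕ) (hp0 : p ≠ 0) (x : G)
    (hx : orderOf x = p) (y : G) (hy : y ∈ Subgroup.zpowers x) : ∃ a : ℕ, y = x ^ a := by
  obtain ⟨k, hk⟩ := Subgroup.mem_zpowers_iff.mp hy
  have hpos : (0 : ℤ) ≤ k % (p : ℤ) := Int.emod_nonneg k (by exact_mod_cast hp0)
  refine ⟨(k % (p : ℤ)).toNat, ?_⟩
  rw [← hk, ← zpow_natCast, Int.toNat_of_nonneg hpos, ← hx, zpow_mod_orderOf]

/-- (O2a) the automizer of `P` inside the normal closure is non-trivial -/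
theorem d1m_bdry_automizer {G : Type u} [Group G] [Finite G] (p : ℕ) (hp : p.Prime)
    (hdiv : p ∣ Nat.card G) (hsq : ¬ p ^ 2 ∣ Nat.card G)
    (hnn : ∀ H : Subgroup G, H.Normal → Nat.card H ≠ p) (χ : G → ℂ) (hχ : Cfsg.IsCharacter G χ)
    (hfaith : ∀ g : G, χ g = χ 1 → g = 1) (hdeg : 2 * Cfsg.charDegree χ + 1 = p)
    (x : G) (hx : orderOf x = p) :
    ∃ c ∈ Subgroup.normalClosure ({x} : Set G), ∃ a : ℕ, c * x * c⁻¹ = x ^ a ∧ x ^ a ≠ x := by
  haveI := Fact.mk hp
  obtain ⟨P, hPx, hPcard, hPnn, hcl⟩ := d1m_bdry_setup p hsq hnn x hx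
  obtain ⟨c, hcY, hcN, hcC⟩ := d1m_bdry_O2 p P hPcard hPnn χ hχ hfaith hdeg.le
  rw [hcl] at hcY
  refine ⟨c, hcY, ?_⟩
  have hxP : x ∈ (P : Subgroup G) := by rw [hPx]; exact Subgroup.mem_zpowers x
  have h1 : c * x * c⁻¹ ∈ (P : Subgroup G) := (Subgroup.mem_normalizer_iff.mp hcN x).mp hxP
  rw [hPx] at h1
  obtain ⟨a, ha⟩ := d1m_bdry_exists_nat_pow p hp.ne_zero x hx _ h1
  refine ⟨a, ha, ?_⟩
  intro hxa
  apply hcC
  rw [hxa] at ha
  have hcomm : Commute c x := by
    unfold Commute SemiconjBy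
    calc c * x = c * x * c⁻¹ * c := by group
      _ = x * c := by rw [ha]
  rw [Subgroup.mem_centralizer_iff]
  intro h hh
  rw [SetLike.mem_coe, hPx] at hh
  obtain ⟨k, hk⟩ := Subgroup.mem_zpowers_iff.mp hh
  rw [← hk]
  exact (hcomm.zpow_right k).eq.symm

/-- (O2b) the normal closure of `P` is perfect -/
theorem d1m_bdry_perfect {G : Type u} [Group G] [Finite G] (p : ℕ) (hp : p.Prime)
    (hdiv : p ∣ Nat.card G) (hsq : ¬ p ^ 2 ∣ Nat.card G)
    (hnn : ∀ H : Subgroup G, H.Normal → Nat.card H ≠ p) (χ : G → ℂ) (hχ : Cfsg.IsCharacter G χ)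
    (hfaith : ∀ g : G, χ g = χ 1 → g = 1) (hdeg : 2 * Cfsg.charDegree χ + 1 = p)
    (x : G) (hx : orderOf x = p) :
    ⁅Subgroup.normalClosure ({x} : Set G), Subgroup.normalClosure ({x} : Set G)⁆
      = Subgroup.normalClosure ({x} : Set G) := by
  haveI := Fact.mk hp
  obtain ⟨P, hPx, hPcard, hPnn, hcl⟩ := d1m_bdry_setup p hsq hnn x hx
  have h := d1m_bdry_syl_perfect p P hPcard hPnn χ hχ hfaith hdeg.le
  rw [hcl] at h
  exact h

/-- (O1) the restriction of `χ` to the normal closure of `x` is irreducible -/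
theorem d1m_bdry_irr {G : Type u} [Group G] [Finite G] (p : ℕ) (hp : p.Prime)
    (hdiv : p ∣ Nat.card G) (hsq : ¬ p ^ 2 ∣ Nat.card G)
    (hnn : ∀ H : Subgroup G, H.Normal → Nat.card H ≠ p) (χ : G → ℂ) (hχ : Cfsg.IsCharacter G χ)
    (hfaith : ∀ g : G, χ g = χ 1 → g = 1) (hdeg : 2 * Cfsg.charDegree χ + 1 = p)
    (x : G) (hx : orderOf x = p) :
    Cfsg.IsIrrCharacter (Subgroup.normalClosure ({x} : Set G))
      (fun h : Subgroup.normalClosure ({x} : Set G) => χ h) := by
  haveI := Fact.mk hp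
  obtain ⟨P, hPx, hPcard, hPnn, hcl⟩ := d1m_bdry_setup p hsq hnn x hx
  have hle : (P : Subgroup G) ≤ Subgroup.normalClosure ((P : Subgroup G) : Set G) :=
    Subgroup.le_normalClosure
  have hgen := d1_brb_normalClosure_top p P hle
  have h := d1m_bdry_O1_gen p P hPcard _ Subgroup.normalClosure_normal hle hgen hPnn χ hχ hfaith
    hdeg.le
  rw [← hcl]
  exact h

open Classical in
/-- the sum over `P` of `χ conj μ` for a class function constant (`= c`) on `P ∖ 1` -/
theorem d1m_bdry_sum_const {G : Type u} [Group G] [Finite G] {p : ℕ} [hp : Fact p.Prime]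
    {P C N : Subgroup G} {τ : ↥C →* ↥P} [Fintype P] (S : d1_sec_Setup p P C N τ) (χ : G → ℂ) (c : ℂ)
    (hconst : ∀ u : P, u ≠ 1 → χ u = c) (μ : ↥P →* ℂˣ) :
    ∑ u : P, χ u * conj ((μ u : ℂˣ) : ℂ) = χ 1 + c * ((if (1 : ↥P →* ℂˣ) = μ then (p : ℂ) else 0) - 1) := by
  have h3 : ∀ u : P, χ u * conj ((μ u : ℂˣ) : ℂ) =
      (if u = 1 then χ 1 else 0) + c * (if u = 1 then (0 : ℂ) else
        (((1 : ↥P →* ℂˣ) u : ℂˣ) : ℂ) * conj ((μ u : ℂˣ) : ℂ)) := by
    intro u
    by_cases hu : u = 1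
    · rw [if_pos hu, if_pos hu, mul_zero, add_zero, hu, Subgroup.coe_one, map_one, Units.val_one,
        map_one, mul_one]
    · rw [if_neg hu, if_neg hu, zero_add, hconst u hu, MonoidHom.one_apply, Units.val_one, one_mul]
  rw [Finset.sum_congr rfl (fun u _ => h3 u), Finset.sum_add_distrib,
    Finset.sum_ite_eq' Finset.univ (1 : P) (fun _ => χ 1), if_pos (Finset.mem_univ _),
    ← Finset.mul_sum, d1_brb_resp_sum_hom S 1 μ]

/-- (O3) the automizer of `P` in `G` is not all of `Aut(P)` -/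
theorem d1m_bdry_not_full {G : Type u} [Group G] [Finite G] (p : ℕ) (hp : p.Prime)
    (hdiv : p ∣ Nat.card G) (hsq : ¬ p ^ 2 ∣ Nat.card G)
    (hnn : ∀ H : Subgroup G, H.Normal → Nat.card H ≠ p) (χ : G → ℂ) (hχ : Cfsg.IsCharacter G χ)
    (hfaith : ∀ g : G, χ g = χ 1 → g = 1) (hdeg : 2 * Cfsg.charDegree χ + 1 = p)
    (x : G) (hx : orderOf x = p) :
    ∃ a : ℕ, ¬ p ∣ a ∧ ∀ g : G, g * x * g⁻¹ ≠ x ^ a := by
  classical
  haveI := Fact.mk hp
  by_contra hcon
  push Not at hcon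
  obtain ⟨P, hPx, hPcard, hPnn, hcl⟩ := d1m_bdry_setup p hsq hnn x hx
  haveI : Fintype ↥(P : Subgroup G) := Fintype.ofFinite _
  haveI : Fintype ↥(Subgroup.centralizer ((P : Subgroup G) : Set G)) := Fintype.ofFinite _
  obtain ⟨τ, S⟩ := d1_sec_exists_setup P hPcard
  have hcf := IsCharacter.isClassFunction hχ
  -- `χ` is constant on `P ∖ 1`
  have hconst : ∀ u : (P : Subgroup G), u ≠ 1 → χ u = χ x := by
    intro u hu
    have huP : (u : G) ∈ Subgroup.zpowers x := by rw [← hPx]; exact u.2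
    obtain ⟨a, ha⟩ := d1m_bdry_exists_nat_pow p hp.ne_zero x hx _ huP
    have hpa : ¬ p ∣ a := by
      intro hdvd
      apply hu
      apply Subtype.ext
      rw [ha, Subgroup.coe_one]
      rw [← hx] at hdvd
      exact orderOf_dvd_iff_pow_eq_one.mp hdvd
    obtain ⟨g, hg⟩ := hcon a hpa
    rw [ha, ← hg]
    exact hcf x g
  -- a non-trivial linear character of `P`
  have hnt := d1_sec_card_nontrivial S
  have hp2 := hp.two_le
  haveI : Nonempty {l : ↥(P : Subgroup G) →* ℂˣ // l ≠ 1} := by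
    apply Nat.card_pos_iff.mp (by rw [hnt]; omega) |>.1
  obtain ⟨⟨μ, hμ⟩⟩ := ‹Nonempty {l : ↥(P : Subgroup G) →* ℂˣ // l ≠ 1}›
  obtain ⟨a₀, ha₀⟩ := d1_brb_resp_nat (P := (P : Subgroup G)) hχ 1
  obtain ⟨a₁, ha₁⟩ := d1_brb_resp_nat (P := (P : Subgroup G)) hχ μ
  rw [d1m_bdry_sum_const S χ (χ x) hconst, hPcard] at ha₀ ha₁
  rw [if_pos rfl] at ha₀
  rw [if_neg (fun h => hμ h.symm)] at ha₁
  have hf := charDegree_cast_of_isCharacter hχ
  rw [← hf] at ha₀ ha₁
  have hpne : (p : ℂ) ≠ 0 := by exact_mod_cast hp.ne_zero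
  -- `f + a₁ = a₀ + p a₁`
  have hkey : (Cfsg.charDegree χ : ℂ) + (a₁ : ℂ) = (a₀ : ℂ) + (p : ℂ) * (a₁ : ℂ) := by
    have h1 : (p : ℂ) * ((Cfsg.charDegree χ : ℂ) + (a₁ : ℂ)) =
        (p : ℂ) * ((a₀ : ℂ) + (p : ℂ) * (a₁ : ℂ)) := by
      linear_combination ha₀ + ((p : ℂ) - 1) * ha₁
    exact mul_left_cancel₀ hpne h1
  have hkeyN : Cfsg.charDegree χ + a₁ = a₀ + p * a₁ := by exact_mod_cast hkey
  have ha₁0 : a₁ = 0 := by
    by_contra hne
    have h1 : 1 ≤ a₁ := Nat.one_le_iff_ne_zero.mpr hne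
    have h2 : p * 1 ≤ p * a₁ := Nat.mul_le_mul_left p h1
    have h3 : 2 * Cfsg.charDegree χ * 1 ≤ 2 * Cfsg.charDegree χ * a₁ := Nat.mul_le_mul_left _ h1
    have h4 : p * a₁ = 2 * Cfsg.charDegree χ * a₁ + a₁ := by rw [← hdeg]; ring
    omega
  rw [ha₁0, Nat.cast_zero, mul_zero] at ha₁
  have hval : χ x = χ 1 := by
    rw [← hf]
    linear_combination -ha₁
  have hx1 := hfaith x hval
  rw [hx1, orderOf_one] at hx
  omega

/-- An element centralising a subgroup on which the faithful character `χ` is irreducible is central. -/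
theorem d1m_bdry_central_of_centralizes {G : Type u} [Group G] [Finite G] (χ : G → ℂ)
    (hχ : Cfsg.IsCharacter G χ) (hfaith : ∀ g : G, χ g = χ 1 → g = 1) (H : Subgroup G)
    (hirr : Cfsg.IsIrrCharacter H (fun h : H => χ h)) (m : G) (hm : ∀ h ∈ H, h * m = m * h) :
    m ∈ Subgroup.center G := by
  classical
  obtain ⟨K, hK⟩ : ∃ K : Subgroup G, K = H ⊔ Subgroup.zpowers m := ⟨_, rfl⟩
  haveI : Fintype K := Fintype.ofFinite K
  haveI : Fintype H := Fintype.ofFinite H
  have hHK : H ≤ K := by rw [hK]; exact le_sup_left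
  have hmK : m ∈ K := by
    rw [hK]
    exact (le_sup_right : Subgroup.zpowers m ≤ H ⊔ Subgroup.zpowers m) (Subgroup.mem_zpowers m)
  have hKc : K ≤ Subgroup.centralizer ({m} : Set G) := by
    rw [hK]
    apply sup_le
    · intro h hh
      rw [Subgroup.mem_centralizer_iff]
      intro y hy
      rw [Set.mem_singleton_iff] at hy
      rw [hy]
      exact (hm h hh).symm
    · rw [Subgroup.zpowers_le, Subgroup.mem_centralizer_iff]
      intro y hy
      rw [Set.mem_singleton_iff] at hy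
      rw [hy]
  have hcenter : (⟨m, hmK⟩ : K) ∈ Subgroup.center K := by
    rw [Subgroup.mem_center_iff]
    intro k
    apply Subtype.ext
    have h1 := (Subgroup.mem_centralizer_iff.mp (hKc k.2)) m (Set.mem_singleton m)
    exact h1.symm
  have hχK : Cfsg.IsCharacter K (fun k : K => χ k) := IsCharacter.restrict K hχ
  have hirrK : Cfsg.IsIrrCharacter K (fun k : K => χ k) := by
    apply isIrrCharacter_of_comp_irr (Subgroup.inclusion hHK) hχK
    exact hirr
  obtain ⟨ω, hω1, hωmul⟩ := irr_center_mul ⟨_, hirrK⟩ ⟨m, hmK⟩ hcenter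
  have h1 : χ m = ω * χ 1 := by
    have := hωmul 1
    simpa using this
  have hnorm : ‖χ m‖ = (Cfsg.charDegree χ : ℝ) := by
    rw [h1, norm_mul, hω1, one_mul, ← charDegree_cast_of_isCharacter hχ, Complex.norm_natCast]
  rw [Subgroup.mem_center_iff]
  intro g
  have h2 := d1_brb_comm_ker hχ m hnorm g
  have h3 := hfaith _ h2
  calc g * m = (m * g * m⁻¹ * g⁻¹)⁻¹ * (m * g) := by group
    _ = m * g := by rw [h3, inv_one, one_mul]

/-- (O12) every normal `p'`-subgroup is central -/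
theorem d1m_bdry_pprime_central {G : Type u} [Group G] [Finite G] (p : ℕ) (hp : p.Prime)
    (hdiv : p ∣ Nat.card G) (hsq : ¬ p ^ 2 ∣ Nat.card G)
    (hnn : ∀ H : Subgroup G, H.Normal → Nat.card H ≠ p) (χ : G → ℂ) (hχ : Cfsg.IsCharacter G χ)
    (hfaith : ∀ g : G, χ g = χ 1 → g = 1) (hdeg : 2 * Cfsg.charDegree χ + 1 = p)
    (M : Subgroup G) (hM : M.Normal) (hMp : ¬ p ∣ Nat.card M) : M ≤ Subgroup.center G := by
  classical
  haveI := Fact.mk hp
  haveI := hM
  obtain ⟨x, hx⟩ := exists_prime_orderOf_dvd_card' p hdiv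
  obtain ⟨P, hPx, hPcard, hPnn, hcl⟩ := d1m_bdry_setup p hsq hnn x hx
  have hxP : x ∈ (P : Subgroup G) := by rw [hPx]; exact Subgroup.mem_zpowers x
  have hx1 : x ≠ 1 := by
    intro h
    rw [h, orderOf_one] at hx
    exact hp.one_lt.ne hx
  -- `P ∩ M = 1`
  have hdisj : ∀ u ∈ (P : Subgroup G), u ∈ M → u = 1 := by
    intro u huP huM
    by_contra hu1
    have h1 := d1_sec_orderOf_eq (P : Subgroup G) hPcard u huP hu1
    apply hMp
    rw [← h1, ← Subgroup.orderOf_mk u huM]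
    exact orderOf_dvd_natCard _
  -- Step 1: `M` normalises `P`
  have hMN : ∀ m ∈ M, ∀ u ∈ (P : Subgroup G), m * u * m⁻¹ ∈ (P : Subgroup G) := by
    obtain ⟨X, hX⟩ : ∃ X : Subgroup G, X = M ⊔ (P : Subgroup G) := ⟨_, rfl⟩
    have hPX : (P : Subgroup G) ≤ X := by rw [hX]; exact le_sup_right
    have hMX : M ≤ X := by rw [hX]; exact le_sup_left
    have hPXcard : Nat.card ((P.subtype hPX : Sylow p X) : Subgroup X) = p :=
      (d1m_bdry_card_subtype p P X hPX).trans hPcard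
    have hχX : Cfsg.IsCharacter X (fun y : X => χ y) := IsCharacter.restrict X hχ
    have hfaithX : ∀ y : X, (fun y : X => χ y) y = (fun y : X => χ y) 1 → y = 1 := by
      intro y hy
      exact Subtype.ext (hfaith _ hy)
    have hdegX : 2 * Cfsg.charDegree (fun y : X => χ y) + 1 ≤ p := by
      have : Cfsg.charDegree (fun y : X => χ y) = Cfsg.charDegree χ := rfl
      rw [this]
      exact hdeg.le
    have hcoe : ((P.subtype hPX : Sylow p X) : Subgroup X) = (P : Subgroup G).subgroupOf X :=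
      Sylow.coe_subtype _ _
    -- `X / M` is abelian
    have hcomm : commutator X ≤ M.subgroupOf X := by
      rw [commutator_def, Subgroup.commutator_le]
      intro y₁ _ y₂ _
      rw [Subgroup.mem_subgroupOf]
      have hdec : ∀ y : X, ∃ u ∈ (P : Subgroup G),
          (QuotientGroup.mk' M) (y : G) = (QuotientGroup.mk' M) u := by
        intro y
        have hy : (y : G) ∈ ((M ⊔ (P : Subgroup G) : Subgroup G) : Set G) := by
          rw [← hX]; exact y.2
        rw [Subgroup.normal_mul, Set.mem_mul] at hy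
        obtain ⟨m, hm, u, hu, hmu⟩ := hy
        refine ⟨u, hu, ?_⟩
        rw [← hmu, map_mul]
        have : (QuotientGroup.mk' M) m = 1 := by
          rw [QuotientGroup.mk'_apply, QuotientGroup.eq_one_iff]
          exact hm
        rw [this, one_mul]
      obtain ⟨u₁, hu₁, h₁⟩ := hdec y₁
      obtain ⟨u₂, hu₂, h₂⟩ := hdec y₂
      have h3 : (QuotientGroup.mk' M) ⁅(y₁ : G), (y₂ : G)⁆ = 1 := by
        rw [map_commutatorElement, h₁, h₂, ← map_commutatorElement]
        have : ⁅u₁, u₂⁆ = 1 := by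
          rw [commutatorElement_eq_one_iff_commute]
          exact d1_sec_comm (P : Subgroup G) hPcard u₁ hu₁ u₂ hu₂
        rw [this, map_one]
      rw [QuotientGroup.mk'_apply, QuotientGroup.eq_one_iff] at h3
      have h4 : ((⁅y₁, y₂⁆ : X) : G) = ⁅(y₁ : G), (y₂ : G)⁆ := by
        rw [commutatorElement_def, commutatorElement_def]
        simp
      rw [h4]
      exact h3
    have hnot : ¬ ((P.subtype hPX : Sylow p X) : Subgroup X) ≤ M.subgroupOf X := by
      intro hle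
      have h1 : (⟨x, hPX hxP⟩ : X) ∈ ((P.subtype hPX : Sylow p X) : Subgroup X) := by
        rw [hcoe, Subgroup.mem_subgroupOf]
        exact hxP
      have h2 := hle h1
      rw [Subgroup.mem_subgroupOf] at h2
      exact hx1 (hdisj x hxP h2)
    have hnorm := d1m_bdry_normal_of_abelian_quot p (P.subtype hPX) hPXcard _ hχX hfaithX hdegX
      (M.subgroupOf X) hcomm hnot
    intro m hm u hu
    have h1 : (⟨u, hPX hu⟩ : X) ∈ ((P.subtype hPX : Sylow p X) : Subgroup X) := by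
      rw [hcoe, Subgroup.mem_subgroupOf]
      exact hu
    have h2 := hnorm.conj_mem _ h1 ⟨m, hMX hm⟩
    rw [hcoe, Subgroup.mem_subgroupOf] at h2
    simpa using h2
  -- Step 2: `M` centralises `P`
  have hMC : ∀ m ∈ M, ∀ u ∈ (P : Subgroup G), m * u = u * m := by
    intro m hm u hu
    have h1 : m * u * m⁻¹ * u⁻¹ ∈ (P : Subgroup G) :=
      Subgroup.mul_mem _ (hMN m hm u hu) (Subgroup.inv_mem _ hu)
    have h2 : m * u * m⁻¹ * u⁻¹ ∈ M := by
      have h3 : m * (u * m⁻¹ * u⁻¹) ∈ M :=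
        Subgroup.mul_mem _ hm (hM.conj_mem m⁻¹ (Subgroup.inv_mem _ hm) u)
      have h4 : m * u * m⁻¹ * u⁻¹ = m * (u * m⁻¹ * u⁻¹) := by group
      rw [h4]
      exact h3
    have h3 := hdisj _ h1 h2
    calc m * u = (m * u * m⁻¹ * u⁻¹) * (u * m) := by group
      _ = u * m := by rw [h3, one_mul]
  -- Step 3: the normal closure of `P` centralises `M`
  have hHx : Subgroup.normalClosure ((P : Subgroup G) : Set G) ≤
      Subgroup.centralizer (M : Set G) := by
    apply Subgroup.normalClosure_le_normal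
    intro u hu
    rw [SetLike.mem_coe, Subgroup.mem_centralizer_iff]
    intro m hm
    exact hMC m hm u hu
  -- Step 4: Schur
  intro m hm
  apply d1m_bdry_central_of_centralizes χ hχ hfaith (Subgroup.normalClosure ({x} : Set G))
    (d1m_bdry_irr p hp hdiv hsq hnn χ hχ hfaith hdeg x hx) m
  intro h hh
  rw [← hcl] at hh
  exact ((Subgroup.mem_centralizer_iff.mp (hHx hh)) m hm).symm

end Cfsg.Agent.D1M
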