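import Mathlib

/-!
# S4504, file 7 (part 1): the geometry of the conic, pure linear algebra

`V` a 3-dimensional space over a field `k`, `B` a non-degenerate symmetric bilinear form.
(C1) a unipotent isometry of type `J₃` fixes exactly one line, and it is isotropic;
(C3) the "unitriangular" predicate of the flag `⟨v⟩ < v^⊥ < V`;
(C4) the centraliser of a `J₃`;
(C2) a diagonalisable non-scalar isometry fixes exactly two isotropic lines.
All statements are in vector form.
-/

namespace Cfsg.Agent.D1M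

open Module

variable {k : Type*} [Field k] {V : Type*} [AddCommGroup V] [Module k V]

/-- the adjoint of `u - 1` for an isometry `u`. -/
theorem d1m_conic_adj (B : LinearMap.BilinForm k V) (u : Module.End k V)
    (hu : ∀ a b, B (u a) (u b) = B a b) (a b : V) :
    B ((u - 1) a) (u b) = - B a ((u - 1) b) := by
  simp only [LinearMap.sub_apply, Module.End.one_apply, map_sub, LinearMap.sub_apply, hu]
  ring

/-- `w, N w, N² w` are linearly independent when `N³ w = 0 ≠ N² w`. -/
theorem d1m_conic_li3 (N : Module.End k V) (w : V) (h3 : N (N (N w)) = 0) (h2 : N (N w) ≠ 0) :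
    LinearIndependent k ![w, N w, N (N w)] := by
  rw [Fintype.linearIndependent_iff]
  intro c hc
  simp only [Fin.sum_univ_three, Matrix.cons_val_zero, Matrix.cons_val_one, Matrix.cons_val_two,
    Matrix.head_cons, Matrix.tail_cons] at hc
  have e1 := congrArg (fun z => N (N z)) hc
  simp only [map_add, map_smul, h3, map_zero, smul_zero, add_zero] at e1
  have c0 : c 0 = 0 := by
    rcases smul_eq_zero.mp e1 with h | h
    · exact h
    · exact absurd h h2
  rw [c0, zero_smul, zero_add] at hc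
  have e2 := congrArg (fun z => N z) hc
  simp only [map_add, map_smul, h3, smul_zero, add_zero, map_zero] at e2
  have c1 : c 1 = 0 := by
    rcases smul_eq_zero.mp e2 with h | h
    · exact h
    · exact absurd h h2
  rw [c1, zero_smul, zero_add] at hc
  have c2 : c 2 = 0 := by
    rcases smul_eq_zero.mp hc with h | h
    · exact h
    · exact absurd h h2
  intro i
  fin_cases i
  · exact c0
  · exact c1
  · exact c2

/-- three linearly independent vectors span a 3-dimensional space. -/
theorem d1m_conic_span3 (hV : finrank k V = 3) {e0 e1 e2 : V}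
    (hli : LinearIndependent k ![e0, e1, e2]) (w : V) :
    ∃ a b c : k, w = a • e0 + b • e1 + c • e2 := by
  have hcard : Fintype.card (Fin 3) = finrank k V := by simp [hV]
  let bs := basisOfLinearIndependentOfCardEqFinrank hli hcard
  have hs := bs.sum_repr w
  simp only [Fin.sum_univ_three, bs, coe_basisOfLinearIndependentOfCardEqFinrank,
    Matrix.cons_val_zero, Matrix.cons_val_one, Matrix.cons_val_two, Matrix.head_cons,
    Matrix.tail_cons] at hs
  exact ⟨_, _, _, hs.symm⟩

/-- the structure of a `J₃`-isometry: an adapted basis `w, N w, N² w`. -/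
theorem d1m_conic_J3_basis (hV : finrank k V = 3) (B : LinearMap.BilinForm k V)
    (hBs : ∀ a b, B a b = B b a) (hBn : ∀ a, (∀ b, B a b = 0) → a = 0)
    (u : Module.End k V) (hu : ∀ a b, B (u a) (u b) = B a b)
    (h3 : (u - 1) ^ 3 = 0) (h2 : (u - 1) ^ 2 ≠ 0) :
    ∃ w : V, LinearIndependent k ![w, (u - 1) w, (u - 1) ((u - 1) w)] ∧
      (∀ z, (u - 1) ((u - 1) ((u - 1) z)) = 0) ∧
      B ((u - 1) ((u - 1) w)) ((u - 1) ((u - 1) w)) = 0 ∧
      B ((u - 1) w) ((u - 1) ((u - 1) w)) = 0 ∧
      B w ((u - 1) ((u - 1) w)) ≠ 0 := by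
  have hN3 : ∀ z, (u - 1) ((u - 1) ((u - 1) z)) = 0 := by
    intro z
    have := LinearMap.congr_fun h3 z
    simpa [pow_succ, Module.End.mul_apply] using this
  obtain ⟨w, hw⟩ : ∃ w, (u - 1) ((u - 1) w) ≠ 0 := by
    by_contra hcon
    push Not at hcon
    apply h2
    ext z
    simpa [pow_succ, Module.End.mul_apply] using hcon z
  have hli := d1m_conic_li3 (u - 1) w (hN3 w) hw
  have huv : u ((u - 1) ((u - 1) w)) = (u - 1) ((u - 1) w) := by
    have := hN3 w
    rw [LinearMap.sub_apply, Module.End.one_apply, sub_eq_zero] at this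
    exact this
  have e1 : B ((u - 1) ((u - 1) w)) ((u - 1) ((u - 1) w)) = 0 := by
    have := d1m_conic_adj B u hu ((u - 1) w) ((u - 1) ((u - 1) w))
    rw [huv, hN3 w, map_zero, neg_zero] at this
    exact this
  have e2 : B ((u - 1) w) ((u - 1) ((u - 1) w)) = 0 := by
    have := d1m_conic_adj B u hu w ((u - 1) ((u - 1) w))
    rw [huv, hN3 w, map_zero, neg_zero] at this
    exact this
  refine ⟨w, hli, hN3, e1, e2, ?_⟩
  intro e3
  apply hw
  apply hBn
  intro b
  obtain ⟨α, β, γ, rfl⟩ := d1m_conic_span3 hV hli b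
  rw [hBs]
  simp only [map_add, map_smul, LinearMap.add_apply, LinearMap.smul_apply, e1, e2, e3,
    smul_eq_mul, mul_zero, add_zero]

/-- the unitriangular predicate of the flag `⟨v⟩ < v^⊥ < V`. -/
def d1m_conic_IsUT (B : LinearMap.BilinForm k V) (v : V) (h : Module.End k V) : Prop :=
  h v = v ∧ (∀ a, B (h a - a) v = 0) ∧ (∀ a, B a v = 0 → ∃ c : k, h a - a = c • v)

theorem d1m_conic_IsUT_one (B : LinearMap.BilinForm k V) (v : V) :
    d1m_conic_IsUT B v 1 := by
  refine ⟨rfl, fun a => by simp, fun a _ => ⟨0, by simp⟩⟩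

theorem d1m_conic_IsUT_mul (B : LinearMap.BilinForm k V) (v : V) (hv : B v v = 0)
    {h h' : Module.End k V} (hh : d1m_conic_IsUT B v h) (hh' : d1m_conic_IsUT B v h') :
    d1m_conic_IsUT B v (h * h') := by
  obtain ⟨h1, h2, h3⟩ := hh
  obtain ⟨h1', h2', h3'⟩ := hh'
  have key : ∀ a, (h * h') a - a = (h (h' a) - h' a) + (h' a - a) := by
    intro a; simp [Module.End.mul_apply]
  refine ⟨by rw [Module.End.mul_apply, h1', h1], fun a => ?_, fun a ha => ?_⟩
  · rw [key, map_add, LinearMap.add_apply, h2, h2', add_zero]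
  · obtain ⟨c', hc'⟩ := h3' a ha
    have hb : B (h' a) v = 0 := by
      have : h' a = a + c' • v := by rw [← hc']; abel
      rw [this, map_add, LinearMap.add_apply, ha, map_smul, LinearMap.smul_apply, hv]
      simp
    obtain ⟨c, hc⟩ := h3 (h' a) hb
    exact ⟨c + c', by rw [key, hc, hc', add_smul]⟩

theorem d1m_conic_IsUT_cube (B : LinearMap.BilinForm k V) (v : V)
    {h : Module.End k V} (hh : d1m_conic_IsUT B v h) : (h - 1) ^ 3 = 0 := by
  obtain ⟨h1, h2, h3⟩ := hh
  ext a
  obtain ⟨c, hc⟩ := h3 (h a - a) (h2 a)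
  simp only [pow_succ, pow_zero, one_mul, Module.End.mul_apply, LinearMap.sub_apply,
    Module.End.one_apply, LinearMap.zero_apply]
  rw [hc, map_smul, h1]
  simp

/-- **(C1)** a `J₃`-isometry fixes exactly one line, and that line is isotropic. -/
theorem d1m_conic_unip (hV : finrank k V = 3) (B : LinearMap.BilinForm k V)
    (hBs : ∀ a b, B a b = B b a) (hBn : ∀ a, (∀ b, B a b = 0) → a = 0)
    (u : Module.End k V) (hu : ∀ a b, B (u a) (u b) = B a b)
    (h3 : (u - 1) ^ 3 = 0) (h2 : (u - 1) ^ 2 ≠ 0) :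
    ∃ v : V, v ≠ 0 ∧ u v = v ∧ B v v = 0 ∧ d1m_conic_IsUT B v u ∧
      (∀ (z : V) (c : k), z ≠ 0 → u z = c • z → c = 1 ∧ ∃ d : k, z = d • v) := by
  obtain ⟨w, hli, hN3, e1, e2, e3⟩ := d1m_conic_J3_basis hV B hBs hBn u hu h3 h2
  have hv0 : (u - 1) ((u - 1) w) ≠ 0 := by
    intro h0; rw [h0, map_zero] at e3; exact e3 rfl
  have huv : u ((u - 1) ((u - 1) w)) = (u - 1) ((u - 1) w) := by
    have := hN3 w
    rw [LinearMap.sub_apply, Module.End.one_apply, sub_eq_zero] at this
    exact this
  have hNv : (u - 1) ((u - 1) ((u - 1) w)) = 0 := hN3 w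
  refine ⟨(u - 1) ((u - 1) w), hv0, huv, e1, ⟨huv, fun a => ?_, fun a ha => ?_⟩, ?_⟩
  · have := d1m_conic_adj B u hu a ((u - 1) ((u - 1) w))
    rw [huv, hNv, map_zero, neg_zero] at this
    simpa using this
  · obtain ⟨α, β, γ, rfl⟩ := d1m_conic_span3 hV hli a
    have hα : α = 0 := by
      simp only [map_add, map_smul, LinearMap.add_apply, LinearMap.smul_apply, e1, e2,
        smul_eq_mul, mul_zero, add_zero] at ha
      rcases mul_eq_zero.mp ha with h | h
      · exact h
      · exact absurd h e3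
    refine ⟨β, ?_⟩
    have : u (α • w + β • (u - 1) w + γ • (u - 1) ((u - 1) w)) -
        (α • w + β • (u - 1) w + γ • (u - 1) ((u - 1) w)) =
        (u - 1) (α • w + β • (u - 1) w + γ • (u - 1) ((u - 1) w)) := by
      simp
    rw [this, hα]
    simp only [map_add, map_smul, hNv, zero_smul, smul_zero, add_zero, zero_add]
  · intro z c hz hzc
    have hNz : (u - 1) z = (c - 1) • z := by
      rw [LinearMap.sub_apply, Module.End.one_apply, hzc, sub_smul, one_smul]
    have hc1 : c = 1 := by
      have := hN3 z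
      rw [hNz, map_smul, hNz, map_smul, map_smul, hNz, smul_smul, smul_smul] at this
      rcases smul_eq_zero.mp this with h | h
      · have : c - 1 = 0 := by
          rcases mul_eq_zero.mp h with h' | h'
          · rcases mul_eq_zero.mp h' with h'' | h''
            · exact h''
            · exact h''
          · exact h'
        exact sub_eq_zero.mp this
      · exact absurd h hz
    refine ⟨hc1, ?_⟩
    rw [hc1, sub_self, zero_smul] at hNz
    obtain ⟨α, β, γ, rfl⟩ := d1m_conic_span3 hV hli z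
    simp only [map_add, map_smul, hNv, smul_zero, add_zero] at hNz
    have hNNz := congrArg (fun t => (u - 1) t) hNz
    simp only [map_add, map_smul, hNv, smul_zero, add_zero, map_zero] at hNNz
    have hα : α = 0 := by
      rcases smul_eq_zero.mp hNNz with h | h
      · exact h
      · exact absurd h hv0
    rw [hα, zero_smul, zero_add] at hNz
    have hβ : β = 0 := by
      rcases smul_eq_zero.mp hNz with h | h
      · exact h
      · exact absurd h hv0
    exact ⟨γ, by rw [hα, hβ]; simp⟩

/-- the unitriangular predicate only depends on the line of `v`. -/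
theorem d1m_conic_IsUT_smul (B : LinearMap.BilinForm k V) (v : V) {d : k} (hd : d ≠ 0)
    {h : Module.End k V} (hh : d1m_conic_IsUT B v h) : d1m_conic_IsUT B (d • v) h := by
  obtain ⟨h1, h2, h3⟩ := hh
  refine ⟨by rw [map_smul, h1], fun a => by rw [map_smul, h2, smul_zero], fun a ha => ?_⟩
  rw [map_smul, smul_eq_mul] at ha
  have ha' : B a v = 0 := by
    rcases mul_eq_zero.mp ha with h | h
    · exact absurd h hd
    · exact h
  obtain ⟨c, hc⟩ := h3 a ha'
  exact ⟨c * d⁻¹, by rw [hc, smul_smul, mul_assoc, inv_mul_cancel₀ hd, mul_one]⟩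

/-- **(C3)** a `J₃`-isometry is unitriangular for the flag of any of its eigenvectors. -/
theorem d1m_conic_unip_UT (hV : finrank k V = 3) (B : LinearMap.BilinForm k V)
    (hBs : ∀ a b, B a b = B b a) (hBn : ∀ a, (∀ b, B a b = 0) → a = 0)
    (u : Module.End k V) (hu : ∀ a b, B (u a) (u b) = B a b)
    (h3 : (u - 1) ^ 3 = 0) (h2 : (u - 1) ^ 2 ≠ 0) (z : V) (c : k) (hz : z ≠ 0)
    (hzc : u z = c • z) : B z z = 0 ∧ d1m_conic_IsUT B z u := by
  obtain ⟨v, hv0, huv, hvv, hUT, huniq⟩ := d1m_conic_unip hV B hBs hBn u hu h3 h2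
  obtain ⟨-, d, rfl⟩ := huniq z c hz hzc
  have hd : d ≠ 0 := by
    intro h0; apply hz; rw [h0, zero_smul]
  refine ⟨by simp [hvv], d1m_conic_IsUT_smul B v hd hUT⟩

/-- the fixed line of a `J₃`-isometry is unique (vector form). -/
theorem d1m_conic_unip_unique (hV : finrank k V = 3) (B : LinearMap.BilinForm k V)
    (hBs : ∀ a b, B a b = B b a) (hBn : ∀ a, (∀ b, B a b = 0) → a = 0)
    (u : Module.End k V) (hu : ∀ a b, B (u a) (u b) = B a b)
    (h3 : (u - 1) ^ 3 = 0) (h2 : (u - 1) ^ 2 ≠ 0) (z z' : V) (c c' : k) (hz : z ≠ 0)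
    (hz' : z' ≠ 0) (hzc : u z = c • z) (hzc' : u z' = c' • z') : ∃ d : k, d ≠ 0 ∧ z' = d • z := by
  obtain ⟨v, hv0, huv, hvv, hUT, huniq⟩ := d1m_conic_unip hV B hBs hBn u hu h3 h2
  obtain ⟨-, d, rfl⟩ := huniq z c hz hzc
  obtain ⟨-, d', rfl⟩ := huniq z' c' hz' hzc'
  have hd : d ≠ 0 := by
    intro h0; apply hz; rw [h0, zero_smul]
  have hd' : d' ≠ 0 := by
    intro h0; apply hz'; rw [h0, zero_smul]
  exact ⟨d' * d⁻¹, mul_ne_zero hd' (inv_ne_zero hd),
    by rw [smul_smul, mul_assoc, inv_mul_cancel₀ hd, mul_one]⟩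

/-- **(C4)** the centraliser of a `J₃` is `k[u]`. -/
theorem d1m_conic_cent (hV : finrank k V = 3) (u : Module.End k V)
    (h3 : (u - 1) ^ 3 = 0) (h2 : (u - 1) ^ 2 ≠ 0) (h : Module.End k V) (hc : h * u = u * h) :
    ∃ a b c : k, h = a • (1 : Module.End k V) + b • (u - 1) + c • (u - 1) ^ 2 := by
  have hN3 : ∀ z, (u - 1) ((u - 1) ((u - 1) z)) = 0 := by
    intro z
    have := LinearMap.congr_fun h3 z
    simpa [pow_succ, Module.End.mul_apply] using this
  obtain ⟨w, hw⟩ : ∃ w, (u - 1) ((u - 1) w) ≠ 0 := by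
    by_contra hcon
    push Not at hcon
    apply h2
    ext z
    simpa [pow_succ, Module.End.mul_apply] using hcon z
  have hli := d1m_conic_li3 (u - 1) w (hN3 w) hw
  have hcN : ∀ z, h ((u - 1) z) = (u - 1) (h z) := by
    intro z
    have := LinearMap.congr_fun hc z
    simp only [Module.End.mul_apply] at this
    simp only [LinearMap.sub_apply, Module.End.one_apply, map_sub, this]
  obtain ⟨a, b, c, habc⟩ := d1m_conic_span3 hV hli (h w)
  refine ⟨a, b, c, ?_⟩
  ext z
  obtain ⟨α, β, γ, rfl⟩ := d1m_conic_span3 hV hli z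
  have e1 : h ((u - 1) w) = a • (u - 1) w + b • (u - 1) ((u - 1) w) := by
    rw [hcN, habc]
    simp only [map_add, map_smul, hN3, smul_zero, add_zero]
  have e2 : h ((u - 1) ((u - 1) w)) = a • (u - 1) ((u - 1) w) := by
    rw [hcN, e1]
    simp only [map_add, map_smul, hN3, smul_zero, add_zero]
  simp only [map_add, map_smul, habc, e1, e2, LinearMap.add_apply, LinearMap.smul_apply,
    Module.End.one_apply, pow_succ, pow_zero, one_mul, Module.End.mul_apply, hN3, smul_zero,
    add_zero, map_zero]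

/-- a semisimple element of the centraliser of a `J₃` is scalar. -/
theorem d1m_conic_cent_scalar (hV : finrank k V = 3) (u : Module.End k V)
    (h3 : (u - 1) ^ 3 = 0) (h2 : (u - 1) ^ 2 ≠ 0) (h : Module.End k V) (hc : h * u = u * h)
    (r : ℕ) (hr : h ^ r = 1) (hrk : (r : k) ≠ 0) : ∃ a : k, h = a • (1 : Module.End k V) := by
  obtain ⟨a, b, c, habc⟩ := d1m_conic_cent hV u h3 h2 h hc
  refine ⟨a, ?_⟩
  have hss : h.IsSemisimple := by
    apply Module.End.isSemisimple_of_squarefree_aeval_eq_zero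
      (p := (Polynomial.X ^ r - 1 : Polynomial k))
    · exact (Polynomial.X_pow_sub_one_separable_iff.mpr hrk).squarefree
    · simp [hr]
  have hss' : (h - algebraMap k (Module.End k V) a).IsSemisimple :=
    Module.End.isSemisimple_sub_algebraMap_iff.mpr hss
  have hnil : IsNilpotent (h - algebraMap k (Module.End k V) a) := by
    refine ⟨3, ?_⟩
    have : h - algebraMap k (Module.End k V) a = (u - 1) * (b • 1 + c • (u - 1)) := by
      rw [habc, Algebra.algebraMap_eq_smul_one]
      simp only [pow_two, mul_add, mul_smul_comm, mul_one]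
      abel
    have hcomm : Commute (u - 1) (b • (1 : Module.End k V) + c • (u - 1)) :=
      Commute.add_right (Commute.smul_right (Commute.one_right _) b)
        (Commute.smul_right (Commute.refl _) c)
    rw [this, hcomm.mul_pow, h3, zero_mul]
  have := Module.End.eq_zero_of_isNilpotent_isSemisimple hnil hss'
  rw [sub_eq_zero] at this
  rw [this, Algebra.algebraMap_eq_smul_one]

/-- if `h u h⁻¹ = c u` for a `J₃`-isometry `u`, then `c = 1`. -/
theorem d1m_conic_conj_scalar (hV : finrank k V = 3) (B : LinearMap.BilinForm k V)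
    (hBs : ∀ a b, B a b = B b a) (hBn : ∀ a, (∀ b, B a b = 0) → a = 0)
    (u : Module.End k V) (hu : ∀ a b, B (u a) (u b) = B a b)
    (h3 : (u - 1) ^ 3 = 0) (h2 : (u - 1) ^ 2 ≠ 0) (h : Module.End k V)
    (hinj : Function.Injective h) (c : k) (hc : h * u = c • (u * h)) : c = 1 := by
  obtain ⟨v, hv0, huv, hvv, hUT, huniq⟩ := d1m_conic_unip hV B hBs hBn u hu h3 h2
  have e := LinearMap.congr_fun hc v
  simp only [Module.End.mul_apply, LinearMap.smul_apply, huv] at e
  have hhv : h v ≠ 0 := by
    intro h0; apply hv0; apply hinj; rw [h0, map_zero]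
  have hc0 : c ≠ 0 := by
    intro h0; rw [h0, zero_smul] at e; exact hhv e
  have e' : u (h v) = c⁻¹ • h v := by
    conv_rhs => rw [e]
    rw [smul_smul, inv_mul_cancel₀ hc0, one_smul]
  obtain ⟨h1, -⟩ := huniq (h v) c⁻¹ hhv e'
  exact inv_eq_one.mp h1

/-- unitriangular elements have order dividing `p` in characteristic `p ≥ 3`. -/
theorem d1m_conic_IsUT_pow (B : LinearMap.BilinForm k V) (v : V) (p : ℕ) [Fact p.Prime]
    [CharP k p] (hp2 : p ≠ 2) [Nontrivial V]
    {h : Module.End k V} (hh : d1m_conic_IsUT B v h) : h ^ p = 1 := by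
  have h3 := d1m_conic_IsUT_cube B v hh
  haveI : CharP (Module.End k V) p :=
    charP_of_injective_algebraMap (algebraMap k (Module.End k V)).injective p
  have hp3 : 3 ≤ p := by
    have := (Fact.out : p.Prime).two_le
    omega
  have e : (h - 1) ^ p = h ^ p - 1 := by
    rw [sub_pow_char_of_commute p (Commute.one_right h), one_pow]
  have : (h - 1) ^ p = 0 := by
    rw [← Nat.sub_add_cancel hp3, pow_add, h3, mul_zero]
  rw [e, sub_eq_zero] at this
  exact this

/-! ### (C2): diagonalisable isometries -/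

/-- coefficient extraction for three linearly independent vectors. -/
theorem d1m_conic_li3_coeff {e0 e1 e2 : V} (hli : LinearIndependent k ![e0, e1, e2])
    {α β γ : k} (h : α • e0 + β • e1 + γ • e2 = 0) : α = 0 ∧ β = 0 ∧ γ = 0 := by
  have := Fintype.linearIndependent_iff.mp hli ![α, β, γ] (by
    simpa [Fin.sum_univ_three] using h)
  exact ⟨this 0, this 1, this 2⟩

/-- eigenvectors with `λ μ ≠ 1` are orthogonal. -/
theorem d1m_conic_eig_orth (B : LinearMap.BilinForm k V) (g : Module.End k V)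
    (hg : ∀ a b, B (g a) (g b) = B a b) {a b : V} {l m : k} (ha : g a = l • a)
    (hb : g b = m • b) (hlm : l * m ≠ 1) : B a b = 0 := by
  have := hg a b
  rw [ha, hb, map_smul, map_smul, LinearMap.smul_apply, smul_eq_mul, smul_eq_mul] at this
  have h2 : (l * m - 1) * B a b = 0 := by
    linear_combination this
  rcases mul_eq_zero.mp h2 with h | h
  · exact absurd (sub_eq_zero.mp h) hlm
  · exact h

/-- an eigenvector pairs non-trivially with an eigenvector for the inverse eigenvalue. -/
theorem d1m_conic_eig_pair (B : LinearMap.BilinForm k V)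
    (hBn : ∀ a, (∀ b, B a b = 0) → a = 0) (g : Module.End k V)
    (hg : ∀ a b, B (g a) (g b) = B a b)
    (hdiag : ⨆ μ : k, Module.End.eigenspace g μ = ⊤) {a : V} {l : k} (ha0 : a ≠ 0)
    (ha : g a = l • a) : ∃ b : V, g b = l⁻¹ • b ∧ B a b ≠ 0 := by
  by_contra hcon
  push Not at hcon
  apply ha0
  apply hBn
  intro b
  have hb : b ∈ ⨆ μ : k, Module.End.eigenspace g μ := by rw [hdiag]; trivial
  refine Submodule.iSup_induction (fun μ : k => Module.End.eigenspace g μ)
    (motive := fun b => B a b = 0) hb ?_ (by simp) ?_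
  · intro μ x hx
    rw [Module.End.mem_eigenspace_iff] at hx
    by_cases hlm : l * μ = 1
    · have : μ = l⁻¹ := (eq_inv_of_mul_eq_one_right hlm)
      rw [this] at hx
      exact hcon x hx
    · exact d1m_conic_eig_orth B g hg ha hx hlm
  · intro x y hx hy
    rw [map_add, hx, hy, add_zero]

/-- a totally isotropic subspace has dimension at most one (vector form). -/
theorem d1m_conic_iso_pair (hV : finrank k V = 3) (B : LinearMap.BilinForm k V)
    (hBs : ∀ a b, B a b = B b a) (hBn : ∀ a, (∀ b, B a b = 0) → a = 0)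
    {a b : V} (ha0 : a ≠ 0) (haa : B a a = 0) (hab : B a b = 0) (hbb : B b b = 0) :
    ∃ d : k, b = d • a := by
  by_contra hcon
  push Not at hcon
  have hli2 : LinearIndependent k ![a, b] := by
    rw [LinearIndependent.pair_iff]
    intro s t hst
    by_cases ht : t = 0
    · rw [ht, zero_smul, add_zero] at hst
      rcases smul_eq_zero.mp hst with h | h
      · exact ⟨h, ht⟩
      · exact absurd h ha0
    · exfalso
      apply hcon (-(t⁻¹ * s))
      have : t • b = -(s • a) := eq_neg_of_add_eq_zero_right hst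
      calc b = t⁻¹ • (t • b) := by rw [smul_smul, inv_mul_cancel₀ ht, one_smul]
        _ = -(t⁻¹ * s) • a := by rw [this, smul_neg, smul_smul, neg_smul]
  obtain ⟨x, hli⟩ := exists_linearIndependent_cons_of_lt_finrank hli2 (by rw [hV]; norm_num)
  have hli' : LinearIndependent k ![x, a, b] := hli
  have hba : B b a = 0 := by rw [hBs]; exact hab
  have hz : (B b x) • a - (B a x) • b = 0 := by
    apply hBn
    intro w
    obtain ⟨α, β, γ, rfl⟩ := d1m_conic_span3 hV hli' w
    simp only [map_add, map_smul, map_sub, LinearMap.sub_apply, LinearMap.smul_apply,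
      smul_eq_mul, haa, hab, hba, hbb, mul_zero, add_zero]
    ring
  have hz' : (0 : k) • x + (B b x) • a + (-(B a x)) • b = 0 := by
    rw [zero_smul, zero_add, neg_smul, ← sub_eq_add_neg]; exact hz
  obtain ⟨-, h1, h2⟩ := d1m_conic_li3_coeff hli' hz'
  apply ha0
  apply hBn
  intro w
  obtain ⟨α, β, γ, rfl⟩ := d1m_conic_span3 hV hli' w
  have h2' : B a x = 0 := neg_eq_zero.mp h2
  simp only [map_add, map_smul, smul_eq_mul, haa, hab, h2', mul_zero, add_zero]

/-- the zeros of a non-degenerate binary quadratic form over an algebraically closed field of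
characteristic `≠ 2`: exactly two points of the projective line. -/
theorem d1m_conic_quad [IsAlgClosed k] (h2k : (2 : k) ≠ 0) (p q r : k)
    (hd : p * r - q * q ≠ 0) :
    ∃ x₁ y₁ x₂ y₂ : k, x₁ * y₂ - x₂ * y₁ ≠ 0 ∧
      p * x₁ ^ 2 + 2 * q * x₁ * y₁ + r * y₁ ^ 2 = 0 ∧
      p * x₂ ^ 2 + 2 * q * x₂ * y₂ + r * y₂ ^ 2 = 0 ∧
      ∀ x y : k, p * x ^ 2 + 2 * q * x * y + r * y ^ 2 = 0 →
        x * y₁ - y * x₁ = 0 ∨ x * y₂ - y * x₂ = 0 := by
  obtain ⟨δ, hδ⟩ := IsAlgClosed.exists_pow_nat_eq (q * q - p * r) (n := 2) (by norm_num)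
  have hδ0 : δ ≠ 0 := by
    intro h0
    rw [h0] at hδ
    apply hd
    have : q * q - p * r = 0 := by rw [← hδ]; ring
    rw [← neg_sub, this, neg_zero]
  by_cases hp : p = 0
  · have hq : q ≠ 0 := by
      intro h0; apply hd; rw [hp, h0]; ring
    refine ⟨1, 0, -r, 2 * q, ?_, ?_, ?_, ?_⟩
    · simpa using mul_ne_zero h2k hq
    · rw [hp]; ring
    · rw [hp]; ring
    · intro x y hxy
      rw [hp] at hxy
      have : y * (2 * q * x + r * y) = 0 := by rw [← hxy]; ring
      rcases mul_eq_zero.mp this with h | h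
      · left; rw [h]; ring
      · right; rw [← h]; ring
  · refine ⟨δ - q, p, -q - δ, p, ?_, ?_, ?_, ?_⟩
    · have : (δ - q) * p - (-q - δ) * p = 2 * δ * p := by ring
      rw [this]
      exact mul_ne_zero (mul_ne_zero h2k hδ0) hp
    · have : p * (δ - q) ^ 2 + 2 * q * (δ - q) * p + r * p ^ 2 =
          p * (δ ^ 2 - (q * q - p * r)) := by ring
      rw [this, hδ, sub_self, mul_zero]
    · have : p * (-q - δ) ^ 2 + 2 * q * (-q - δ) * p + r * p ^ 2 =
          p * (δ ^ 2 - (q * q - p * r)) := by ring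
      rw [this, hδ, sub_self, mul_zero]
    · intro x y hxy
      have : (x * p - y * (δ - q)) * (x * p - y * (-q - δ)) = 0 := by
        have e : (x * p - y * (δ - q)) * (x * p - y * (-q - δ)) =
            p * (p * x ^ 2 + 2 * q * x * y + r * y ^ 2) - y ^ 2 * (δ ^ 2 - (q * q - p * r)) := by
          ring
        rw [e, hxy, hδ, sub_self, mul_zero, mul_zero, sub_zero]
      exact mul_eq_zero.mp this

/-- the conclusion of (C2), as a predicate. -/
def d1m_conic_TwoPts (B : LinearMap.BilinForm k V) (g : Module.End k V) : Prop :=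
  ∃ v₁ v₂ : V, v₁ ≠ 0 ∧ v₂ ≠ 0 ∧ (∀ d : k, v₂ ≠ d • v₁) ∧ B v₁ v₁ = 0 ∧ B v₂ v₂ = 0 ∧
    (∃ c₁ : k, g v₁ = c₁ • v₁) ∧ (∃ c₂ : k, g v₂ = c₂ • v₂) ∧
    ∀ (w : V) (c : k), w ≠ 0 → g w = c • w → B w w = 0 →
      (∃ d : k, w = d • v₁) ∨ (∃ d : k, w = d • v₂)

/-- (C2), case A: some eigenvalue has square `≠ 1`. -/
theorem d1m_conic_semis_A (hV : finrank k V = 3) (B : LinearMap.BilinForm k V)
    (hBs : ∀ a b, B a b = B b a) (hBn : ∀ a, (∀ b, B a b = 0) → a = 0)
    (g : Module.End k V) (hg : ∀ a b, B (g a) (g b) = B a b)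
    (hdiag : ⨆ μ : k, Module.End.eigenspace g μ = ⊤) (μ : k) (v₁ : V) (hv₁ : v₁ ≠ 0)
    (hgv₁ : g v₁ = μ • v₁) (hμ : μ * μ ≠ 1) : d1m_conic_TwoPts B g := by
  obtain ⟨v₂, hgv₂, h12⟩ := d1m_conic_eig_pair B hBn g hg hdiag hv₁ hgv₁
  have hμ' : μ⁻¹ * μ⁻¹ ≠ 1 := by
    rw [← mul_inv, Ne, inv_eq_one]; exact hμ
  have h11 : B v₁ v₁ = 0 := d1m_conic_eig_orth B g hg hgv₁ hgv₁ hμ
  have h22 : B v₂ v₂ = 0 := d1m_conic_eig_orth B g hg hgv₂ hgv₂ hμ'
  have hv₂ : v₂ ≠ 0 := by
    intro h0; apply h12; rw [h0, map_zero]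
  refine ⟨v₁, v₂, hv₁, hv₂, ?_, h11, h22, ⟨μ, hgv₁⟩, ⟨μ⁻¹, hgv₂⟩, ?_⟩
  · intro d hd
    apply h12
    rw [hd, map_smul, h11, smul_zero]
  · intro w c hw hgw hww
    by_cases hc : c * μ = 1
    · right
      have hc' : c = μ⁻¹ := eq_inv_of_mul_eq_one_left hc
      have hwv : B w v₂ = 0 := by
        apply d1m_conic_eig_orth B g hg hgw hgv₂
        rw [hc']; exact hμ'
      have hvw : B v₂ w = 0 := by rw [hBs]; exact hwv
      exact d1m_conic_iso_pair hV B hBs hBn hv₂ h22 hvw hww
    · left
      have hwv : B w v₁ = 0 := d1m_conic_eig_orth B g hg hgw hgv₁ hc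
      have hvw : B v₁ w = 0 := by rw [hBs]; exact hwv
      exact d1m_conic_iso_pair hV B hBs hBn hv₁ h11 hvw hww

/-- (C2), case B: a plane of eigenvectors for `ε = ±1` and an eigenvector for `-ε`. -/
theorem d1m_conic_semis_B [IsAlgClosed k] (h2k : (2 : k) ≠ 0) (hV : finrank k V = 3)
    (B : LinearMap.BilinForm k V)
    (hBs : ∀ a b, B a b = B b a) (hBn : ∀ a, (∀ b, B a b = 0) → a = 0)
    (g : Module.End k V) (hg : ∀ a b, B (g a) (g b) = B a b)
    (ε : k) (hε : ε * ε = 1) (b₁ b₂ a : V) (hb₁ : b₁ ≠ 0) (hb₂ : ∀ d : k, b₂ ≠ d • b₁)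
    (ha : a ≠ 0) (hgb₁ : g b₁ = ε • b₁) (hgb₂ : g b₂ = ε • b₂) (hga : g a = (-ε) • a) :
    d1m_conic_TwoPts B g := by
  have hε0 : ε ≠ 0 := by
    intro h0; rw [h0, zero_mul] at hε; exact zero_ne_one hε
  have hli : LinearIndependent k ![b₁, b₂, a] := by
    rw [Fintype.linearIndependent_iff]
    intro c hc
    simp only [Fin.sum_univ_three, Matrix.cons_val_zero, Matrix.cons_val_one,
      Matrix.cons_val_two, Matrix.head_cons, Matrix.tail_cons] at hc
    have hc' := congrArg (fun z => g z) hc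
    simp only [map_add, map_smul, hgb₁, hgb₂, hga, map_zero] at hc'
    have e : (2 * ε * c 2) • a = 0 := by
      have : (2 * ε * c 2) • a = ε • (c 0 • b₁ + c 1 • b₂ + c 2 • a) -
          (c 0 • ε • b₁ + c 1 • ε • b₂ + c 2 • -ε • a) := by
        module
      rw [this, hc, hc', smul_zero, sub_zero]
    have c2 : c 2 = 0 := by
      rcases smul_eq_zero.mp e with h | h
      · rcases mul_eq_zero.mp h with h' | h'
        · rcases mul_eq_zero.mp h' with h'' | h''
          · exact absurd h'' h2k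
          · exact absurd h'' hε0
        · exact h'
      · exact absurd h ha
    rw [c2, zero_smul, add_zero] at hc
    have c1 : c 1 = 0 := by
      by_contra hne
      apply hb₂ (-((c 1)⁻¹ * c 0))
      have : c 1 • b₂ = -(c 0 • b₁) := eq_neg_of_add_eq_zero_right hc
      calc b₂ = (c 1)⁻¹ • (c 1 • b₂) := by rw [smul_smul, inv_mul_cancel₀ hne, one_smul]
        _ = -((c 1)⁻¹ * c 0) • b₁ := by rw [this, smul_neg, smul_smul, neg_smul]
    rw [c1, zero_smul, add_zero] at hc
    have c0 : c 0 = 0 := by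
      rcases smul_eq_zero.mp hc with h | h
      · exact h
      · exact absurd h hb₁
    intro i
    fin_cases i
    · exact c0
    · exact c1
    · exact c2
  have hε2 : ε * -ε ≠ 1 := by
    intro h
    have h' : (2 : k) = 0 := by linear_combination (-1 : k) * hε + (-1 : k) * h
    exact h2k h'
  have h1a : B b₁ a = 0 := d1m_conic_eig_orth B g hg hgb₁ hga hε2
  have h2a : B b₂ a = 0 := d1m_conic_eig_orth B g hg hgb₂ hga hε2
  have ha1 : B a b₁ = 0 := by rw [hBs]; exact h1a
  have ha2 : B a b₂ = 0 := by rw [hBs]; exact h2a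
  have h21 : B b₂ b₁ = B b₁ b₂ := hBs _ _
  have hdisc : B b₁ b₁ * B b₂ b₂ - B b₁ b₂ * B b₁ b₂ ≠ 0 := by
    intro h0
    have hz : (B b₁ b₂) • b₁ + (-(B b₁ b₁)) • b₂ + (0 : k) • a = 0 := by
      apply hBn
      intro w
      obtain ⟨α, β, γ, rfl⟩ := d1m_conic_span3 hV hli w
      simp only [map_add, map_smul, LinearMap.add_apply, LinearMap.smul_apply, smul_eq_mul,
        h1a, h2a, ha1, ha2, h21, zero_smul, map_zero, LinearMap.zero_apply, mul_zero,
        add_zero, neg_mul, map_neg, LinearMap.neg_apply, mul_neg]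
      linear_combination (-β) * h0
    obtain ⟨hq, hp, -⟩ := d1m_conic_li3_coeff hli hz
    have hp' : B b₁ b₁ = 0 := neg_eq_zero.mp hp
    apply hb₁
    apply hBn
    intro w
    obtain ⟨α, β, γ, rfl⟩ := d1m_conic_span3 hV hli w
    simp only [map_add, map_smul, smul_eq_mul, hp', hq, h1a, mul_zero, add_zero]
  obtain ⟨x₁, y₁, x₂, y₂, hdet, hQ1, hQ2, hall⟩ :=
    d1m_conic_quad h2k (B b₁ b₁) (B b₁ b₂) (B b₂ b₂) hdisc
  have hform : ∀ x y : k, B (x • b₁ + y • b₂) (x • b₁ + y • b₂) =
      B b₁ b₁ * x ^ 2 + 2 * B b₁ b₂ * x * y + B b₂ b₂ * y ^ 2 := by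
    intro x y
    simp only [map_add, map_smul, LinearMap.add_apply, LinearMap.smul_apply, smul_eq_mul, h21]
    ring
  have hne : ∀ x y : k, x • b₁ + y • b₂ = 0 → x = 0 ∧ y = 0 := by
    intro x y hxy
    have : x • b₁ + y • b₂ + (0 : k) • a = 0 := by rw [zero_smul, add_zero]; exact hxy
    obtain ⟨h1, h2, -⟩ := d1m_conic_li3_coeff hli this
    exact ⟨h1, h2⟩
  have hgxy : ∀ x y : k, g (x • b₁ + y • b₂) = ε • (x • b₁ + y • b₂) := by
    intro x y
    rw [map_add, map_smul, map_smul, hgb₁, hgb₂, smul_add, smul_comm x ε, smul_comm y ε]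
  refine ⟨x₁ • b₁ + y₁ • b₂, x₂ • b₁ + y₂ • b₂, ?_, ?_, ?_, ?_, ?_, ⟨ε, hgxy _ _⟩,
    ⟨ε, hgxy _ _⟩, ?_⟩
  · intro h0
    obtain ⟨h1, h2⟩ := hne _ _ h0
    apply hdet; rw [h1, h2]; ring
  · intro h0
    obtain ⟨h1, h2⟩ := hne _ _ h0
    apply hdet; rw [h1, h2]; ring
  · intro d hd
    have : (x₂ - d * x₁) • b₁ + (y₂ - d * y₁) • b₂ = 0 := by
      have e : (x₂ - d * x₁) • b₁ + (y₂ - d * y₁) • b₂ =
          (x₂ • b₁ + y₂ • b₂) - d • (x₁ • b₁ + y₁ • b₂) := by module
      rw [e, hd, sub_self]
    obtain ⟨h1, h2⟩ := hne _ _ this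
    apply hdet
    have e1 : x₂ = d * x₁ := sub_eq_zero.mp h1
    have e2 : y₂ = d * y₁ := sub_eq_zero.mp h2
    rw [e1, e2]; ring
  · rw [hform]; exact hQ1
  · rw [hform]; exact hQ2
  · intro w c hw hgw hww
    obtain ⟨α, β, γ, rfl⟩ := d1m_conic_span3 hV hli w
    have hgw' : (ε - c) • (α • b₁) + (ε - c) • (β • b₂) + (-ε - c) • (γ • a) = 0 := by
      have e : (ε - c) • (α • b₁) + (ε - c) • (β • b₂) + (-ε - c) • (γ • a) =
          g (α • b₁ + β • b₂ + γ • a) - c • (α • b₁ + β • b₂ + γ • a) := by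
        simp only [map_add, map_smul, hgb₁, hgb₂, hga]
        module
      rw [e, hgw, sub_self]
    rw [smul_smul, smul_smul, smul_smul] at hgw'
    obtain ⟨k1, k2, k3⟩ := d1m_conic_li3_coeff hli hgw'
    have hγ : γ = 0 := by
      by_contra hγ
      have hcε : -ε - c = 0 := by
        rcases mul_eq_zero.mp k3 with h | h
        · exact h
        · exact absurd h hγ
      have hεc : ε - c ≠ 0 := by
        intro h
        have : (2 : k) * ε = 0 := by linear_combination h - hcε
        rcases mul_eq_zero.mp this with h' | h'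
        · exact h2k h'
        · exact hε0 h'
      have hα : α = 0 := by
        rcases mul_eq_zero.mp k1 with h | h
        · exact absurd h hεc
        · exact h
      have hβ : β = 0 := by
        rcases mul_eq_zero.mp k2 with h | h
        · exact absurd h hεc
        · exact h
      rw [hα, hβ, zero_smul, zero_smul, zero_add, zero_add, map_smul, map_smul,
        LinearMap.smul_apply, smul_eq_mul, smul_eq_mul] at hww
      have haa : B a a = 0 := by
        rcases mul_eq_zero.mp hww with h | h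
        · exact absurd h hγ
        · rcases mul_eq_zero.mp h with h' | h'
          · exact absurd h' hγ
          · exact h'
      apply ha
      apply hBn
      intro w
      obtain ⟨α', β', γ', rfl⟩ := d1m_conic_span3 hV hli w
      simp only [map_add, map_smul, smul_eq_mul, ha1, ha2, haa, mul_zero, add_zero]
    rw [hγ, zero_smul, add_zero] at hww hw ⊢
    rw [hform] at hww
    have hprop : ∀ x' y' : k, (x' ≠ 0 ∨ y' ≠ 0) → α * y' - β * x' = 0 →
        ∃ d : k, α • b₁ + β • b₂ = d • (x' • b₁ + y' • b₂) := by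
      intro x' y' hxy hdet'
      by_cases hx' : x' = 0
      · have hy' : y' ≠ 0 := by
          rcases hxy with h | h
          · exact absurd hx' h
          · exact h
        rw [hx', mul_zero, sub_zero] at hdet'
        have hα : α = 0 := by
          rcases mul_eq_zero.mp hdet' with h | h
          · exact h
          · exact absurd h hy'
        refine ⟨β * y'⁻¹, ?_⟩
        simp only [hα, hx', zero_smul, zero_add, smul_smul]
        rw [mul_assoc, inv_mul_cancel₀ hy', mul_one]
      · refine ⟨α * x'⁻¹, ?_⟩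
        have hβ : β = α * x'⁻¹ * y' := by
          have : β * x' = α * y' := (sub_eq_zero.mp hdet').symm
          field_simp
          exact this
        rw [smul_add, smul_smul, smul_smul, mul_assoc, inv_mul_cancel₀ hx', mul_one, ← hβ]
    rcases hall α β hww with h | h
    · left
      apply hprop x₁ y₁ _ h
      by_contra hcon
      push Not at hcon
      apply hdet; rw [hcon.1, hcon.2]; ring
    · right
      apply hprop x₂ y₂ _ h
      by_contra hcon
      push Not at hcon
      apply hdet; rw [hcon.1, hcon.2]; ring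

/-- **(C2)** a diagonalisable non-scalar isometry has exactly two isotropic eigenlines. -/
theorem d1m_conic_semis [IsAlgClosed k] (h2k : (2 : k) ≠ 0) (hV : finrank k V = 3)
    (B : LinearMap.BilinForm k V)
    (hBs : ∀ a b, B a b = B b a) (hBn : ∀ a, (∀ b, B a b = 0) → a = 0)
    (g : Module.End k V) (hg : ∀ a b, B (g a) (g b) = B a b)
    (hdiag : ⨆ μ : k, Module.End.eigenspace g μ = ⊤)
    (hns : ∀ c : k, g ≠ c • (1 : Module.End k V)) : d1m_conic_TwoPts B g := by
  by_cases hA : ∃ (μ : k) (v : V), v ≠ 0 ∧ g v = μ • v ∧ μ * μ ≠ 1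
  · obtain ⟨μ, v, hv, hgv, hμ⟩ := hA
    exact d1m_conic_semis_A hV B hBs hBn g hg hdiag μ v hv hgv hμ
  push Not at hA
  have hgg : ∀ z, g (g z) = z := by
    intro z
    have hz : z ∈ ⨆ μ : k, Module.End.eigenspace g μ := by rw [hdiag]; trivial
    refine Submodule.iSup_induction (fun μ : k => Module.End.eigenspace g μ)
      (motive := fun z => g (g z) = z) hz ?_ (by simp) ?_
    · intro μ y hy
      rw [Module.End.mem_eigenspace_iff] at hy
      by_cases hy0 : y = 0
      · rw [hy0, map_zero, map_zero]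
      · rw [hy, map_smul, hy, smul_smul, hA μ y hy0 hy, one_smul]
    · intro y y' hy hy'
      rw [map_add, map_add, hy, hy']
  have hp : ∀ z, g (z + g z) = z + g z := by
    intro z; rw [map_add, hgg, add_comm]
  have hm : ∀ z, g (z - g z) = (-1 : k) • (z - g z) := by
    intro z; rw [map_sub, hgg, neg_one_smul, neg_sub]
  obtain ⟨ap, hap0, hgap⟩ : ∃ a : V, a ≠ 0 ∧ g a = a := by
    by_contra hcon
    push Not at hcon
    apply hns (-1)
    ext z
    have : z + g z = 0 := by
      by_contra h0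
      exact hcon _ h0 (hp z)
    rw [LinearMap.smul_apply, Module.End.one_apply, neg_one_smul]
    exact (eq_neg_of_add_eq_zero_right this)
  obtain ⟨am, ham0, hgam⟩ : ∃ a : V, a ≠ 0 ∧ g a = (-1 : k) • a := by
    by_contra hcon
    push Not at hcon
    apply hns 1
    ext z
    have : z - g z = 0 := by
      by_contra h0
      exact hcon _ h0 (hm z)
    rw [LinearMap.smul_apply, Module.End.one_apply, one_smul]
    exact (sub_eq_zero.mp this).symm
  have hli2 : LinearIndependent k ![ap, am] := by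
    rw [LinearIndependent.pair_iff]
    intro s t hst
    have hst' := congrArg (fun z => g z) hst
    simp only [map_add, map_smul, hgap, hgam, map_zero] at hst'
    have e : ((2 : k) * s) • ap = 0 := by
      have : ((2 : k) * s) • ap = (s • ap + t • am) + (s • ap + t • (-1 : k) • am) := by
        module
      rw [this, hst, hst', add_zero]
    have hs : s = 0 := by
      rcases smul_eq_zero.mp e with h | h
      · rcases mul_eq_zero.mp h with h' | h'
        · exact absurd h' h2k
        · exact h'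
      · exact absurd h hap0
    rw [hs, zero_smul, zero_add] at hst
    have ht : t = 0 := by
      rcases smul_eq_zero.mp hst with h | h
      · exact h
      · exact absurd h ham0
    exact ⟨hs, ht⟩
  obtain ⟨x, hli⟩ := exists_linearIndependent_cons_of_lt_finrank hli2 (by rw [hV]; norm_num)
  have hli' : LinearIndependent k ![x, ap, am] := hli
  by_cases h1 : ∃ d : k, x + g x = d • ap
  · obtain ⟨d, hd⟩ := h1
    have h2 : ∀ d' : k, x - g x ≠ d' • am := by
      intro d' hd'
      have : (2 : k) • x + (-d) • ap + (-d') • am = 0 := by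
        have e : (2 : k) • x + (-d) • ap + (-d') • am =
            (x + g x) - d • ap + ((x - g x) - d' • am) := by module
        rw [e, hd, hd', sub_self, sub_self, add_zero]
      obtain ⟨h, -, -⟩ := d1m_conic_li3_coeff hli' this
      exact h2k h
    refine d1m_conic_semis_B h2k hV B hBs hBn g hg (-1) (by ring) am (x - g x) ap ham0 h2 hap0
      hgam (hm x) ?_
    rw [neg_neg, one_smul]; exact hgap
  · push Not at h1
    refine d1m_conic_semis_B h2k hV B hBs hBn g hg 1 (by ring) ap (x + g x) am hap0 h1 ham0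
      (by rw [one_smul]; exact hgap) (by rw [one_smul]; exact hp x) hgam

/-- an endomorphism of finite order prime to the characteristic is diagonalisable. -/
theorem d1m_conic_diag [IsAlgClosed k] [FiniteDimensional k V] (g : Module.End k V) (r : ℕ)
    (hr : g ^ r = 1) (hrk : (r : k) ≠ 0) : ⨆ μ : k, Module.End.eigenspace g μ = ⊤ := by
  have hss : g.IsSemisimple := by
    apply Module.End.isSemisimple_of_squarefree_aeval_eq_zero
      (p := (Polynomial.X ^ r - 1 : Polynomial k))
    · exact (Polynomial.X_pow_sub_one_separable_iff.mpr hrk).squarefree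
    · simp [hr]
  exact hss.iSup_eigenspace_eq_top

end Cfsg.Agent.D1M
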