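import Cfsg.Agent.D1M.Conic

/-!
# S4504, file 7 (part 2): the group `Γ = G / scalars` acting on the conic

`d1m_cong_main`: for a finite group `G` with `p² ∤ |G|` acting by isometries on a 3-dimensional
non-degenerate quadratic space over an algebraically closed field of characteristic `p ≠ 2`, all
elements of order `p` acting as a single Jordan block, the quotient `Γ` of `G` by the scalars acts
on the set `C` of isotropic lines with the elementwise properties (E1)-(E4) that feed the count.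
-/

namespace Cfsg.Agent.D1M

open Module

universe u v w

section grp

variable {G : Type*} [Group G]

/-- `p`-part and `p'`-part of an element of finite order, as powers. -/
theorem d1m_cong_decomp (p : ℕ) [hp : Fact p.Prime] (g : G) (hg : 0 < orderOf g) :
    ∃ i j : ℤ, g ^ i * g ^ j = g ∧ ¬ p ∣ orderOf (g ^ i) ∧ ∃ n : ℕ, (g ^ j) ^ (p ^ n) = 1 := by
  obtain ⟨a, m, hm, hn⟩ := Nat.exists_eq_pow_mul_and_not_dvd hg.ne' p hp.out.ne_one
  have hcop : Nat.Coprime (p ^ a) m := by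
    apply Nat.Coprime.pow_left
    exact (Nat.Prime.coprime_iff_not_dvd hp.out).mpr hm
  have hbez : ((p ^ a : ℕ) : ℤ) * Nat.gcdA (p ^ a) m + (m : ℤ) * Nat.gcdB (p ^ a) m = 1 := by
    have := Nat.gcd_eq_gcd_ab (p ^ a) m
    rw [hcop.gcd_eq_one] at this
    exact_mod_cast this.symm
  set x : ℤ := Nat.gcdA (p ^ a) m
  set y : ℤ := Nat.gcdB (p ^ a) m
  refine ⟨((p ^ a : ℕ) : ℤ) * x, (m : ℤ) * y, ?_, ?_, a, ?_⟩
  · rw [← zpow_add, hbez, zpow_one]
  · have h1 : (g ^ (((p ^ a : ℕ) : ℤ) * x)) ^ m = 1 := by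
      rw [← zpow_natCast, ← zpow_mul]
      have : ((p ^ a : ℕ) : ℤ) * x * (m : ℤ) = ((orderOf g : ℕ) : ℤ) * x := by
        rw [hn]; push_cast; ring
      rw [this, zpow_mul, zpow_natCast, pow_orderOf_eq_one, one_zpow]
    intro hdvd
    exact hm (hdvd.trans (orderOf_dvd_of_pow_eq_one h1))
  · rw [← zpow_natCast, ← zpow_mul]
    have : (m : ℤ) * y * ((p ^ a : ℕ) : ℤ) = ((orderOf g : ℕ) : ℤ) * y := by
      rw [hn]; push_cast; ring
    rw [this, zpow_mul, zpow_natCast, pow_orderOf_eq_one, one_zpow]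

variable {Γ : Type*} [Group Γ]

/-- an element of order `p` of a quotient lifts to an element of order `p`. -/
theorem d1m_cong_lift_p [Finite G] (p : ℕ) [hp : Fact p.Prime] (φ : G →* Γ)
    (hφ : Function.Surjective φ) (hp1 : ¬ p ^ 2 ∣ Nat.card G) (γ : Γ) (hγ : orderOf γ = p) :
    ∃ g : G, φ g = γ ∧ orderOf g = p := by
  obtain ⟨g₀, rfl⟩ := hφ γ
  obtain ⟨i, j, hij, hi, n, hj⟩ := d1m_cong_decomp p g₀ (orderOf_pos g₀)
  have hs1 : φ (g₀ ^ i) = 1 := by
    have h1 : (φ (g₀ ^ i)) ^ orderOf (g₀ ^ i) = 1 := by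
      rw [← map_pow, pow_orderOf_eq_one, map_one]
    have h2 : (φ (g₀ ^ i)) ^ p = 1 := by
      rw [map_zpow, ← zpow_natCast, ← zpow_mul, mul_comm, zpow_mul, zpow_natCast, ← hγ,
        pow_orderOf_eq_one, one_zpow]
    have hd := Nat.dvd_gcd (orderOf_dvd_of_pow_eq_one h1) (orderOf_dvd_of_pow_eq_one h2)
    have hc : Nat.gcd (orderOf (g₀ ^ i)) p = 1 :=
      Nat.Coprime.symm ((Nat.Prime.coprime_iff_not_dvd hp.out).mpr hi)
    rw [hc, Nat.dvd_one, orderOf_eq_one_iff] at hd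
    exact hd
  have hu : φ (g₀ ^ j) = φ g₀ := by
    conv_rhs => rw [← hij]
    rw [map_mul, hs1, one_mul]
  refine ⟨g₀ ^ j, hu, ?_⟩
  obtain ⟨b, -, hb⟩ := (Nat.dvd_prime_pow hp.out).mp (orderOf_dvd_of_pow_eq_one hj)
  have hb0 : b ≠ 0 := by
    intro h0
    rw [h0, pow_zero, orderOf_eq_one_iff] at hb
    rw [hb, map_one] at hu
    rw [← hu, orderOf_one] at hγ
    exact hp.out.one_lt.ne hγ
  have hb2 : b < 2 := by
    by_contra hcon
    push Not at hcon
    apply hp1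
    calc p ^ 2 ∣ p ^ b := pow_dvd_pow p hcon
      _ = orderOf (g₀ ^ j) := hb.symm
      _ ∣ Nat.card G := orderOf_dvd_natCard _
  have : b = 1 := by omega
  rw [hb, this, pow_one]

/-- a `p'`-element of a quotient lifts to a `p'`-element. -/
theorem d1m_cong_lift_p' [Finite G] (p : ℕ) [hp : Fact p.Prime] (φ : G →* Γ)
    (hφ : Function.Surjective φ) (γ : Γ) (hγ : ¬ p ∣ orderOf γ) :
    ∃ g : G, φ g = γ ∧ ¬ p ∣ orderOf g := by
  obtain ⟨g₀, rfl⟩ := hφ γ
  obtain ⟨i, j, hij, hi, n, hj⟩ := d1m_cong_decomp p g₀ (orderOf_pos g₀)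
  have hu1 : φ (g₀ ^ j) = 1 := by
    have h1 : (φ (g₀ ^ j)) ^ (p ^ n) = 1 := by
      rw [← map_pow, hj, map_one]
    have h2 : (φ (g₀ ^ j)) ^ orderOf (φ g₀) = 1 := by
      rw [map_zpow, ← zpow_natCast, ← zpow_mul, mul_comm, zpow_mul, zpow_natCast,
        pow_orderOf_eq_one, one_zpow]
    have hd := Nat.dvd_gcd (orderOf_dvd_of_pow_eq_one h1) (orderOf_dvd_of_pow_eq_one h2)
    have hc : Nat.gcd (p ^ n) (orderOf (φ g₀)) = 1 :=
      Nat.Coprime.pow_left n ((Nat.Prime.coprime_iff_not_dvd hp.out).mpr hγ)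
    rw [hc, Nat.dvd_one, orderOf_eq_one_iff] at hd
    exact hd
  refine ⟨g₀ ^ i, ?_, hi⟩
  conv_rhs => rw [← hij]
  rw [map_mul, hu1, mul_one]

/-- a `p`-subgroup containing an element of order `p` is generated by it, when `p² ∤ |Γ|`. -/
theorem d1m_cong_pgroup [Finite Γ] (p : ℕ) [hp : Fact p.Prime] (hp1 : ¬ p ^ 2 ∣ Nat.card Γ)
    (K : Subgroup Γ) (hK : IsPGroup p K) (γ : Γ) (hγK : γ ∈ K) (hγ : orderOf γ = p) :
    K = Subgroup.zpowers γ := by
  obtain ⟨n, hn⟩ := hK.exists_card_eq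
  have hle : Subgroup.zpowers γ ≤ K := by
    rw [Subgroup.zpowers_le]; exact hγK
  have hcz : Nat.card (Subgroup.zpowers γ) = p := by
    rw [Nat.card_zpowers, hγ]
  have hn2 : n < 2 := by
    by_contra hcon
    push Not at hcon
    apply hp1
    calc p ^ 2 ∣ p ^ n := pow_dvd_pow p hcon
      _ = Nat.card K := hn.symm
      _ ∣ Nat.card Γ := Subgroup.card_subgroup_dvd_card K
  have hn0 : n ≠ 0 := by
    intro h0
    rw [h0, pow_zero] at hn
    have := Subgroup.card_le_of_le hle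
    rw [hcz, hn] at this
    exact absurd this (not_le.mpr hp.out.one_lt)
  have hn1 : n = 1 := by omega
  rw [hn1, pow_one] at hn
  exact (Subgroup.eq_of_le_of_card_ge hle (by rw [hn, hcz])).symm

end grp

section rep

variable {G : Type u} [Group G] {k : Type v} [Field k] {V : Type w} [AddCommGroup V] [Module k V]

/-- the subgroup of the elements acting by scalars. -/
def d1m_cong_ker (ρ : Representation k G V) : Subgroup G where
  carrier := {g | ∃ c : k, ρ g = c • (1 : Module.End k V)}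
  one_mem' := ⟨1, by simp⟩
  mul_mem' := by
    rintro a b ⟨c, hc⟩ ⟨d, hd⟩
    exact ⟨c * d, by rw [map_mul, hc, hd, smul_mul_assoc, one_mul, smul_smul]⟩
  inv_mem' := by
    rintro a ⟨c, hc⟩
    have h1 : ρ a⁻¹ * ρ a = 1 := by rw [← map_mul, inv_mul_cancel, map_one]
    by_cases h0 : c = 0
    · refine ⟨0, ?_⟩
      rw [hc, h0, zero_smul, mul_zero] at h1
      rw [zero_smul]
      calc ρ a⁻¹ = ρ a⁻¹ * 1 := (mul_one _).symm
        _ = 0 := by rw [← h1, mul_zero]
    · refine ⟨c⁻¹, ?_⟩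
      rw [hc, mul_smul_comm, mul_one] at h1
      rw [← h1, smul_smul, inv_mul_cancel₀ h0, one_smul]

theorem d1m_cong_mem_ker (ρ : Representation k G V) (g : G) :
    g ∈ d1m_cong_ker ρ ↔ ∃ c : k, ρ g = c • (1 : Module.End k V) := Iff.rfl

theorem d1m_cong_ker_normal (ρ : Representation k G V) : (d1m_cong_ker ρ).Normal := by
  refine ⟨fun n hn g => ?_⟩
  obtain ⟨c, hc⟩ := hn
  refine ⟨c, ?_⟩
  rw [map_mul, map_mul, hc, mul_smul_comm, mul_one, smul_mul_assoc, ← map_mul, mul_inv_cancel,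
    map_one]

theorem d1m_cong_inj (ρ : Representation k G V) (g : G) : Function.Injective (ρ g) := by
  intro a b hab
  have h1 : ρ g⁻¹ * ρ g = 1 := by rw [← map_mul, inv_mul_cancel, map_one]
  have := congrArg (ρ g⁻¹) hab
  rw [← Module.End.mul_apply, ← Module.End.mul_apply, h1] at this
  exact this

/-- the conic: the isotropic lines. -/
def d1m_cong_C (B : LinearMap.BilinForm k V) : Type w :=
  {L : Submodule k V // ∃ v : V, v ≠ 0 ∧ B v v = 0 ∧ L = Submodule.span k {v}}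

/-- the point of the conic spanned by an isotropic vector. -/
def d1m_cong_pt (B : LinearMap.BilinForm k V) (v : V) (hv0 : v ≠ 0) (hvv : B v v = 0) :
    d1m_cong_C B := ⟨Submodule.span k {v}, v, hv0, hvv, rfl⟩

theorem d1m_cong_pt_surj (B : LinearMap.BilinForm k V) (y : d1m_cong_C B) :
    ∃ (v : V) (hv0 : v ≠ 0) (hvv : B v v = 0), y = d1m_cong_pt B v hv0 hvv := by
  obtain ⟨L, v, hv0, hvv, hL⟩ := y
  exact ⟨v, hv0, hvv, Subtype.ext hL⟩

theorem d1m_cong_pt_eq_iff (B : LinearMap.BilinForm k V) (v v' : V) (hv0 : v ≠ 0)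
    (hvv : B v v = 0) (hv0' : v' ≠ 0) (hvv' : B v' v' = 0) :
    d1m_cong_pt B v' hv0' hvv' = d1m_cong_pt B v hv0 hvv ↔ ∃ d : k, v' = d • v := by
  constructor
  · intro h
    have h' : Submodule.span k {v'} = Submodule.span k {v} := congrArg Subtype.val h
    have : v' ∈ Submodule.span k {v} := by
      rw [← h']; exact Submodule.mem_span_singleton_self v'
    obtain ⟨d, hd⟩ := Submodule.mem_span_singleton.mp this
    exact ⟨d, hd.symm⟩
  · rintro ⟨d, rfl⟩
    have hd : d ≠ 0 := by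
      intro h0; apply hv0'; rw [h0, zero_smul]
    apply Subtype.ext
    exact Submodule.span_singleton_smul_eq (IsUnit.mk0 d hd) v

variable (B : LinearMap.BilinForm k V) (ρ : Representation k G V)
  (hρ : ∀ g a b, B (ρ g a) (ρ g b) = B a b)

/-- the action of `G` on the conic. -/
def d1m_cong_smul (g : G) (y : d1m_cong_C B) : d1m_cong_C B :=
  ⟨y.1.map (ρ g), by
    obtain ⟨v, hv0, hvv, hL⟩ := y.2
    refine ⟨ρ g v, fun h => hv0 (d1m_cong_inj ρ g (by rw [h, map_zero])), ?_, ?_⟩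
    · rw [hρ]; exact hvv
    · rw [hL, Submodule.map_span, Set.image_singleton]⟩

theorem d1m_cong_smul_pt (g : G) (v : V) (hv0 : v ≠ 0) (hvv : B v v = 0) :
    d1m_cong_smul B ρ hρ g (d1m_cong_pt B v hv0 hvv) =
      d1m_cong_pt B (ρ g v) (fun h => hv0 (d1m_cong_inj ρ g (by rw [h, map_zero])))
        (by rw [hρ]; exact hvv) := by
  apply Subtype.ext
  show (Submodule.span k {v}).map (ρ g) = Submodule.span k {ρ g v}
  rw [Submodule.map_span, Set.image_singleton]

theorem d1m_cong_smul_one (y : d1m_cong_C B) : d1m_cong_smul B ρ hρ 1 y = y := by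
  apply Subtype.ext
  show y.1.map (ρ 1) = y.1
  rw [map_one]
  exact Submodule.map_id _

theorem d1m_cong_smul_mul (g h : G) (y : d1m_cong_C B) :
    d1m_cong_smul B ρ hρ (g * h) y = d1m_cong_smul B ρ hρ g (d1m_cong_smul B ρ hρ h y) := by
  apply Subtype.ext
  show y.1.map (ρ (g * h)) = (y.1.map (ρ h)).map (ρ g)
  rw [map_mul, Module.End.mul_eq_comp, Submodule.map_comp]

/-- fixed points are eigenlines. -/
theorem d1m_cong_fix_iff (g : G) (v : V) (hv0 : v ≠ 0) (hvv : B v v = 0) :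
    d1m_cong_smul B ρ hρ g (d1m_cong_pt B v hv0 hvv) = d1m_cong_pt B v hv0 hvv ↔
      ∃ c : k, ρ g v = c • v := by
  rw [d1m_cong_smul_pt, d1m_cong_pt_eq_iff]

theorem d1m_cong_smul_ker (g : G) (hg : g ∈ d1m_cong_ker ρ) (y : d1m_cong_C B) :
    d1m_cong_smul B ρ hρ g y = y := by
  obtain ⟨v, hv0, hvv, rfl⟩ := d1m_cong_pt_surj B y
  rw [d1m_cong_fix_iff]
  obtain ⟨c, hc⟩ := hg
  exact ⟨c, by rw [hc]; simp⟩

end rep

section main

variable {G : Type u} [Group G] [Finite G] {p : ℕ} [hp : Fact p.Prime]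
  {k : Type v} [Field k] [CharP k p] {V : Type w} [AddCommGroup V] [Module k V]

/-- elements of order dividing `p` are unipotent of index `≤ 3`. -/
theorem d1m_cong_unip3 (hV : finrank k V = 3) (ρ : Representation k G V) (x : G)
    (hx : x ^ p = 1) : (ρ x - 1) ^ 3 = 0 := by
  haveI : Module.Finite k V := Module.finite_of_finrank_pos (by rw [hV]; norm_num)
  haveI : Nontrivial V := Module.nontrivial_of_finrank_pos (R := k) (by rw [hV]; norm_num)
  haveI : CharP (Module.End k V) p :=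
    charP_of_injective_algebraMap (algebraMap k (Module.End k V)).injective p
  have e : (ρ x - 1) ^ p = 0 := by
    rw [sub_pow_char_of_commute p (Commute.one_right _), one_pow, ← map_pow, hx, map_one,
      sub_self]
  have hle := Module.End.ker_pow_le_ker_pow_finrank (ρ x - 1) p
  rw [hV] at hle
  ext z
  have hz : z ∈ LinearMap.ker ((ρ x - 1) ^ p) := by rw [e]; simp
  have := hle hz
  rw [LinearMap.mem_ker] at this
  rw [this, LinearMap.zero_apply]

variable (hV : finrank k V = 3) (B : LinearMap.BilinForm k V)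
  (hBs : ∀ a b, B a b = B b a) (hBn : ∀ a, (∀ b, B a b = 0) → a = 0)
  (ρ : Representation k G V) (hρ : ∀ g a b, B (ρ g a) (ρ g b) = B a b)
  (hJ : ∀ x : G, orderOf x = p → (ρ x - 1) ^ 2 ≠ 0)

include hV hBs hBn hJ in
/-- (E1) at the level of `G`. -/
theorem d1m_cong_E1 (g : G) (hg : orderOf g = p) :
    ∃! y : d1m_cong_C B, d1m_cong_smul B ρ hρ g y = y := by
  have h3 := d1m_cong_unip3 (p := p) hV ρ g (by rw [← hg, pow_orderOf_eq_one])
  obtain ⟨v, hv0, huv, hvv, -, huniq⟩ :=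
    d1m_conic_unip hV B hBs hBn (ρ g) (hρ g) h3 (hJ g hg)
  refine ⟨d1m_cong_pt B v hv0 hvv, ?_, ?_⟩
  · show d1m_cong_smul B ρ hρ g (d1m_cong_pt B v hv0 hvv) = d1m_cong_pt B v hv0 hvv
    rw [d1m_cong_fix_iff]
    exact ⟨1, by rw [huv, one_smul]⟩
  · intro y hy
    obtain ⟨z, hz0, hzz, rfl⟩ := d1m_cong_pt_surj B y
    have hy' : d1m_cong_smul B ρ hρ g (d1m_cong_pt B z hz0 hzz) = d1m_cong_pt B z hz0 hzz := hy
    rw [d1m_cong_fix_iff] at hy'
    obtain ⟨c, hc⟩ := hy'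
    obtain ⟨-, d, hd⟩ := huniq z c hz0 hc
    exact (d1m_cong_pt_eq_iff B v z hv0 hvv hz0 hzz).mpr ⟨d, hd⟩

include hV hBs hBn in
/-- (E2) at the level of `G`. -/
theorem d1m_cong_E2 [IsAlgClosed k] (hp2 : p ≠ 2) (g : G) (hg : ¬ p ∣ orderOf g)
    (hns : g ∉ d1m_cong_ker ρ) :
    {y : d1m_cong_C B | d1m_cong_smul B ρ hρ g y = y}.ncard = 2 := by
  haveI : Module.Finite k V := Module.finite_of_finrank_pos (by rw [hV]; norm_num)
  have h2k : (2 : k) ≠ 0 := by
    intro h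
    have h' : ((2 : ℕ) : k) = 0 := by exact_mod_cast h
    rw [CharP.cast_eq_zero_iff k p] at h'
    have := (Nat.prime_dvd_prime_iff_eq hp.out Nat.prime_two).mp h'
    exact hp2 this
  have hdiag := d1m_conic_diag (ρ g) (orderOf g)
    (by rw [← map_pow, pow_orderOf_eq_one, map_one])
    (by intro h; exact hg ((CharP.cast_eq_zero_iff k p _).mp h))
  obtain ⟨v₁, v₂, h1, h2, hne, h11, h22, ⟨c₁, hc₁⟩, ⟨c₂, hc₂⟩, hall⟩ :=
    d1m_conic_semis h2k hV B hBs hBn (ρ g) (hρ g) hdiag (fun c hc => hns ⟨c, hc⟩)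
  have hset : {y : d1m_cong_C B | d1m_cong_smul B ρ hρ g y = y} =
      {d1m_cong_pt B v₁ h1 h11, d1m_cong_pt B v₂ h2 h22} := by
    ext y
    simp only [Set.mem_setOf_eq, Set.mem_insert_iff, Set.mem_singleton_iff]
    constructor
    · intro hy
      obtain ⟨z, hz0, hzz, rfl⟩ := d1m_cong_pt_surj B y
      rw [d1m_cong_fix_iff] at hy
      obtain ⟨c, hc⟩ := hy
      rcases hall z c hz0 hc hzz with ⟨d, hd⟩ | ⟨d, hd⟩
      · left; exact (d1m_cong_pt_eq_iff B v₁ z h1 h11 hz0 hzz).mpr ⟨d, hd⟩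
      · right; exact (d1m_cong_pt_eq_iff B v₂ z h2 h22 hz0 hzz).mpr ⟨d, hd⟩
    · rintro (rfl | rfl)
      · rw [d1m_cong_fix_iff]; exact ⟨c₁, hc₁⟩
      · rw [d1m_cong_fix_iff]; exact ⟨c₂, hc₂⟩
  rw [hset]
  apply Set.ncard_pair
  intro h
  obtain ⟨d, hd⟩ := (d1m_cong_pt_eq_iff B v₂ v₁ h2 h22 h1 h11).mp h
  have hd0 : d ≠ 0 := by
    intro h0; apply h1; rw [hd, h0, zero_smul]
  apply hne d⁻¹
  rw [hd, smul_smul, inv_mul_cancel₀ hd0, one_smul]

include hV hBs hBn hJ in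
/-- (E3) at the level of `G`: two elements of order `p` with the same fixed point generate a
group of exponent `p` modulo the kernel of `ρ`. -/
theorem d1m_cong_E3 (hp2 : p ≠ 2) (g g' : G) (hg : orderOf g = p) (hg' : orderOf g' = p)
    (hfix : ∀ y : d1m_cong_C B, d1m_cong_smul B ρ hρ g y = y → d1m_cong_smul B ρ hρ g' y = y) :
    ∀ h ∈ Subgroup.closure ({g, g'} : Set G), ρ h ^ p = 1 := by
  haveI : Nontrivial V := Module.nontrivial_of_finrank_pos (R := k) (by rw [hV]; norm_num)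
  have h3 := d1m_cong_unip3 (p := p) hV ρ g (by rw [← hg, pow_orderOf_eq_one])
  have h3' := d1m_cong_unip3 (p := p) hV ρ g' (by rw [← hg', pow_orderOf_eq_one])
  obtain ⟨v, hv0, huv, hvv, hUT, -⟩ :=
    d1m_conic_unip hV B hBs hBn (ρ g) (hρ g) h3 (hJ g hg)
  have hf : d1m_cong_smul B ρ hρ g (d1m_cong_pt B v hv0 hvv) = d1m_cong_pt B v hv0 hvv := by
    rw [d1m_cong_fix_iff]; exact ⟨1, by rw [huv, one_smul]⟩
  have hf' := hfix _ hf
  rw [d1m_cong_fix_iff] at hf'
  obtain ⟨c', hc'⟩ := hf'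
  obtain ⟨-, hUT'⟩ := d1m_conic_unip_UT hV B hBs hBn (ρ g') (hρ g') h3' (hJ g' hg') v c' hv0 hc'
  have hall : ∀ h ∈ Subgroup.closure ({g, g'} : Set G), d1m_conic_IsUT B v (ρ h) := by
    intro h hh
    refine Subgroup.closure_induction (p := fun h _ => d1m_conic_IsUT B v (ρ h)) ?_ ?_ ?_ ?_ hh
    · intro x hx
      rcases hx with rfl | rfl
      · exact hUT
      · exact hUT'
    · rw [map_one]; exact d1m_conic_IsUT_one B v
    · intro x y _ _ hx hy
      rw [map_mul]; exact d1m_conic_IsUT_mul B v hvv hx hy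
    · intro x _ hx
      have hpow : ∀ n : ℕ, d1m_conic_IsUT B v (ρ x ^ n) := by
        intro n
        induction n with
        | zero => rw [pow_zero]; exact d1m_conic_IsUT_one B v
        | succ n ih => rw [pow_succ]; exact d1m_conic_IsUT_mul B v hvv ih hx
      have hinv : x⁻¹ = x ^ (orderOf x - 1) := by
        apply inv_eq_of_mul_eq_one_right
        rw [← pow_succ', Nat.sub_add_cancel (orderOf_pos x), pow_orderOf_eq_one]
      rw [hinv, map_pow]
      exact hpow _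
  intro h hh
  exact d1m_conic_IsUT_pow B v p hp2 (hall h hh)

include hV hBs hBn hJ hρ in
/-- (E4) at the level of `G`: a `p'`-element commuting with an element of order `p` modulo
scalars is a scalar. -/
theorem d1m_cong_E4 (g d : G) (hg : orderOf g = p) (hd : ¬ p ∣ orderOf d)
    (hcomm : (g * d)⁻¹ * (d * g) ∈ d1m_cong_ker ρ) : d ∈ d1m_cong_ker ρ := by
  have h3 := d1m_cong_unip3 (p := p) hV ρ g (by rw [← hg, pow_orderOf_eq_one])
  obtain ⟨c, hc⟩ := hcomm
  have e : ρ d * ρ g = c • (ρ g * ρ d) := by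
    have : d * g = (g * d) * ((g * d)⁻¹ * (d * g)) := by rw [mul_inv_cancel_left]
    rw [← map_mul, ← map_mul, this, map_mul, hc, mul_smul_comm, mul_one]
  have hc1 := d1m_conic_conj_scalar hV B hBs hBn (ρ g) (hρ g) h3 (hJ g hg) (ρ d)
    (d1m_cong_inj ρ d) c e
  rw [hc1, one_smul] at e
  exact d1m_conic_cent_scalar hV (ρ g) h3 (hJ g hg) (ρ d) e (orderOf d)
    (by rw [← map_pow, pow_orderOf_eq_one, map_one])
    (by intro h; exact hd ((CharP.cast_eq_zero_iff k p _).mp h))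

end main

section quot

variable {G : Type u} [Group G] {k : Type v} [Field k] {V : Type w} [AddCommGroup V] [Module k V]
  (B : LinearMap.BilinForm k V) (ρ : Representation k G V)
  (hρ : ∀ g a b, B (ρ g a) (ρ g b) = B a b)

instance d1m_cong_ker_normal_inst : (d1m_cong_ker ρ).Normal := d1m_cong_ker_normal ρ

/-- the action of `Γ = G / scalars` on the conic. -/
def d1m_cong_act : MulAction (G ⧸ d1m_cong_ker ρ) (d1m_cong_C B) where
  smul γ y := Quotient.liftOn' γ (fun g => d1m_cong_smul B ρ hρ g y) (by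
    intro a b hab
    rw [QuotientGroup.leftRel_apply] at hab
    show d1m_cong_smul B ρ hρ a y = d1m_cong_smul B ρ hρ b y
    have : b = a * (a⁻¹ * b) := by rw [mul_inv_cancel_left]
    rw [this, d1m_cong_smul_mul, d1m_cong_smul_ker B ρ hρ _ hab])
  one_smul y := d1m_cong_smul_one B ρ hρ y
  mul_smul γ γ' y := by
    induction γ using QuotientGroup.induction_on
    induction γ' using QuotientGroup.induction_on
    exact d1m_cong_smul_mul B ρ hρ _ _ y

theorem d1m_cong_act_mk (g : G) (y : d1m_cong_C B) :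
    (letI := d1m_cong_act B ρ hρ; (QuotientGroup.mk g : G ⧸ d1m_cong_ker ρ) • y) =
      d1m_cong_smul B ρ hρ g y := rfl

end quot

section final

variable {G : Type u} [Group G] [Finite G] {p : ℕ} [hp : Fact p.Prime]
  {k : Type v} [Field k] [CharP k p] {V : Type w} [AddCommGroup V] [Module k V]

/-- an element of order `p` acting as a `J₃` is not a scalar. -/
theorem d1m_cong_not_ker (hV : finrank k V = 3) (ρ : Representation k G V) (g : G)
    (hg : g ^ p = 1) (hJ : (ρ g - 1) ^ 2 ≠ 0) : g ∉ d1m_cong_ker ρ := by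
  rintro ⟨c, hc⟩
  have h3 := d1m_cong_unip3 (p := p) hV ρ g hg
  have hN : ρ g - 1 = (c - 1) • (1 : Module.End k V) := by rw [hc, sub_smul, one_smul]
  have e : (ρ g - 1) ^ 3 = (c - 1) • (ρ g - 1) ^ 2 := by
    rw [pow_succ' _ 2]
    nth_rw 1 [hN]
    rw [smul_mul_assoc, one_mul]
  rw [h3] at e
  rcases smul_eq_zero.mp e.symm with h | h
  · apply hJ
    rw [hN, h, zero_smul]
    exact zero_pow (by norm_num)
  · exact hJ h

/-- all elements of order `p` act as a `J₃` as soon as one does. -/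
theorem d1m_cong_J3_all (ρ : Representation k G V) (hp1 : ¬ p ^ 2 ∣ Nat.card G) (x : G)
    (hx : orderOf x = p) (hx2 : (ρ x - 1) ^ 2 ≠ 0) :
    ∀ y : G, orderOf y = p → (ρ y - 1) ^ 2 ≠ 0 := by
  intro y hy
  obtain ⟨P, hP⟩ := (IsPGroup.of_card (p := p) (n := 1)
    (by rw [Nat.card_zpowers, hx, pow_one] : Nat.card (Subgroup.zpowers x) = p ^ 1)).exists_le_sylow
  obtain ⟨Q, hQ⟩ := (IsPGroup.of_card (p := p) (n := 1)
    (by rw [Nat.card_zpowers, hy, pow_one] : Nat.card (Subgroup.zpowers y) = p ^ 1)).exists_le_sylow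
  have hQy : (Q : Subgroup G) = Subgroup.zpowers y :=
    d1m_cong_pgroup p hp1 Q Q.isPGroup' y (hQ (Subgroup.mem_zpowers y)) hy
  obtain ⟨g, hg⟩ := MulAction.exists_smul_eq G P Q
  have hmem : g * x * g⁻¹ ∈ (Q : Subgroup G) := by
    rw [← hg, Sylow.coe_subgroup_smul]
    have hxP : x ∈ (P : Subgroup G) := hP (Subgroup.mem_zpowers x)
    have := Subgroup.smul_mem_pointwise_smul x (MulAut.conj g) (P : Subgroup G) hxP
    simpa [MulAut.smul_def] using this
  rw [hQy, ← mem_powers_iff_mem_zpowers, Submonoid.mem_powers_iff] at hmem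
  obtain ⟨n, hn⟩ := hmem
  intro h0
  apply hx2
  have hgi0 : ρ g * ρ g⁻¹ = 1 := by rw [← map_mul, mul_inv_cancel, map_one]
  have hconj : ρ g * (ρ x - 1) * ρ g⁻¹ = ρ y ^ n - 1 := by
    rw [← map_pow, hn, map_mul, map_mul, mul_sub, sub_mul, mul_one, hgi0]
  have hgeom : ρ y ^ n - 1 = (ρ y - 1) * ∑ i ∈ Finset.range n, ρ y ^ i := (mul_geom_sum _ _).symm
  have hcomm : Commute (ρ y - 1) (∑ i ∈ Finset.range n, ρ y ^ i) := by
    apply Commute.sum_right
    intro i _
    exact ((Commute.refl (ρ y)).pow_right i).sub_left (Commute.one_left _)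
  have hsq : (ρ y ^ n - 1) ^ 2 = 0 := by
    rw [hgeom, hcomm.mul_pow, h0, zero_mul]
  have hgi : ρ g⁻¹ * ρ g = 1 := by rw [← map_mul, inv_mul_cancel, map_one]
  have hgi' : ρ g * ρ g⁻¹ = 1 := by rw [← map_mul, mul_inv_cancel, map_one]
  have hsq' : (ρ g * (ρ x - 1) * ρ g⁻¹) ^ 2 = ρ g * (ρ x - 1) ^ 2 * ρ g⁻¹ := by
    rw [pow_two, pow_two]
    calc ρ g * (ρ x - 1) * ρ g⁻¹ * (ρ g * (ρ x - 1) * ρ g⁻¹)
        = ρ g * (ρ x - 1) * (ρ g⁻¹ * ρ g) * (ρ x - 1) * ρ g⁻¹ := by simp only [mul_assoc]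
      _ = ρ g * ((ρ x - 1) * (ρ x - 1)) * ρ g⁻¹ := by rw [hgi, mul_one]; simp only [mul_assoc]
  rw [hconj, hsq] at hsq'
  calc (ρ x - 1) ^ 2 = (ρ g⁻¹ * ρ g) * (ρ x - 1) ^ 2 * (ρ g⁻¹ * ρ g) := by
        rw [hgi, one_mul, mul_one]
    _ = ρ g⁻¹ * (ρ g * (ρ x - 1) ^ 2 * ρ g⁻¹) * ρ g := by simp only [mul_assoc]
    _ = 0 := by rw [← hsq', mul_zero, zero_mul]

/-- **S4504, file 7, main export.**  `Γ = G / scalars` acts on the conic `C` with the
elementwise properties (E1)-(E4). -/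
theorem d1m_cong_main [IsAlgClosed k] (hp2 : p ≠ 2) (hV : Module.finrank k V = 3)
    (B : LinearMap.BilinForm k V) (hBs : ∀ a b, B a b = B b a)
    (hBn : ∀ a, (∀ b, B a b = 0) → a = 0)
    (ρ : Representation k G V) (hρ : ∀ g a b, B (ρ g a) (ρ g b) = B a b)
    (hp1 : ¬ p ^ 2 ∣ Nat.card G)
    (hJ : ∀ x : G, orderOf x = p → (ρ x - 1) ^ 2 ≠ 0) :
    ∃ (Γ : Type u) (_ : Group Γ) (_ : Finite Γ) (C : Type w) (_ : MulAction Γ C) (φ : G →* Γ),
      Function.Surjective φ ∧ (∀ g, φ g = 1 ↔ ∃ c : k, ρ g = c • (1 : Module.End k V)) ∧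
      (∀ γ : Γ, orderOf γ = p → ∃! y : C, γ • y = y) ∧
      (∀ γ : Γ, γ ≠ 1 → ¬ p ∣ orderOf γ → (MulAction.fixedBy C γ).ncard = 2) ∧
      (∀ γ γ' : Γ, orderOf γ = p → orderOf γ' = p → (∀ y : C, γ • y = y → γ' • y = y) →
        γ' ∈ Subgroup.zpowers γ) ∧
      (∀ γ γ' : Γ, orderOf γ = p → Commute γ γ' → γ' ∈ Subgroup.zpowers γ) ∧
      (∀ g : G, orderOf g = p → orderOf (φ g) = p) := by
  letI : MulAction (G ⧸ d1m_cong_ker ρ) (d1m_cong_C B) := d1m_cong_act B ρ hρ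
  set φ : G →* G ⧸ d1m_cong_ker ρ := QuotientGroup.mk' (d1m_cong_ker ρ) with hφdef
  have hφs : Function.Surjective φ := QuotientGroup.mk'_surjective _
  have hker : ∀ g, φ g = 1 ↔ g ∈ d1m_cong_ker ρ := fun g => QuotientGroup.eq_one_iff g
  have hact : ∀ (g : G) (y : d1m_cong_C B), φ g • y = d1m_cong_smul B ρ hρ g y :=
    fun g y => rfl
  have hp1Γ : ¬ p ^ 2 ∣ Nat.card (G ⧸ d1m_cong_ker ρ) :=
    fun h => hp1 (h.trans (Subgroup.card_quotient_dvd_card _))
  have hE0 : ∀ g : G, orderOf g = p → orderOf (φ g) = p := by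
    intro g hg
    have hd : orderOf (φ g) ∣ p := by rw [← hg]; exact orderOf_map_dvd φ g
    rcases (Nat.dvd_prime hp.out).mp hd with h1 | h1
    · exfalso
      rw [orderOf_eq_one_iff, hker] at h1
      exact d1m_cong_not_ker (p := p) hV ρ g (by rw [← hg, pow_orderOf_eq_one]) (hJ g hg) h1
    · exact h1
  refine ⟨G ⧸ d1m_cong_ker ρ, inferInstance, inferInstance, d1m_cong_C B,
    d1m_cong_act B ρ hρ, φ, hφs, ?_, ?_, ?_, ?_, ?_, hE0⟩
  · intro g; rw [hker]; exact d1m_cong_mem_ker ρ g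
  · -- (E1)
    intro γ hγ
    obtain ⟨g, rfl, hg⟩ := d1m_cong_lift_p p φ hφs hp1 γ hγ
    obtain ⟨y, hy, hy'⟩ := d1m_cong_E1 hV B hBs hBn ρ hρ hJ g hg
    exact ⟨y, hy, hy'⟩
  · -- (E2)
    intro γ hγ1 hγ
    obtain ⟨g, rfl, hg⟩ := d1m_cong_lift_p' p φ hφs γ hγ
    have hns : g ∉ d1m_cong_ker ρ := fun h => hγ1 ((hker g).mpr h)
    have hfb : MulAction.fixedBy (d1m_cong_C B) (φ g) =
        {y : d1m_cong_C B | d1m_cong_smul B ρ hρ g y = y} := rfl
    rw [hfb]
    exact d1m_cong_E2 hV B hBs hBn ρ hρ hp2 g hg hns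
  · -- (E3)
    intro γ γ' hγ hγ' hfix
    obtain ⟨g, rfl, hg⟩ := d1m_cong_lift_p p φ hφs hp1 γ hγ
    obtain ⟨g', rfl, hg'⟩ := d1m_cong_lift_p p φ hφs hp1 γ' hγ'
    have hall := d1m_cong_E3 hV B hBs hBn ρ hρ hJ hp2 g g' hg hg' hfix
    have hK : IsPGroup p ((Subgroup.closure ({g, g'} : Set G)).map φ) := by
      rintro ⟨κ, hκ⟩
      obtain ⟨h, hh, rfl⟩ := Subgroup.mem_map.mp hκ
      refine ⟨1, Subtype.ext ?_⟩
      show (φ h) ^ (p ^ 1) = 1
      rw [pow_one, ← map_pow, hker]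
      exact ⟨1, by rw [map_pow, hall h hh, one_smul]⟩
    have hgK : φ g ∈ (Subgroup.closure ({g, g'} : Set G)).map φ :=
      Subgroup.mem_map_of_mem φ (Subgroup.subset_closure (by simp))
    have hg'K : φ g' ∈ (Subgroup.closure ({g, g'} : Set G)).map φ :=
      Subgroup.mem_map_of_mem φ (Subgroup.subset_closure (by simp))
    have := d1m_cong_pgroup p hp1Γ _ hK (φ g) hgK hγ
    rw [← this]; exact hg'K
  · -- (E4)
    intro γ γ' hγ hcomm
    obtain ⟨i, j, hij, hi, n, hj⟩ := d1m_cong_decomp p γ' (orderOf_pos γ')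
    have hs : γ' ^ i = 1 := by
      obtain ⟨g, hgφ, hg⟩ := d1m_cong_lift_p p φ hφs hp1 γ hγ
      obtain ⟨d, hdφ, hd⟩ := d1m_cong_lift_p' p φ hφs (γ' ^ i) hi
      have hc : Commute γ (γ' ^ i) := hcomm.zpow_right i
      have hmem : (g * d)⁻¹ * (d * g) ∈ d1m_cong_ker ρ := by
        rw [← hker, map_mul, map_inv, map_mul, map_mul, hgφ, hdφ, hc.eq, inv_mul_cancel]
      have := d1m_cong_E4 hV B hBs hBn ρ hρ hJ g d hg hd hmem
      rw [← hdφ, hker]; exact this
    rw [hs, one_mul] at hij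
    rw [hij] at hj
    have hK : IsPGroup p (Subgroup.zpowers γ' ⊔ Subgroup.zpowers γ :
        Subgroup (G ⧸ d1m_cong_ker ρ)) := by
      apply IsPGroup.to_sup_of_normal_right'
      · rintro ⟨z, hz⟩
        obtain ⟨m, rfl⟩ := Subgroup.mem_zpowers_iff.mp hz
        refine ⟨n, Subtype.ext ?_⟩
        show (γ' ^ m) ^ (p ^ n) = 1
        rw [← zpow_natCast, ← zpow_mul, mul_comm, zpow_mul, zpow_natCast, hj, one_zpow]
      · exact IsPGroup.of_card (n := 1) (by rw [Nat.card_zpowers, hγ, pow_one])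
      · rw [Subgroup.zpowers_le, Subgroup.mem_normalizer_iff]
        have hfixz : ∀ z ∈ Subgroup.zpowers γ, γ' * z * γ'⁻¹ = z := by
          intro z hz
          obtain ⟨m, rfl⟩ := Subgroup.mem_zpowers_iff.mp hz
          have hc : Commute γ' (γ ^ m) := hcomm.symm.zpow_right m
          rw [hc.eq, mul_inv_cancel_right]
        intro h
        constructor
        · intro hh; rw [hfixz h hh]; exact hh
        · intro hh
          have e := hfixz _ hh
          have e' : γ' * (γ' * h * γ'⁻¹) = (γ' * h * γ'⁻¹) * γ' := mul_inv_eq_iff_eq_mul.mp e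
          have hz : h = γ' * h * γ'⁻¹ := by
            have h1 : h = γ'⁻¹ * ((γ' * h * γ'⁻¹) * γ') := by
              rw [inv_mul_cancel_right, inv_mul_cancel_left]
            rw [← e', inv_mul_cancel_left] at h1
            exact h1
          rw [hz]; exact hh
    have hγK : γ ∈ (Subgroup.zpowers γ' ⊔ Subgroup.zpowers γ :
        Subgroup (G ⧸ d1m_cong_ker ρ)) := Subgroup.mem_sup_right (Subgroup.mem_zpowers γ)
    have hγ'K : γ' ∈ (Subgroup.zpowers γ' ⊔ Subgroup.zpowers γ :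
        Subgroup (G ⧸ d1m_cong_ker ρ)) := Subgroup.mem_sup_left (Subgroup.mem_zpowers γ')
    have := d1m_cong_pgroup p hp1Γ _ hK γ hγK hγ
    rw [← this]; exact hγ'K

end final

end Cfsg.Agent.D1M
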