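/-
S4504 project (architect helper9), seat 8 (helper6): the "Dickson count" (section 7 of
`notes/S4504_helper9.md`).

`Γ` finite, `p ≥ 5`, Sylow `p`-subgroups of order `p`, not normal, acting on a (possibly infinite)
set `C` such that
* (E1) elements of order `p` fix exactly one point,
* (E2) non-identity `p'`-elements fix exactly two points,
* (E3) two elements of order `p` with the same fixed point generate the same subgroup,
* (E4) the centralizer of an element of order `p` is the subgroup it generates.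
Then the number of Sylow `p`-subgroups is `p + 1` and `e₁ = |N(Q) : Q| ∈ {(p - 1)/2, p - 1}`.
-/
import Mathlib

set_option autoImplicit false
set_option linter.style.haveILetI false

namespace Cfsg.Agent.D1M

universe u w

open MulAction

variable {Γ : Type u} [Group Γ] {C : Type w} [MulAction Γ C]

/-! ### elements of order `p` -/

/-- (E4) ⇒ an element whose order is divisible by `p` has order `p` -/
theorem d1m_count_order [Finite Γ] (p : ℕ) [Fact p.Prime]
    (hE4 : ∀ γ γ' : Γ, orderOf γ = p → Commute γ γ' → γ' ∈ Subgroup.zpowers γ)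
    (γ : Γ) (hγ : p ∣ orderOf γ) : orderOf γ = p := by
  obtain ⟨k, hk⟩ := hγ
  have hpos : 0 < orderOf γ := orderOf_pos γ
  have hk0 : k ≠ 0 := by
    rintro rfl
    rw [mul_zero] at hk
    omega
  have h1 : orderOf (γ ^ k) = p := by
    rw [orderOf_pow_of_dvd hk0 ⟨p, by rw [hk, mul_comm]⟩, hk,
      Nat.mul_div_cancel _ (Nat.pos_of_ne_zero hk0)]
  have h2 := hE4 (γ ^ k) γ h1 ((Commute.refl γ).pow_left k)
  have h3 := orderOf_dvd_of_mem_zpowers h2
  rw [h1] at h3
  exact Nat.dvd_antisymm h3 ⟨k, hk⟩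

/-- all Sylow `p`-subgroups have the order of `Q` -/
theorem d1m_count_card_sylow [Finite Γ] (p : ℕ) [hp : Fact p.Prime] (Q : Sylow p Γ)
    (hQ : Nat.card Q = p) (Q' : Sylow p Γ) : Nat.card Q' = p := by
  rw [Sylow.card_eq_multiplicity] at hQ ⊢
  exact hQ

/-- a non-identity element of a Sylow subgroup of order `p` has order `p` and generates it -/
theorem d1m_count_gen [Finite Γ] (p : ℕ) [hp : Fact p.Prime] (Q : Sylow p Γ)
    (hQ : Nat.card Q = p) (x : Γ) (hx : x ∈ (Q : Subgroup Γ)) (hx1 : x ≠ 1) :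
    orderOf x = p ∧ Subgroup.zpowers x = (Q : Subgroup Γ) := by
  have h1 : orderOf x ∣ p := by
    have h2 : orderOf (⟨x, hx⟩ : (Q : Subgroup Γ)) ∣ Nat.card (Q : Subgroup Γ) :=
      orderOf_dvd_natCard _
    rw [Subgroup.orderOf_mk] at h2
    rw [← hQ]
    exact h2
  have h2 : orderOf x = p := by
    rcases (Nat.dvd_prime hp.out).mp h1 with h | h
    · exact absurd (orderOf_eq_one_iff.mp h) hx1
    · exact h
  refine ⟨h2, ?_⟩
  apply Subgroup.eq_of_le_of_card_ge
  · rw [Subgroup.zpowers_le]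
    exact hx
  · rw [Nat.card_zpowers, h2]
    exact hQ.le

/-- an element of order `p` lies in a Sylow `p`-subgroup -/
theorem d1m_count_exists_sylow [Finite Γ] (p : ℕ) [Fact p.Prime] (x : Γ)
    (hx : orderOf x = p) : ∃ Q' : Sylow p Γ, x ∈ (Q' : Subgroup Γ) := by
  have hP : IsPGroup p (Subgroup.zpowers x) := by
    apply IsPGroup.of_card (n := 1)
    rw [Nat.card_zpowers, hx, pow_one]
  obtain ⟨Q', hQ'⟩ := hP.exists_le_sylow
  exact ⟨Q', hQ' (Subgroup.mem_zpowers x)⟩

/-- the number of elements of order `p` -/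
theorem d1m_count_card_order_p [Finite Γ] (p : ℕ) [hp : Fact p.Prime]
    (hcard : ∀ Q' : Sylow p Γ, Nat.card Q' = p) :
    Nat.card {γ : Γ // orderOf γ = p} = Nat.card (Sylow p Γ) * (p - 1) := by
  classical
  haveI : Fintype (Sylow p Γ) := Fintype.ofFinite _
  have hne1 : ∀ γ : Γ, orderOf γ = p → γ ≠ 1 := by
    rintro γ hγ rfl
    rw [orderOf_one] at hγ
    exact hp.out.one_lt.ne hγ
  -- the map from pairs (Sylow subgroup, non-identity element)
  let f : (Σ Q' : Sylow p Γ, {x : (Q' : Subgroup Γ) // x ≠ 1}) → {γ : Γ // orderOf γ = p} :=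
    fun q => ⟨(q.2.1 : Γ), (d1m_count_gen p q.1 (hcard q.1) _ q.2.1.2
      (fun h => q.2.2 (Subtype.ext h))).1⟩
  have hf : Function.Bijective f := by
    constructor
    · rintro ⟨Q₁, x₁, h₁⟩ ⟨Q₂, x₂, h₂⟩ h
      have hx : (x₁ : Γ) = x₂ := congrArg Subtype.val h
      have hQ : Q₁ = Q₂ := by
        apply Sylow.ext
        rw [← (d1m_count_gen p Q₁ (hcard Q₁) _ x₁.2 (fun h => h₁ (Subtype.ext h))).2,
          ← (d1m_count_gen p Q₂ (hcard Q₂) _ x₂.2 (fun h => h₂ (Subtype.ext h))).2, hx]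
      subst hQ
      have : x₁ = x₂ := Subtype.ext hx
      subst this
      rfl
    · rintro ⟨γ, hγ⟩
      obtain ⟨Q', hQ'⟩ := d1m_count_exists_sylow p γ hγ
      exact ⟨⟨Q', ⟨⟨γ, hQ'⟩, fun h => hne1 γ hγ (congrArg Subtype.val h)⟩⟩, rfl⟩
  rw [← Nat.card_congr (Equiv.ofBijective f hf), Nat.card_sigma]
  have h1 : ∀ Q' : Sylow p Γ, Nat.card {x : (Q' : Subgroup Γ) // x ≠ 1} = p - 1 := by
    intro Q'
    haveI : Fintype (Q' : Subgroup Γ) := Fintype.ofFinite _
    rw [Nat.card_eq_fintype_card, Fintype.card_subtype_compl, Fintype.card_subtype_eq,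
      ← Nat.card_eq_fintype_card, hcard Q']
  rw [Finset.sum_congr rfl (fun Q' _ => h1 Q'), Finset.sum_const, Finset.card_univ,
    smul_eq_mul, Nat.card_eq_fintype_card]

/-! ### the normalizer of `Q` -/

/-- (E4) ⇒ `C_Γ(Q) = Q` -/
theorem d1m_count_centralizer [Finite Γ] (p : ℕ) [hp : Fact p.Prime]
    (hE4 : ∀ γ γ' : Γ, orderOf γ = p → Commute γ γ' → γ' ∈ Subgroup.zpowers γ)
    (Q : Sylow p Γ) (hQ : Nat.card Q = p) :
    Subgroup.centralizer ((Q : Subgroup Γ) : Set Γ) = (Q : Subgroup Γ) := by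
  have hne : ∃ x : Γ, x ∈ (Q : Subgroup Γ) ∧ x ≠ 1 := by
    by_contra hcon
    push Not at hcon
    have h1 : (Q : Subgroup Γ) = ⊥ := (Subgroup.eq_bot_iff_forall _).mpr hcon
    rw [show Nat.card Q = Nat.card (Q : Subgroup Γ) from rfl, h1, Subgroup.card_bot] at hQ
    exact hp.out.one_lt.ne hQ
  obtain ⟨x, hx, hx1⟩ := hne
  obtain ⟨hord, hgen⟩ := d1m_count_gen p Q hQ x hx hx1
  apply le_antisymm
  · intro c hc
    rw [← hgen]
    apply hE4 x c hord
    exact (Subgroup.mem_centralizer_iff.mp hc x hx)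
  · intro c hc
    rw [Subgroup.mem_centralizer_iff]
    intro h hh
    rw [SetLike.mem_coe, ← hgen] at hh
    rw [← hgen] at hc
    obtain ⟨i, rfl⟩ := Subgroup.mem_zpowers_iff.mp hh
    obtain ⟨j, rfl⟩ := Subgroup.mem_zpowers_iff.mp hc
    exact (zpow_mul_comm x i j)

/-- `e₁ = |N(Q) : Q|` divides `p - 1` -/
theorem d1m_count_e1_dvd [Finite Γ] (p : ℕ) [hp : Fact p.Prime]
    (hE4 : ∀ γ γ' : Γ, orderOf γ = p → Commute γ γ' → γ' ∈ Subgroup.zpowers γ)
    (Q : Sylow p Γ) (hQ : Nat.card Q = p) :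
    (Q : Subgroup Γ).relIndex (Subgroup.normalizer ((Q : Subgroup Γ) : Set Γ)) ∣ p - 1 := by
  have key := Subgroup.card_dvd_of_injective _
    (QuotientGroup.kerLift_injective (Q : Subgroup Γ).normalizerMonoidHom)
  rw [Subgroup.normalizerMonoidHom_ker, ← Subgroup.index, ← Subgroup.relIndex,
    d1m_count_centralizer p hE4 Q hQ] at key
  haveI : Fact (Nat.card (Q : Subgroup Γ)).Prime := by
    rw [show Nat.card (Q : Subgroup Γ) = p from hQ]
    exact hp
  haveI : IsCyclic (Q : Subgroup Γ) := isCyclic_of_prime_card (p := Nat.card (Q : Subgroup Γ)) rfl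
  rw [IsCyclic.card_mulAut, show Nat.card (Q : Subgroup Γ) = p from hQ,
    Nat.totient_prime hp.out] at key
  exact key

/-- `|N(Q)| = p e₁` -/
theorem d1m_count_card_normalizer (p : ℕ) (Q : Sylow p Γ) (hQ : Nat.card Q = p) :
    Nat.card (Subgroup.normalizer ((Q : Subgroup Γ) : Set Γ)) =
      p * (Q : Subgroup Γ).relIndex (Subgroup.normalizer ((Q : Subgroup Γ) : Set Γ)) := by
  have h := Subgroup.relIndex_mul_relIndex (H := ⊥) (K := (Q : Subgroup Γ))
    (L := Subgroup.normalizer ((Q : Subgroup Γ) : Set Γ)) bot_le Subgroup.le_normalizer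
  rw [Subgroup.relIndex_bot_left, Subgroup.relIndex_bot_left] at h
  rw [← h]
  congr 1

/-- the stabilizer of the fixed point of `Q` is `N(Q)` -/
theorem d1m_count_stab [Finite Γ] (p : ℕ) [hp : Fact p.Prime]
    (hE1 : ∀ γ : Γ, orderOf γ = p → ∃! y : C, γ • y = y)
    (hE3 : ∀ γ γ' : Γ, orderOf γ = p → orderOf γ' = p → (∀ y : C, γ • y = y → γ' • y = y) →
      γ' ∈ Subgroup.zpowers γ)
    (Q : Sylow p Γ) (hQ : Nat.card Q = p) (x : Γ) (hx : x ∈ (Q : Subgroup Γ)) (hx1 : x ≠ 1)
    (l : C) (hl : x • l = l) :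
    stabilizer Γ l = Subgroup.normalizer ((Q : Subgroup Γ) : Set Γ) := by
  obtain ⟨hord, hgen⟩ := d1m_count_gen p Q hQ x hx hx1
  have huniq : ∀ y : C, x • y = y → y = l := by
    intro y hy
    obtain ⟨l', -, hl'⟩ := hE1 x hord
    rw [hl' y hy, hl' l hl]
  ext s
  rw [mem_stabilizer_iff]
  constructor
  · intro hs
    -- `s x s⁻¹` has order `p` and fixes `l`
    have hord' : orderOf (s * x * s⁻¹) = p := by
      rw [← MulAut.conj_apply, MulEquiv.orderOf_eq]
      exact hord
    have hfix : ∀ y : C, x • y = y → (s * x * s⁻¹) • y = y := by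
      intro y hy
      rw [huniq y hy, mul_smul, mul_smul]
      have h1 : s⁻¹ • l = l := by rw [inv_smul_eq_iff, hs]
      rw [h1, hl, hs]
    have hmem : s * x * s⁻¹ ∈ (Q : Subgroup Γ) := by
      rw [← hgen]
      exact hE3 x _ hord hord' hfix
    have hne : s * x * s⁻¹ ≠ 1 := by
      intro h
      rw [← orderOf_eq_one_iff, hord'] at h
      exact hp.out.one_lt.ne' h
    -- `s • Q = Q`
    refine Sylow.smul_eq_iff_mem_normalizer.mp ?_
    have hmem' : s * x * s⁻¹ ∈ ((s • Q : Sylow p Γ) : Subgroup Γ) := by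
      rw [Sylow.coe_subgroup_smul]
      exact ⟨x, hx, rfl⟩
    have hQ' : Nat.card (s • Q : Sylow p Γ) = p := d1m_count_card_sylow p Q hQ _
    apply Sylow.ext
    rw [← (d1m_count_gen p (s • Q) hQ' _ hmem' hne).2, ← (d1m_count_gen p Q hQ _ hmem hne).2]
  · intro hs
    -- `s x s⁻¹ ∈ Q` fixes `l` and `s • l`
    have hmem : s * x * s⁻¹ ∈ (Q : Subgroup Γ) :=
      (Subgroup.mem_normalizer_iff.mp hs x).mp hx
    have hord' : orderOf (s * x * s⁻¹) = p := by
      rw [← MulAut.conj_apply, MulEquiv.orderOf_eq]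
      exact hord
    have h1 : (s * x * s⁻¹) • l = l := by
      rw [← hgen] at hmem
      exact smul_eq_self_of_mem_zpowers hmem hl
    have h2 : (s * x * s⁻¹) • (s • l) = s • l := by
      rw [mul_smul, mul_smul, inv_smul_smul, hl]
    obtain ⟨l', -, hl'⟩ := hE1 _ hord'
    rw [hl' _ h2, hl' _ h1]

/-! ### double counting -/

open Classical in
/-- pairs (non-identity element, fixed point), counted in two ways -/
theorem d1m_count_pairs [Fintype Γ] (C0 : Finset C) :
    ∑ γ ∈ Finset.univ.erase (1 : Γ), (C0.filter (fun y => γ • y = y)).card =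
      ∑ y ∈ C0, ((Finset.univ.filter (fun γ : Γ => γ • y = y)).card - 1) := by
  simp_rw [Finset.card_filter]
  rw [Finset.sum_comm]
  refine Finset.sum_congr rfl (fun y _ => ?_)
  rw [← Finset.card_filter, Finset.filter_erase, Finset.card_erase_of_mem]
  · rw [Finset.card_filter]
  · rw [Finset.mem_filter]
    exact ⟨Finset.mem_univ _, one_smul _ _⟩

open Classical in
/-- the contribution of one orbit -/
theorem d1m_count_orbit [Finite Γ] (y : C) (O : Finset C) (hO : ∀ z, z ∈ O ↔ z ∈ orbit Γ y) :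
    O.card * Nat.card (stabilizer Γ y) = Nat.card Γ ∧
      ∑ z ∈ O, (Nat.card (stabilizer Γ z) - 1) = O.card * (Nat.card (stabilizer Γ y) - 1) := by
  constructor
  · have h1 : O.card = Nat.card (orbit Γ y) := by
      rw [_root_.Nat.card_coe_set_eq, ← Set.ncard_coe_finset]
      congr 1
      ext z
      exact hO z
    rw [h1, ← Nat.card_prod]
    exact Nat.card_congr (orbitProdStabilizerEquivGroup Γ y)
  · have h2 : ∀ z ∈ O, Nat.card (stabilizer Γ z) - 1 = Nat.card (stabilizer Γ y) - 1 := by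
      intro z hz
      have h3 : orbitRel Γ C z y := orbitRel_apply.mpr ((hO z).mp hz)
      rw [Nat.card_congr (stabilizerEquivStabilizerOfOrbitRel h3).toEquiv]
    rw [Finset.sum_congr rfl h2, Finset.sum_const, smul_eq_mul]

/-- the arithmetic of the count -/
theorem d1m_count_arith (q m e s : ℕ) (hq : 3 ≤ q) (hm : q + 3 ≤ m) (he : e ∣ q + 1)
    (h : s * (2 + m * q) = m * (q + 2) * e) : m = q + 3 ∧ (2 * e = q + 1 ∨ e = q + 1) := by
  have he0 : 0 < e := Nat.pos_of_dvd_of_pos he (by omega)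
  have hele : e ≤ q + 1 := Nat.le_of_dvd (by omega) he
  -- `e < s`
  have h1 : e < s := by
    by_contra hcon
    push Not at hcon
    have h2 : s * (2 + m * q) ≤ e * (2 + m * q) := Nat.mul_le_mul_right _ hcon
    nlinarith
  -- `s ≤ e + 2`
  have h2 : s ≤ e + 2 := by
    by_contra hcon
    push Not at hcon
    have h3 : (e + 3) * (2 + m * q) ≤ s * (2 + m * q) := Nat.mul_le_mul_right _ hcon
    have h4 : 2 * (m * e) ≤ 3 * (m * q) := by nlinarith
    nlinarith
  obtain ⟨c, hc⟩ := he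
  have hs : s = e + 1 ∨ s = e + 2 := by omega
  rcases hs with rfl | rfl
  · -- `m (2e - q) = 2e + 2`
    have h3 : 2 * e + 2 + m * q = 2 * (m * e) := by nlinarith
    have hc2 : c ≤ 2 := by
      by_contra hcon
      push Not at hcon
      have h5 : e * 3 ≤ e * c := Nat.mul_le_mul_left e hcon
      have h6 : 2 * e ≤ q := by omega
      have h7 : m * (2 * e) ≤ m * q := Nat.mul_le_mul_left m h6
      nlinarith
    have hc0 : c ≠ 0 := by
      rintro rfl
      omega
    have hc12 : c = 1 ∨ c = 2 := by omega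
    rcases hc12 with rfl | rfl
    · exfalso
      have he' : e = q + 1 := by omega
      subst he'
      nlinarith
    · have he' : 2 * e = q + 1 := by omega
      refine ⟨?_, Or.inl he'⟩
      nlinarith
  · -- `m (e - q) = e + 2`
    have h3 : e + 2 + m * q = m * e := by nlinarith
    have he' : e = q + 1 := by
      have : q < e := by
        by_contra hcon
        push Not at hcon
        have : m * e ≤ m * q := Nat.mul_le_mul_left m hcon
        omega
      omega
    subst he'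
    refine ⟨?_, Or.inr rfl⟩
    nlinarith

/-! ### the main theorem -/

/-- **The Dickson count** (section 7 of the S4504 note). -/
theorem d1m_count_main [Finite Γ] (p : ℕ) [hp : Fact p.Prime] (hp5 : 5 ≤ p)
    (hE1 : ∀ γ : Γ, orderOf γ = p → ∃! y : C, γ • y = y)
    (hE2 : ∀ γ : Γ, γ ≠ 1 → ¬ p ∣ orderOf γ → (fixedBy C γ).ncard = 2)
    (hE3 : ∀ γ γ' : Γ, orderOf γ = p → orderOf γ' = p → (∀ y : C, γ • y = y → γ' • y = y) →
      γ' ∈ Subgroup.zpowers γ)
    (hE4 : ∀ γ γ' : Γ, orderOf γ = p → Commute γ γ' → γ' ∈ Subgroup.zpowers γ)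
    (Q : Sylow p Γ) (hQ : Nat.card Q = p) (hnn : ¬ (Q : Subgroup Γ).Normal) :
    Nat.card (Sylow p Γ) = p + 1 ∧
      (2 * (Q : Subgroup Γ).relIndex (Subgroup.normalizer ((Q : Subgroup Γ) : Set Γ)) = p - 1 ∨
        (Q : Subgroup Γ).relIndex (Subgroup.normalizer ((Q : Subgroup Γ) : Set Γ)) = p - 1) ∧
      Nat.card Γ = (p + 1) * p *
        (Q : Subgroup Γ).relIndex (Subgroup.normalizer ((Q : Subgroup Γ) : Set Γ)) ∧
      Subgroup.centralizer ((Q : Subgroup Γ) : Set Γ) = (Q : Subgroup Γ) := by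
  classical
  haveI : Fintype Γ := Fintype.ofFinite Γ
  have hcent := d1m_count_centralizer p hE4 Q hQ
  have he1dvd := d1m_count_e1_dvd p hE4 Q hQ
  have hNcard := d1m_count_card_normalizer p Q hQ
  have hcardS := d1m_count_card_sylow p Q hQ
  obtain ⟨e1, he1⟩ : ∃ e1, e1 =
      (Q : Subgroup Γ).relIndex (Subgroup.normalizer ((Q : Subgroup Γ) : Set Γ)) := ⟨_, rfl⟩
  obtain ⟨m, hm⟩ : ∃ m, m = Nat.card (Sylow p Γ) := ⟨_, rfl⟩
  obtain ⟨g, hg⟩ : ∃ g, g = Nat.card Γ := ⟨_, rfl⟩
  rw [← he1] at he1dvd hNcard ⊢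
  rw [← hm, ← hg]
  refine (fun h : m = p + 1 ∧ (2 * e1 = p - 1 ∨ e1 = p - 1) ∧ g = m * p * e1 =>
    ⟨h.1, h.2.1, by rw [h.2.2, h.1], hcent⟩) ?_
  have hgpos : 0 < g := by rw [hg]; exact Nat.card_pos
  have he1pos : 0 < e1 := Nat.pos_of_dvd_of_pos he1dvd (by omega)
  -- `g = m p e₁`
  have hgm : g = m * p * e1 := by
    have h1 := Subgroup.card_mul_index (Subgroup.normalizer ((Q : Subgroup Γ) : Set Γ))
    have h2 : m = (Subgroup.normalizer ((Q : Subgroup Γ) : Set Γ)).index := by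
      rw [hm]
      exact Sylow.card_eq_index_normalizer Q
    rw [hNcard, ← h2, ← hg] at h1
    rw [← h1]
    ring
  -- `m ≥ p + 1`
  have hm1 : m ≡ 1 [MOD p] := by rw [hm]; exact card_sylow_modEq_one p Γ
  have hmpos : 0 < m := by rw [hm]; exact Nat.card_pos
  have hmgt : 1 < m := by
    by_contra hcon
    have h1 : Nat.card (Sylow p Γ) = 1 := by omega
    haveI : Subsingleton (Sylow p Γ) := (Nat.card_eq_one_iff_unique.mp h1).1
    exact hnn (Sylow.normal_of_subsingleton Q)
  have hmge : p + 1 ≤ m := by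
    have h1 := (Nat.modEq_iff_dvd' (by omega : 1 ≤ m)).mp hm1.symm
    obtain ⟨k, hk⟩ := h1
    have hk0 : k ≠ 0 := by
      rintro rfl
      omega
    have : p * 1 ≤ p * k := Nat.mul_le_mul_left p (Nat.one_le_iff_ne_zero.mpr hk0)
    omega
  -- a generator `x` of `Q` and its fixed point `l`
  obtain ⟨x, hx, hx1⟩ : ∃ x : Γ, x ∈ (Q : Subgroup Γ) ∧ x ≠ 1 := by
    by_contra hcon
    push Not at hcon
    have h1 : (Q : Subgroup Γ) = ⊥ := (Subgroup.eq_bot_iff_forall _).mpr hcon
    rw [show Nat.card Q = Nat.card (Q : Subgroup Γ) from rfl, h1, Subgroup.card_bot] at hQ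
    omega
  obtain ⟨hord, hgen⟩ := d1m_count_gen p Q hQ x hx hx1
  obtain ⟨l, hl, -⟩ := hE1 x hord
  have hstab := d1m_count_stab p hE1 hE3 Q hQ x hx hx1 l hl
  -- fixed point sets
  have hfix1 : ∀ γ : Γ, orderOf γ = p → ∃ y : C, fixedBy C γ = {y} := by
    intro γ ho
    obtain ⟨y, hy, hy'⟩ := hE1 γ ho
    refine ⟨y, ?_⟩
    ext z
    rw [mem_fixedBy, Set.mem_singleton_iff]
    exact ⟨fun h => hy' z h, fun h => h ▸ hy⟩
  have hfixfin : ∀ γ : Γ, γ ≠ 1 → (fixedBy C γ).Finite := by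
    intro γ hγ
    by_cases hpo : p ∣ orderOf γ
    · obtain ⟨y, hy⟩ := hfix1 γ (d1m_count_order p hE4 γ hpo)
      rw [hy]
      exact Set.finite_singleton y
    · exact Set.finite_of_ncard_ne_zero (by rw [hE2 γ hγ hpo]; norm_num)
  have hfin : (⋃ γ ∈ {γ : Γ | γ ≠ 1}, fixedBy C γ).Finite :=
    Set.Finite.biUnion (Set.toFinite _) (fun γ hγ => hfixfin γ hγ)
  obtain ⟨C0, hC0⟩ : ∃ C0 : Finset C, ∀ y, y ∈ C0 ↔ ∃ γ : Γ, γ ≠ 1 ∧ γ • y = y := by
    refine ⟨hfin.toFinset, fun y => ?_⟩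
    rw [Set.Finite.mem_toFinset, Set.mem_iUnion₂]
    simp only [Set.mem_ofPred_eq, mem_fixedBy, exists_prop]
  -- `C0` is `Γ`-stable
  have hC0stab : ∀ y ∈ C0, ∀ z ∈ orbit Γ y, z ∈ C0 := by
    intro y hy z hz
    obtain ⟨γ, hγ, hγy⟩ := (hC0 y).mp hy
    obtain ⟨s, rfl⟩ := hz
    refine (hC0 _).mpr ⟨s * γ * s⁻¹, ?_, ?_⟩
    · intro h
      apply hγ
      have : γ = s⁻¹ * (s * γ * s⁻¹) * s := by group
      rw [this, h]
      group
    · show (s * γ * s⁻¹) • s • y = s • y
      rw [mul_smul, mul_smul, inv_smul_smul, hγy]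
  have hO_of : ∀ y ∈ C0, ∀ z, z ∈ C0.filter (fun z => z ∈ orbit Γ y) ↔ z ∈ orbit Γ y := by
    intro y hy z
    rw [Finset.mem_filter]
    exact ⟨fun h => h.2, fun h => ⟨hC0stab y hy z h, h⟩⟩
  -- the fibres
  have hfibγ : ∀ γ ∈ Finset.univ.erase (1 : Γ), (C0.filter (fun y => γ • y = y)).card =
      if orderOf γ = p then 1 else 2 := by
    intro γ hγ
    have hγ1 : γ ≠ 1 := Finset.ne_of_mem_erase hγ
    have hset : ((C0.filter (fun y => γ • y = y) : Finset C) : Set C) = fixedBy C γ := by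
      ext y
      rw [Finset.mem_coe, Finset.mem_filter, mem_fixedBy, hC0]
      exact ⟨fun h => h.2, fun h => ⟨⟨γ, hγ1, h⟩, h⟩⟩
    rw [← Set.ncard_coe_finset, hset]
    split_ifs with ho
    · obtain ⟨y, hy⟩ := hfix1 γ ho
      rw [hy, Set.ncard_singleton]
    · exact hE2 γ hγ1 (fun hdvd => ho (d1m_count_order p hE4 γ hdvd))
  have hfiby : ∀ y : C, (Finset.univ.filter (fun γ : Γ => γ • y = y)).card =
      Nat.card (stabilizer Γ y) := by
    intro y
    rw [Nat.card_eq_fintype_card, Fintype.card_subtype]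
    congr 1
  -- the left hand side
  have hEp : ∑ γ ∈ Finset.univ.erase (1 : Γ), (if orderOf γ = p then 1 else 0) =
      m * (p - 1) := by
    rw [← Finset.card_filter, Finset.filter_erase, Finset.erase_eq_of_notMem, hm,
      ← d1m_count_card_order_p p hcardS, Nat.card_eq_fintype_card, Fintype.card_subtype]
    rw [Finset.mem_filter, orderOf_one]
    intro h
    have := h.2
    omega
  have hsum2 : ∑ γ ∈ Finset.univ.erase (1 : Γ), (if orderOf γ = p then 1 else 2) +
      ∑ γ ∈ Finset.univ.erase (1 : Γ), (if orderOf γ = p then 1 else 0) = 2 * (g - 1) := by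
    rw [← Finset.sum_add_distrib]
    have h1 : ∀ γ ∈ Finset.univ.erase (1 : Γ),
        (if orderOf γ = p then 1 else 2) + (if orderOf γ = p then 1 else 0) = 2 := by
      intro γ _
      split_ifs <;> rfl
    rw [Finset.sum_congr rfl h1, Finset.sum_const, Finset.card_erase_of_mem (Finset.mem_univ _),
      Finset.card_univ, ← Nat.card_eq_fintype_card, ← hg, smul_eq_mul, mul_comm]
  have hR : ∑ γ ∈ Finset.univ.erase (1 : Γ), (if orderOf γ = p then 1 else 2) =
      ∑ y ∈ C0, (Nat.card (stabilizer Γ y) - 1) := by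
    rw [← Finset.sum_congr rfl hfibγ, d1m_count_pairs C0]
    exact Finset.sum_congr rfl (fun y _ => by rw [hfiby y])
  -- the orbit of `l`
  have hl0 : l ∈ C0 := (hC0 l).mpr ⟨x, hx1, hl⟩
  obtain ⟨hO1a, hO1b⟩ := d1m_count_orbit l _ (hO_of l hl0)
  rw [hstab, hNcard] at hO1a hO1b
  have hO1card : (C0.filter (fun z => z ∈ orbit Γ l)).card = m := by
    have h1 : (C0.filter (fun z => z ∈ orbit Γ l)).card * (p * e1) = m * (p * e1) := by
      rw [hO1a, ← hg, hgm]
      ring
    exact Nat.eq_of_mul_eq_mul_right (Nat.mul_pos (by omega) he1pos) h1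
  rw [hO1card] at hO1b
  -- the rest `B`
  obtain ⟨T, hT⟩ : ∃ T, T = ∑ z ∈ C0.filter (fun z => ¬ z ∈ orbit Γ l),
      (Nat.card (stabilizer Γ z) - 1) := ⟨_, rfl⟩
  have hsplit := Finset.sum_filter_add_sum_filter_not C0 (fun z => z ∈ orbit Γ l)
    (fun z => Nat.card (stabilizer Γ z) - 1)
  rw [hO1b, ← hT] at hsplit
  -- the key equation `T + 2 + m (p - 2) = g`
  have hkey : T + 2 + m * (p - 2) = g := by
    have ha : m * (p * e1 - 1) + m = g := by
      have : p * e1 - 1 + 1 = p * e1 :=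
        Nat.sub_add_cancel (Nat.mul_pos (by omega) he1pos)
      rw [hgm]
      calc m * (p * e1 - 1) + m = m * (p * e1 - 1 + 1) := by ring
        _ = m * p * e1 := by rw [this]; ring
    have hb : m * (p - 1) + m = m * p := by
      have : p - 1 + 1 = p := Nat.sub_add_cancel (by omega)
      calc m * (p - 1) + m = m * (p - 1 + 1) := by ring
        _ = m * p := by rw [this]
    have hc : m * (p - 2) + 2 * m = m * p := by
      have : p - 2 + 2 = p := Nat.sub_add_cancel (by omega)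
      calc m * (p - 2) + 2 * m = m * (p - 2 + 2) := by ring
        _ = m * p := by rw [this]
    rw [hR, ← hsplit, hEp] at hsum2
    omega
  have hF2 : ∀ y ∈ C0, 2 ≤ Nat.card (stabilizer Γ y) := by
    intro y hy
    obtain ⟨γ, hγ, hγy⟩ := (hC0 y).mp hy
    haveI : Nontrivial (stabilizer Γ y) :=
      ⟨⟨⟨γ, hγy⟩, 1, fun h => hγ (congrArg Subtype.val h)⟩⟩
    exact Finite.one_lt_card
  have hkey2 : m = p + 1 ∧ (2 * e1 = p - 1 ∨ e1 = p - 1) := by
    by_cases hB : C0.filter (fun z => ¬ z ∈ orbit Γ l) = ∅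
    · exfalso
      rw [hB, Finset.sum_empty] at hT
      have hc : m * (p - 2) + 2 * m = m * p := by
        have : p - 2 + 2 = p := Nat.sub_add_cancel (by omega)
        calc m * (p - 2) + 2 * m = m * (p - 2 + 2) := by ring
          _ = m * p := by rw [this]
      have hd : m * p ≤ m * p * e1 := Nat.le_mul_of_pos_right _ he1pos
      omega
    · obtain ⟨y, hyB⟩ := Finset.nonempty_iff_ne_empty.mpr hB
      rw [Finset.mem_filter] at hyB
      obtain ⟨hy0, hyl⟩ := hyB
      obtain ⟨hO2a, hO2b⟩ := d1m_count_orbit y _ (hO_of y hy0)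
      have hs2 := hF2 y hy0
      -- the orbit of `y` lies in `B`
      have hsub : C0.filter (fun z => z ∈ orbit Γ y) ⊆
          C0.filter (fun z => ¬ z ∈ orbit Γ l) := by
        intro z hz
        rw [Finset.mem_filter] at hz ⊢
        refine ⟨hz.1, fun hzl => hyl ?_⟩
        rw [← orbit_eq_iff] at hzl ⊢
        rw [← hzl, orbit_eq_iff.mpr hz.2]
      by_cases hB2 : C0.filter (fun z => ¬ z ∈ orbit Γ l) ⊆ C0.filter (fun z => z ∈ orbit Γ y)
      · have hBeq := Finset.Subset.antisymm hB2 hsub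
        rw [hBeq, hO2b] at hT
        -- `k (s - 1) + k = g`
        obtain ⟨k, hk⟩ : ∃ k, k = (C0.filter (fun z => z ∈ orbit Γ y)).card := ⟨_, rfl⟩
        obtain ⟨s, hs⟩ : ∃ s, s = Nat.card (stabilizer Γ y) := ⟨_, rfl⟩
        rw [← hk, ← hs] at hO2a hT
        rw [← hs] at hs2
        have h1 : k * (s - 1) + k = g := by
          have : s - 1 + 1 = s := Nat.sub_add_cancel (by omega)
          calc k * (s - 1) + k = k * (s - 1 + 1) := by ring
            _ = g := by rw [this, hO2a, hg]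
        have h2 : k = 2 + m * (p - 2) := by omega
        have h3 : s * (2 + m * (p - 2)) = m * (p - 2 + 2) * e1 := by
          rw [Nat.sub_add_cancel (by omega), ← h2, mul_comm, hO2a, ← hg, hgm]
        have h4 := d1m_count_arith (p - 2) m e1 s (by omega) (by omega)
          (by rw [show p - 2 + 1 = p - 1 by omega]; exact he1dvd) h3
        refine ⟨by omega, ?_⟩
        rcases h4.2 with h | h
        · exact Or.inl (by omega)
        · exact Or.inr (by omega)
      · exfalso
        obtain ⟨y', hy'B, hy'O⟩ := Finset.not_subset.mp hB2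
        rw [Finset.mem_filter] at hy'B
        obtain ⟨hy'0, hy'l⟩ := hy'B
        obtain ⟨hO3a, hO3b⟩ := d1m_count_orbit y' _ (hO_of y' hy'0)
        have hs3 := hF2 y' hy'0
        have hy'y : ¬ y' ∈ orbit Γ y := fun h => hy'O (Finset.mem_filter.mpr ⟨hy'0, h⟩)
        have hsub' : C0.filter (fun z => z ∈ orbit Γ y') ⊆
            C0.filter (fun z => ¬ z ∈ orbit Γ l) := by
          intro z hz
          rw [Finset.mem_filter] at hz ⊢
          refine ⟨hz.1, fun hzl => hy'l ?_⟩
          rw [← orbit_eq_iff] at hzl ⊢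
          rw [← hzl, orbit_eq_iff.mpr hz.2]
        have hdisj : Disjoint (C0.filter (fun z => z ∈ orbit Γ y))
            (C0.filter (fun z => z ∈ orbit Γ y')) := by
          rw [Finset.disjoint_left]
          intro z hz hz'
          rw [Finset.mem_filter] at hz hz'
          apply hy'y
          rw [← orbit_eq_iff, ← orbit_eq_iff.mpr hz'.2, orbit_eq_iff.mpr hz.2]
        have hle : ∑ z ∈ C0.filter (fun z => z ∈ orbit Γ y) ∪ C0.filter (fun z => z ∈ orbit Γ y'),
            (Nat.card (stabilizer Γ z) - 1) ≤ T := by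
          rw [hT]
          exact Finset.sum_le_sum_of_subset (Finset.union_subset hsub hsub')
        rw [Finset.sum_union hdisj, hO2b, hO3b] at hle
        obtain ⟨k, hk⟩ : ∃ k, k = (C0.filter (fun z => z ∈ orbit Γ y)).card := ⟨_, rfl⟩
        obtain ⟨s, hs⟩ : ∃ s, s = Nat.card (stabilizer Γ y) := ⟨_, rfl⟩
        obtain ⟨k', hk'⟩ : ∃ k', k' = (C0.filter (fun z => z ∈ orbit Γ y')).card := ⟨_, rfl⟩
        obtain ⟨s', hs'⟩ : ∃ s', s' = Nat.card (stabilizer Γ y') := ⟨_, rfl⟩
        rw [← hk, ← hs, ← hk', ← hs'] at hle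
        rw [← hk, ← hs, ← hg] at hO2a
        rw [← hk', ← hs', ← hg] at hO3a
        rw [← hs] at hs2
        rw [← hs'] at hs3
        have h1 : k * s ≤ 2 * (k * (s - 1)) := by
          have : s ≤ 2 * (s - 1) := by omega
          calc k * s ≤ k * (2 * (s - 1)) := Nat.mul_le_mul_left k this
            _ = 2 * (k * (s - 1)) := by ring
        have h2 : k' * s' ≤ 2 * (k' * (s' - 1)) := by
          have : s' ≤ 2 * (s' - 1) := by omega
          calc k' * s' ≤ k' * (2 * (s' - 1)) := Nat.mul_le_mul_left k' this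
            _ = 2 * (k' * (s' - 1)) := by ring
        omega
  exact ⟨hkey2.1, hkey2.2, hgm⟩

end Cfsg.Agent.D1M
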