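import Mathlib
import Cfsg.Agent.BR.NOne

/-!
# D1M / EndA : file 10a of the S4504 project (`notes/S4504_headers.md`)

A perfect finite group `Γ` with a self-centralizing Sylow `p`-subgroup of prime order `p ≥ 5` and
exactly `p + 1` Sylow `p`-subgroups is `PSL(2, p)`.  This is the landed `BR/NOne.lean`
(`br_nOne`: faithful transitive action on the `p + 1` Sylow subgroups, the landed `S0732`,
`PGL(2,p)` is not perfect, the semi-affine groups are solvable); the order hypothesis `hcard`
of the frozen header is not needed.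
-/

set_option autoImplicit false

namespace Cfsg.Agent.D1M

universe u

/-- **File 10a (frozen header of `notes/S4504_headers.md`).** -/
theorem d1m_enda_main {Γ : Type u} [Group Γ] [Finite Γ] (p : ℕ) [Fact p.Prime] (hp5 : 5 ≤ p)
    (hperf : commutator Γ = ⊤)
    (Q : Sylow p Γ) (hQ : Nat.card Q = p) (hsyl : Nat.card (Sylow p Γ) = p + 1)
    (hcent : Subgroup.centralizer ((Q : Subgroup Γ) : Set Γ) = (Q : Subgroup Γ))
    (_hcard : 2 * Nat.card Γ = (p + 1) * p * (p - 1)) :
    Nonempty (Γ ≃* Matrix.ProjectiveSpecialLinearGroup (Fin 2) (ZMod p)) :=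
  Cfsg.Agent.BR.br_nOne p hp5 Q hQ hcent hperf hsyl

/-- the same without the (unused) order hypothesis, and with `C(Q) ≤ Q` only. -/
theorem d1m_enda_main' {Γ : Type u} [Group Γ] [Finite Γ] (p : ℕ) [Fact p.Prime] (hp5 : 5 ≤ p)
    (hperf : commutator Γ = ⊤)
    (Q : Sylow p Γ) (hQ : Nat.card Q = p) (hsyl : Nat.card (Sylow p Γ) = p + 1)
    (hcent : Subgroup.centralizer ((Q : Subgroup Γ) : Set Γ) ≤ (Q : Subgroup Γ)) :
    Nonempty (Γ ≃* Matrix.ProjectiveSpecialLinearGroup (Fin 2) (ZMod p)) :=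
  Cfsg.Agent.BR.br_nOne' p hp5 Q hQ hcent hperf hsyl

end Cfsg.Agent.D1M
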