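import Cfsg.Agent.D1M.FinA
import Cfsg.Agent.D1M.EndA

/-!
# D1M / FinB : steps 4 + 5 of the endgame of S4504 — `Γ` is perfect, `Γ ≃ PSL(2,p)`, `G/Z(G) ≃ Γ`

Same ambient as `D1M/FinA` plus `⁅Hx,Hx⁆ = Hx` for `Hx = ⟨x^G⟩`.  The Dickson count on the normal subgroup
`φ(Hx)` of `Γ` (restricted action; (E1)–(E4) are elementwise) gives `|φ(Hx)| ≥ (p+1) p (p-1)/2 = |Γ|`, so
`Γ = φ(Hx)` is perfect; then `d1m_enda_main'` and `G/ker φ ≃ Γ`.
-/

set_option autoImplicit false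
set_option linter.unusedSectionVars false

namespace Cfsg.Agent.D1M

universe u u' w

section restrict

variable {Γ : Type u'} [Group Γ] {C : Type w} [MulAction Γ C] (p : ℕ) (Γ₁ : Subgroup Γ)

theorem d1m_finb_E1 (hE1 : ∀ γ : Γ, orderOf γ = p → ∃! y : C, γ • y = y) :
    ∀ γ : ↥Γ₁, orderOf γ = p → ∃! y : C, γ • y = y := by
  intro γ hγ
  have h := hE1 (γ : Γ) (by rw [Subgroup.orderOf_coe]; exact hγ)
  simpa only [Subgroup.smul_def] using h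

theorem d1m_finb_E2
    (hE2 : ∀ γ : Γ, γ ≠ 1 → ¬ p ∣ orderOf γ → (MulAction.fixedBy C γ).ncard = 2) :
    ∀ γ : ↥Γ₁, γ ≠ 1 → ¬ p ∣ orderOf γ → (MulAction.fixedBy C γ).ncard = 2 := by
  intro γ hγ1 hγ
  have h := hE2 (γ : Γ) (fun h => hγ1 (Subtype.ext h)) (by rw [Subgroup.orderOf_coe]; exact hγ)
  have : MulAction.fixedBy C γ = MulAction.fixedBy C (γ : Γ) := by
    ext y
    simp only [MulAction.mem_fixedBy, Subgroup.smul_def]
  rw [this]; exact h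

theorem d1m_finb_E3
    (hE3 : ∀ γ γ' : Γ, orderOf γ = p → orderOf γ' = p → (∀ y : C, γ • y = y → γ' • y = y) →
      γ' ∈ Subgroup.zpowers γ) :
    ∀ γ γ' : ↥Γ₁, orderOf γ = p → orderOf γ' = p → (∀ y : C, γ • y = y → γ' • y = y) →
      γ' ∈ Subgroup.zpowers γ := by
  intro γ γ' hγ hγ' hfix
  have h := hE3 (γ : Γ) (γ' : Γ) (by rw [Subgroup.orderOf_coe]; exact hγ)
    (by rw [Subgroup.orderOf_coe]; exact hγ')
    (fun y hy => by
      have := hfix y (by rw [Subgroup.smul_def]; exact hy)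
      rwa [Subgroup.smul_def] at this)
  obtain ⟨i, hi⟩ := Subgroup.mem_zpowers_iff.mp h
  refine Subgroup.mem_zpowers_iff.mpr ⟨i, Subtype.ext ?_⟩
  rw [Subgroup.coe_zpow]; exact hi

theorem d1m_finb_E4
    (hE4 : ∀ γ γ' : Γ, orderOf γ = p → Commute γ γ' → γ' ∈ Subgroup.zpowers γ) :
    ∀ γ γ' : ↥Γ₁, orderOf γ = p → Commute γ γ' → γ' ∈ Subgroup.zpowers γ := by
  intro γ γ' hγ hc
  have hc' : Commute (γ : Γ) (γ' : Γ) := by
    have h0 : ((γ * γ' : ↥Γ₁) : Γ) = ((γ' * γ : ↥Γ₁) : Γ) := congrArg Subtype.val hc.eq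
    rw [Subgroup.coe_mul, Subgroup.coe_mul] at h0
    exact h0
  have h := hE4 (γ : Γ) (γ' : Γ) (by rw [Subgroup.orderOf_coe]; exact hγ) hc'
  obtain ⟨i, hi⟩ := Subgroup.mem_zpowers_iff.mp h
  refine Subgroup.mem_zpowers_iff.mpr ⟨i, Subtype.ext ?_⟩
  rw [Subgroup.coe_zpow]; exact hi

end restrict

/-- **step 4**: `Γ = φ(Hx)` is perfect -/
theorem d1m_finb_perfect {G : Type u} [Group G] [Finite G] (p : ℕ) [hp : Fact p.Prime]
    (hp5 : 5 ≤ p) (x : G) (hx : orderOf x = p)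
    (hperf : ⁅Subgroup.normalClosure ({x} : Set G), Subgroup.normalClosure ({x} : Set G)⁆
      = Subgroup.normalClosure ({x} : Set G))
    {Γ : Type u'} [Group Γ] [Finite Γ] {C : Type w} [MulAction Γ C] (φ : G →* Γ)
    (hφs : Function.Surjective φ)
    (hord : ∀ g : G, orderOf g = p → orderOf (φ g) = p)
    (hE1 : ∀ γ : Γ, orderOf γ = p → ∃! y : C, γ • y = y)
    (hE2 : ∀ γ : Γ, γ ≠ 1 → ¬ p ∣ orderOf γ → (MulAction.fixedBy C γ).ncard = 2)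
    (hE3 : ∀ γ γ' : Γ, orderOf γ = p → orderOf γ' = p → (∀ y : C, γ • y = y → γ' • y = y) →
      γ' ∈ Subgroup.zpowers γ)
    (hE4 : ∀ γ γ' : Γ, orderOf γ = p → Commute γ γ' → γ' ∈ Subgroup.zpowers γ)
    (hnn : ¬ (Subgroup.zpowers (φ x)).Normal) (hsqΓ : ¬ p ^ 2 ∣ Nat.card Γ)
    (hcardΓ : 2 * Nat.card Γ = (p + 1) * p * (p - 1)) : commutator Γ = ⊤ := by
  classical
  set Hx := Subgroup.normalClosure ({x} : Set G) with hHx
  set Γ₁ := Hx.map φ with hΓ₁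
  have hΓ₁n : Γ₁.Normal := Subgroup.Normal.map Subgroup.normalClosure_normal φ hφs
  have hxH : x ∈ Hx := Subgroup.subset_normalClosure (Set.mem_singleton x)
  have hy₁mem : φ x ∈ Γ₁ := Subgroup.mem_map_of_mem φ hxH
  have hox : orderOf (φ x) = p := hord x hx
  set y₁ : ↥Γ₁ := ⟨φ x, hy₁mem⟩ with hy₁
  have hoy₁ : orderOf y₁ = p := by rw [← Subgroup.orderOf_coe]; exact hox
  have hsq₁ : ¬ p ^ 2 ∣ Nat.card ↥Γ₁ :=
    fun h => hsqΓ (h.trans (Subgroup.card_subgroup_dvd_card Γ₁))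
  obtain ⟨Q₁, hy₁Q₁, hQ₁card, hQ₁eq⟩ :=
    d1m_fina_sylow p (MonoidHom.id ↥Γ₁) Function.surjective_id hsq₁ (fun g hg => hg) hoy₁
  -- `Q₁` is not normal in `Γ₁`
  have hQ₁nn : ¬ (Q₁ : Subgroup ↥Γ₁).Normal := by
    intro hN
    apply hnn
    have : Unique (Sylow p ↥Γ₁) := Sylow.unique_of_normal Q₁ hN
    have hconj : ∀ γ : Γ, γ * φ x * γ⁻¹ ∈ Subgroup.zpowers (φ x) := by
      intro γ
      have hw : γ * φ x * γ⁻¹ ∈ Γ₁ := hΓ₁n.conj_mem _ hy₁mem γ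
      set w₁ : ↥Γ₁ := ⟨γ * φ x * γ⁻¹, hw⟩ with hw₁
      have how : orderOf w₁ = p := by
        rw [← Subgroup.orderOf_coe]
        show orderOf (γ * φ x * γ⁻¹) = p
        have h1 := orderOf_injective (MulAut.conj γ).toMonoidHom (MulAut.conj γ).injective (φ x)
        rw [← hox, ← h1]
        rfl
      have hpg : IsPGroup p (Subgroup.zpowers w₁) := by
        apply IsPGroup.of_card (n := 1)
        rw [Nat.card_zpowers, how, pow_one]
      obtain ⟨Q₂, hQ₂⟩ := hpg.exists_le_sylow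
      have hQ₂eq : Q₂ = Q₁ := Subsingleton.elim _ _
      have hw₁Q₁ : w₁ ∈ (Q₁ : Subgroup ↥Γ₁) := by
        rw [← hQ₂eq]; exact hQ₂ (Subgroup.mem_zpowers _)
      have hw₁z : w₁ ∈ Subgroup.zpowers y₁ := by
        have h1 : (Q₁ : Subgroup ↥Γ₁) = Subgroup.zpowers y₁ := hQ₁eq
        rw [← h1]; exact hw₁Q₁
      obtain ⟨i, hi⟩ := Subgroup.mem_zpowers_iff.mp hw₁z
      refine Subgroup.mem_zpowers_iff.mpr ⟨i, ?_⟩
      have := congrArg Subtype.val hi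
      rw [Subgroup.coe_zpow] at this
      exact this
    constructor
    intro z hz γ
    obtain ⟨j, rfl⟩ := Subgroup.mem_zpowers_iff.mp hz
    have : γ * φ x ^ j * γ⁻¹ = (γ * φ x * γ⁻¹) ^ j := by rw [conj_zpow]
    rw [this]
    exact Subgroup.zpow_mem _ (hconj γ) j
  obtain ⟨_, he1, hcard₁, _⟩ := d1m_count_main p hp5 (d1m_finb_E1 p Γ₁ hE1) (d1m_finb_E2 p Γ₁ hE2)
    (d1m_finb_E3 p Γ₁ hE3) (d1m_finb_E4 p Γ₁ hE4) Q₁ hQ₁card hQ₁nn
  -- `Γ₁ = ⊤`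
  have hle : Nat.card Γ ≤ Nat.card ↥Γ₁ := by
    have h2 : (p + 1) * p * (p - 1) ≤ 2 * Nat.card ↥Γ₁ := by
      rw [hcard₁]
      rcases he1 with h | h
      · apply le_of_eq
        calc (p + 1) * p * (p - 1)
            = (p + 1) * p * (2 * (Q₁ : Subgroup ↥Γ₁).relIndex
                (Subgroup.normalizer ((Q₁ : Subgroup ↥Γ₁) : Set ↥Γ₁))) := by rw [h]
          _ = 2 * ((p + 1) * p * (Q₁ : Subgroup ↥Γ₁).relIndex
                (Subgroup.normalizer ((Q₁ : Subgroup ↥Γ₁) : Set ↥Γ₁))) := by ring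
      · rw [h]
        exact Nat.le_mul_of_pos_left _ (by norm_num)
    omega
  have htop : Γ₁ = ⊤ := Subgroup.eq_top_of_le_card Γ₁ hle
  rw [commutator_def, ← htop, hΓ₁, ← Subgroup.map_commutator, hperf]

/-- **the endgame of S4504 after `Conic`**: `G ⧸ Z(G) ≃ PSL(2,p)` -/
theorem d1m_finb_main {G : Type u} [Group G] [Finite G] (p : ℕ) [Fact p.Prime] (hp5 : 5 ≤ p)
    (hsq : ¬ p ^ 2 ∣ Nat.card G) (hnn : ∀ H : Subgroup G, H.Normal → Nat.card H ≠ p)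
    (hcentral : ∀ M : Subgroup G, M.Normal → ¬ p ∣ Nat.card M → M ≤ Subgroup.center G)
    (x : G) (hx : orderOf x = p)
    (hnotfull : ∃ a : ℕ, ¬ p ∣ a ∧ ∀ g : G, g * x * g⁻¹ ≠ x ^ a)
    (hperf : ⁅Subgroup.normalClosure ({x} : Set G), Subgroup.normalClosure ({x} : Set G)⁆
      = Subgroup.normalClosure ({x} : Set G))
    {Γ : Type u'} [Group Γ] [Finite Γ] {C : Type w} [MulAction Γ C] (φ : G →* Γ)
    (hφs : Function.Surjective φ) (hZ : Subgroup.center G ≤ φ.ker)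
    (hord : ∀ g : G, orderOf g = p → orderOf (φ g) = p)
    (hE1 : ∀ γ : Γ, orderOf γ = p → ∃! y : C, γ • y = y)
    (hE2 : ∀ γ : Γ, γ ≠ 1 → ¬ p ∣ orderOf γ → (MulAction.fixedBy C γ).ncard = 2)
    (hE3 : ∀ γ γ' : Γ, orderOf γ = p → orderOf γ' = p → (∀ y : C, γ • y = y → γ' • y = y) →
      γ' ∈ Subgroup.zpowers γ)
    (hE4 : ∀ γ γ' : Γ, orderOf γ = p → Commute γ γ' → γ' ∈ Subgroup.zpowers γ) :
    Nonempty (G ⧸ Subgroup.center G ≃* Matrix.ProjectiveSpecialLinearGroup (Fin 2) (ZMod p)) := by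
  obtain ⟨hker, Q, hxQ, hQcard, hQnn, hsyl, _, hcardΓ, hcent⟩ :=
    d1m_fina_main p hp5 hsq hnn hcentral x hx hnotfull φ hφs hZ hord hE1 hE2 hE3 hE4
  have hox : orderOf (φ x) = p := hord x hx
  have hQeq : (Q : Subgroup Γ) = Subgroup.zpowers (φ x) := by
    symm
    apply Subgroup.eq_of_le_of_card_ge (Subgroup.zpowers_le.mpr hxQ)
    rw [hQcard, Nat.card_zpowers, hox]
  have hsqΓ : ¬ p ^ 2 ∣ Nat.card Γ :=
    fun h => hsq (h.trans (Subgroup.card_dvd_of_surjective φ hφs))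
  have hperfΓ : commutator Γ = ⊤ :=
    d1m_finb_perfect p hp5 x hx hperf φ hφs hord hE1 hE2 hE3 hE4 (by rw [← hQeq]; exact hQnn) hsqΓ
      hcardΓ
  obtain ⟨e⟩ := d1m_enda_main p hp5 hperfΓ Q hQcard hsyl hcent hcardΓ
  exact ⟨((QuotientGroup.quotientMulEquivOfEq hker.symm).trans
    (QuotientGroup.quotientKerEquivOfSurjective φ hφs)).trans e⟩

end Cfsg.Agent.D1M
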