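import Mathlib
import Cfsg.Prelude.Def_Characters

/-!
# S4504 (M0): reduction modulo `p` of a complex representation (helper4)

`B` a valuation subring of `ℂ` in which `p` is not a unit; `Λ` the `B`-span of the `G`-orbit of the
standard basis of `Fin n → ℂ`: finitely generated and torsion-free, hence free (of rank `n`); the
matrices of `ρ g` in a `B`-basis of `Λ` have entries in `B`; reduce them modulo the maximal ideal
and extend scalars to the algebraic closure of the residue field.

* `d1m_red_exists` : the reduction, with the property that a `p'`-element acting trivially on the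
  reduction acts trivially on the original representation;
* `d1m_red_nontrivial` : a Sylow `p`-subgroup which is not normal acts non-trivially on the
  reduction of a faithful representation.
-/

set_option autoImplicit false
set_option linter.style.haveILetI false

namespace Cfsg.Agent.D1M

universe u

open Module

/-- a valuation subring of `ℂ` in which `p` is not a unit -/
theorem d1m_red_exists_valuationSubring (p : ℕ) (hp : p.Prime) :
    ∃ B : ValuationSubring ℂ, (p : ℂ) ∈ B.nonunits := by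
  let A : Subring ℂ := (Int.castRingHom ℂ).range
  have hpA : (p : ℂ) ∈ A := ⟨(p : ℤ), by simp⟩
  let I : Ideal A := Ideal.span {⟨(p : ℂ), hpA⟩}
  have hI : I ≠ ⊤ := by
    intro h
    rw [Ideal.eq_top_iff_one, Ideal.mem_span_singleton'] at h
    obtain ⟨⟨a, m, rfl⟩, ha⟩ := h
    have h1 : ((m : ℤ) : ℂ) * (p : ℂ) = 1 := congrArg Subtype.val ha
    have h2 : (m * (p : ℤ) : ℤ) = 1 := by exact_mod_cast h1
    have h3 : IsUnit ((p : ℕ) : ℤ) := IsUnit.of_mul_eq_one m (by rw [mul_comm]; exact h2)
    rw [Int.isUnit_iff_natAbs_eq, Int.natAbs_natCast] at h3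
    exact hp.one_lt.ne' h3
  obtain ⟨B, -, hIB⟩ := Ideal.image_subset_nonunits_valuationSubring I hI
  exact ⟨B, hIB ⟨⟨(p : ℂ), hpA⟩, Ideal.subset_span rfl, rfl⟩⟩

/-- **the lattice**: the `B`-span `Λ` of the `G`-orbit of the standard basis is free of rank `n`;
the matrices of `ρ g` in a `B`-basis of `Λ` form a homomorphism `R : G → M_n(B)`, and `R g = 1`
forces `ρ g = 1` -/
theorem d1m_red_lattice {G : Type u} [Group G] [Finite G] (B : ValuationSubring ℂ) {n : ℕ}
    (ρ : Representation ℂ G (Fin n → ℂ)) :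
    ∃ R : G →* Matrix (Fin n) (Fin n) B, ∀ g, R g = 1 → ρ g = 1 := by
  classical
  -- the lattice
  let S : Set (Fin n → ℂ) := Set.range (fun x : G × Fin n => ρ x.1 (Pi.single x.2 1))
  have hSfin : S.Finite := Set.finite_range _
  let Λ : Submodule B (Fin n → ℂ) := Submodule.span B S
  have hstd : ∀ j : Fin n, (Pi.single j 1 : Fin n → ℂ) ∈ Λ := fun j =>
    Submodule.subset_span ⟨(1, j), by simp⟩
  have hsmul : ∀ (b : B) (x : Fin n → ℂ), b • x = (b : ℂ) • x := fun b x => rfl
  have hstable : ∀ g : G, ∀ v ∈ Λ, ρ g v ∈ Λ := by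
    intro g v hv
    induction hv using Submodule.span_induction with
    | mem x hx =>
      obtain ⟨⟨h, j⟩, rfl⟩ := hx
      exact Submodule.subset_span ⟨(g * h, j), by simp [map_mul]⟩
    | zero => simp
    | add x y _ _ hx hy => rw [map_add]; exact Λ.add_mem hx hy
    | smul b x _ hx =>
      rw [hsmul, map_smul, ← hsmul]
      exact Λ.smul_mem b hx
  haveI : Module.Finite B Λ := Module.Finite.span_of_finite B hSfin
  have htors : Submodule.torsion B Λ = ⊥ := by
    rw [eq_bot_iff]
    rintro ⟨v, hv⟩ ⟨⟨b, hb⟩, hbv⟩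
    have hb0 : (b : ℂ) ≠ 0 := by
      intro h
      exact nonZeroDivisors.ne_zero hb (Subtype.ext h)
    have h1 : (b : ℂ) • v = 0 := by
      have := congrArg Subtype.val hbv
      simpa using this
    have h2 : v = 0 := by
      rcases smul_eq_zero.mp h1 with h | h
      · exact absurd h hb0
      · exact h
    simp [h2]
  haveI : Module.Flat B Λ := Module.Flat.flat_iff_torsion_eq_bot_of_isBezout.mpr htors
  haveI : Module.Free B Λ := Module.free_of_flat_of_isLocalRing
  let ι := Module.Free.ChooseBasisIndex B Λ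
  let b₀ : Basis ι B Λ := Module.Free.chooseBasis B Λ
  -- the basis vectors are linearly independent over `ℂ` and span
  have hliB : LinearIndependent B (fun i : ι => ((b₀ i : Λ) : Fin n → ℂ)) :=
    b₀.linearIndependent.map' Λ.subtype (Submodule.ker_subtype Λ)
  have hliC : LinearIndependent ℂ (fun i : ι => ((b₀ i : Λ) : Fin n → ℂ)) :=
    (LinearIndependent.iff_fractionRing B ℂ).mp hliB
  have hspan : Submodule.span ℂ (Set.range (fun i : ι => ((b₀ i : Λ) : Fin n → ℂ))) = ⊤ := by
    rw [eq_top_iff]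
    intro v _
    -- every element of `Λ` lies in the `ℂ`-span
    have hΛ : ∀ w : Λ, (w : Fin n → ℂ) ∈
        Submodule.span ℂ (Set.range (fun i : ι => ((b₀ i : Λ) : Fin n → ℂ))) := by
      intro w
      rw [← b₀.sum_repr w]
      rw [Submodule.coe_sum]
      refine Submodule.sum_mem _ fun i _ => ?_
      rw [Submodule.coe_smul, hsmul]
      exact Submodule.smul_mem _ _ (Submodule.subset_span ⟨i, rfl⟩)
    rw [← (Pi.basisFun ℂ (Fin n)).sum_repr v]
    refine Submodule.sum_mem _ fun j _ => ?_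
    refine Submodule.smul_mem _ _ ?_
    have := hΛ ⟨_, hstd j⟩
    simpa using this
  have hcard : Fintype.card ι = n := by
    have hb : Basis ι ℂ (Fin n → ℂ) := Basis.mk hliC hspan.ge
    have := Module.finrank_eq_card_basis hb
    rw [Module.finrank_fin_fun] at this
    exact this.symm
  let b : Basis (Fin n) B Λ := b₀.reindex (Fintype.equivFinOfCardEq hcard)
  -- the action on the lattice
  let ρΛ : G →* (Λ →ₗ[B] Λ) :=
    { toFun := fun g => ((ρ g).restrictScalars B).restrict (hstable g)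
      map_one' := by
        ext v
        simp
      map_mul' := by
        intro g h
        ext v
        simp [map_mul]
        rfl }
  let R : G →* Matrix (Fin n) (Fin n) B :=
    ((LinearMap.toMatrixAlgEquiv b : (Λ →ₗ[B] Λ) ≃ₐ[B] Matrix (Fin n) (Fin n) B) :
      (Λ →ₗ[B] Λ) →* Matrix (Fin n) (Fin n) B).comp ρΛ
  refine ⟨R, fun g hg => ?_⟩
  have h1 : ρΛ g = 1 := by
    have : (LinearMap.toMatrixAlgEquiv b) (ρΛ g) = (LinearMap.toMatrixAlgEquiv b) 1 := by
      rw [map_one]
      exact hg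
    exact (LinearMap.toMatrixAlgEquiv b).injective this
  have h2 : ∀ v ∈ Λ, ρ g v = v := by
    intro v hv
    have := congrArg (fun f : Λ →ₗ[B] Λ => ((f ⟨v, hv⟩ : Λ) : Fin n → ℂ)) h1
    exact this
  apply LinearMap.ext
  intro v
  rw [← (Pi.basisFun ℂ (Fin n)).sum_repr v]
  simp only [map_sum, map_smul]
  refine Finset.sum_congr rfl fun j _ => ?_
  have := h2 _ (hstd j)
  simp only [Pi.basisFun_apply, Module.End.one_apply]
  rw [this]

/-- a matrix of finite order `r` over a commutative ring `B`, trivial modulo a ring homomorphism `φ`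
to a field in which `r ≠ 0` and which detects units, is trivial -/
theorem d1m_red_matrix_eq_one {B : Type*} [CommRing B] {k : Type*} [Field k] (φ : B →+* k)
    (hφ : ∀ x : B, φ x ≠ 0 → IsUnit x) {n : ℕ} (A : Matrix (Fin n) (Fin n) B) (r : ℕ)
    (hr : (r : k) ≠ 0) (hA : A ^ r = 1) (hA1 : φ.mapMatrix A = 1) : A = 1 := by
  set U : Matrix (Fin n) (Fin n) B := ∑ i ∈ Finset.range r, A ^ i with hU
  have h1 : U * (A - 1) = 0 := by
    rw [hU, geom_sum_mul, hA, sub_self]
  have h2 : φ.mapMatrix U = (r : k) • (1 : Matrix (Fin n) (Fin n) k) := by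
    rw [hU, map_sum]
    simp only [map_pow, hA1, one_pow, Finset.sum_const, Finset.card_range]
    rw [Nat.cast_smul_eq_nsmul]
  have h3 : φ U.det = (r : k) ^ n := by
    rw [RingHom.map_det, h2, Matrix.det_smul, Matrix.det_one, mul_one, Fintype.card_fin]
  have h4 : IsUnit U.det := hφ _ (by rw [h3]; exact pow_ne_zero _ hr)
  have h5 : IsUnit U := (Matrix.isUnit_iff_isUnit_det U).mpr h4
  have h6 : A - 1 = 0 := (h5.mul_right_eq_zero).mp h1
  exact sub_eq_zero.mp h6

/-- **(M0)** reduction modulo `p` -/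
theorem d1m_red_exists {G : Type u} [Group G] [Finite G] (p : ℕ) [hp : Fact p.Prime] {n : ℕ}
    (ρ : Representation ℂ G (Fin n → ℂ)) :
    ∃ (k : Type) (_ : Field k) (_ : IsAlgClosed k) (_ : CharP k p)
      (ρ' : Representation k G (Fin n → k)), ∀ h : G, ¬ p ∣ orderOf h → ρ' h = 1 → ρ h = 1 := by
  obtain ⟨B, hpB⟩ := d1m_red_exists_valuationSubring p hp.out
  obtain ⟨R, hR⟩ := d1m_red_lattice B ρ
  let k₀ := IsLocalRing.ResidueField B
  let k := AlgebraicClosure k₀
  let φ : B →+* k := (algebraMap k₀ k).comp (IsLocalRing.residue B)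
  have hφ : ∀ x : B, φ x ≠ 0 → IsUnit x := by
    intro x hx
    by_contra hxu
    apply hx
    have h1 : IsLocalRing.residue B x = 0 :=
      (IsLocalRing.residue_eq_zero_iff x).mpr ((IsLocalRing.mem_maximalIdeal x).mpr hxu)
    show (algebraMap k₀ k) (IsLocalRing.residue B x) = 0
    rw [h1, map_zero]
  have hpk : ((p : ℕ) : k) = 0 := by
    obtain ⟨hmem, hmax⟩ := B.mem_nonunits_iff_exists_mem_maximalIdeal.mp hpB
    have h1 : (⟨(p : ℂ), hmem⟩ : B) = ((p : ℕ) : B) := by
      ext
      simp
    rw [h1] at hmax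
    have h2 : IsLocalRing.residue B ((p : ℕ) : B) = 0 :=
      (IsLocalRing.residue_eq_zero_iff _).mpr hmax
    have h3 : φ ((p : ℕ) : B) = 0 := by
      show (algebraMap k₀ k) (IsLocalRing.residue B ((p : ℕ) : B)) = 0
      rw [h2, map_zero]
    rw [map_natCast] at h3
    exact h3
  haveI : CharP k p := by
    obtain ⟨q, hq⟩ := CharP.exists k
    have hqp : q ∣ p := (CharP.cast_eq_zero_iff k q p).mp hpk
    have hq1 : q ≠ 1 := CharP.char_ne_one k q
    rcases (Nat.dvd_prime hp.out).mp hqp with h | h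
    · exact absurd h hq1
    · rw [← h]; exact hq
  let ρ' : Representation k G (Fin n → k) :=
    ((Matrix.toLinAlgEquiv' : Matrix (Fin n) (Fin n) k ≃ₐ[k] _) :
      Matrix (Fin n) (Fin n) k →* ((Fin n → k) →ₗ[k] (Fin n → k))).comp
      (((φ.mapMatrix : Matrix (Fin n) (Fin n) B →+* Matrix (Fin n) (Fin n) k) :
        Matrix (Fin n) (Fin n) B →* Matrix (Fin n) (Fin n) k).comp R)
  refine ⟨k, inferInstance, inferInstance, inferInstance, ρ', fun h hh hρ' => hR h ?_⟩
  apply d1m_red_matrix_eq_one φ hφ (R h) (orderOf h)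
  · intro h0
    exact hh ((CharP.cast_eq_zero_iff k p _).mp h0)
  · rw [← map_pow, pow_orderOf_eq_one, map_one]
  · have h1 : Matrix.toLinAlgEquiv' (φ.mapMatrix (R h)) = 1 := hρ'
    exact Matrix.toLinAlgEquiv'.injective (by rw [h1, map_one])

/-- a normal subgroup all of whose `p'`-elements are trivial and which contains a Sylow `p`-subgroup
is that Sylow subgroup -/
theorem d1m_red_eq_sylow {G : Type u} [Group G] [Finite G] (p : ℕ) [hp : Fact p.Prime]
    (K : Subgroup G) (P : Sylow p G) (hPK : (P : Subgroup G) ≤ K)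
    (hK : ∀ g ∈ K, ¬ p ∣ orderOf g → g = 1) : K = (P : Subgroup G) := by
  have hKp : IsPGroup p K := by
    rintro ⟨g, hg⟩
    have ho : orderOf g ≠ 0 := (orderOf_pos g).ne'
    obtain ⟨a, m, hm, hom⟩ := Nat.exists_eq_pow_mul_and_not_dvd ho p hp.out.ne_one
    refine ⟨a, ?_⟩
    have h1 : orderOf (g ^ p ^ a) = m := by
      rw [orderOf_pow, hom, Nat.gcd_eq_right (Dvd.intro _ rfl),
        Nat.mul_div_cancel_left _ (pow_pos hp.out.pos a)]
    have h2 : g ^ p ^ a = 1 := hK _ (K.pow_mem hg _) (by rw [h1]; exact hm)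
    exact Subtype.ext h2
  exact (P.3 hKp hPK)

/-- **(M0)**: a Sylow `p`-subgroup which is not normal acts non-trivially on the reduction modulo `p`
of a faithful representation -/
theorem d1m_red_nontrivial {G : Type u} [Group G] [Finite G] (p : ℕ) [hp : Fact p.Prime] {n : ℕ}
    (ρ : Representation ℂ G (Fin n → ℂ)) (hfaith : ∀ g : G, ρ g = 1 → g = 1)
    (P : Sylow p G) (hnn : ¬ (P : Subgroup G).Normal) :
    ∃ (k : Type) (_ : Field k) (_ : IsAlgClosed k) (_ : CharP k p)
      (ρ' : Representation k G (Fin n → k)), ∃ x ∈ (P : Subgroup G), ρ' x ≠ 1 := by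
  obtain ⟨k, i1, i2, i3, ρ', h⟩ := d1m_red_exists p ρ
  refine ⟨k, i1, i2, i3, ρ', ?_⟩
  by_contra hcon
  push Not at hcon
  have hPK : (P : Subgroup G) ≤ MonoidHom.ker ρ' := fun x hx => MonoidHom.mem_ker.mpr (hcon x hx)
  have hK : ∀ g ∈ MonoidHom.ker ρ', ¬ p ∣ orderOf g → g = 1 := fun g hg hgp =>
    hfaith g (h g hgp (MonoidHom.mem_ker.mp hg))
  have h1 := d1m_red_eq_sylow p (MonoidHom.ker ρ') P hPK hK
  apply hnn
  rw [← h1]
  exact MonoidHom.normal_ker ρ'

/-- **(M0)** for a faithful character: a Sylow `p`-subgroup which is not normal acts non-trivially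
on some representation of degree `χ 1` over an algebraically closed field of characteristic `p` -/
theorem d1m_red_character {G : Type u} [Group G] [Finite G] (p : ℕ) [hp : Fact p.Prime]
    (χ : G → ℂ) (hχ : Cfsg.IsCharacter G χ) (hfaith : ∀ g : G, χ g = χ 1 → g = 1)
    (P : Sylow p G) (hnn : ¬ (P : Subgroup G).Normal) :
    ∃ (n : ℕ) (k : Type) (_ : Field k) (_ : IsAlgClosed k) (_ : CharP k p)
      (ρ' : Representation k G (Fin n → k)), χ 1 = (n : ℂ) ∧ ∃ x ∈ (P : Subgroup G), ρ' x ≠ 1 := by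
  obtain ⟨n, ρ, rfl⟩ := hχ
  have hfaith' : ∀ g : G, ρ g = 1 → g = 1 := by
    intro g hg
    apply hfaith
    show LinearMap.trace ℂ _ (ρ g) = LinearMap.trace ℂ _ (ρ 1)
    rw [hg, _root_.map_one ρ]
  obtain ⟨k, i1, i2, i3, ρ', h⟩ := d1m_red_nontrivial p ρ hfaith' P hnn
  refine ⟨n, k, i1, i2, i3, ρ', ?_, h⟩
  rw [Representation.char_one, Module.finrank_fin_fun]

end Cfsg.Agent.D1M
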