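import Cfsg.Agent.D1M.M1
import Cfsg.Agent.D1M.Red
import Cfsg.Agent.D1M.BrbBdry
import Cfsg.Agent.D1M.EndA
import Cfsg.Agent.D1M.Count
import Cfsg.Agent.D1M.ConicG
import Cfsg.Agent.D1M.FinB

/-!
# D1M / Fin : assembly of S4504

`d1m_fin_main` is the statement of S4504: a finite group `G` with `p ∥ |G|`, no normal subgroup of order `p`, and a faithful
character of degree `(p - 1) / 2` satisfies `G ⧸ Z(G) ≃ PSL(2, p)`.  Chain (`notes/S4504_helper9.md`): `p = 2` is impossible by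
parity, `p = 3` by `d1m_bdry_automizer` + `d1m_bdry_not_full`; then `D1M/Red` (reduction mod `p`), `D1M/Min` (minimal module),
`D1M/M1` (the 3-dimensional orthogonal module), `D1M/ConicG` (action on the conic), `D1M/FinB` (Dickson count + recognition).
-/

set_option autoImplicit false
set_option linter.unusedVariables false

namespace Cfsg.Agent.D1M

open Cfsg.Agent.BP Cfsg.Agent.D1 Representation

universe u v w u'

/-! ### small glue -/

section glue

variable {k : Type v} [Field k] {G : Type u} [Group G] {V : Type w} [AddCommGroup V] [Module k V]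
  (τ : Representation k G V)

/-- `(τ (b ^ j) - 1) ^ 2 = 0` if `(τ b - 1) ^ 2 = 0`. -/
theorem d1m_fin_sq_pow {b : G} (h : (τ b - 1) ^ 2 = 0) (j : ℕ) : (τ (b ^ j) - 1) ^ 2 = 0 := by
  have h1 : τ (b ^ j) - 1 = (τ b - 1) * ∑ i ∈ Finset.range j, τ b ^ i := by
    rw [map_pow, ← mul_geom_sum]
  have hc : Commute (τ b - 1) (∑ i ∈ Finset.range j, τ b ^ i) := by
    apply Commute.sum_right
    intro i _
    exact ((Commute.refl (τ b)).sub_left (Commute.one_left _)).pow_right i
  rw [h1, hc.mul_pow, h, zero_mul]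

/-- `(τ (g b g⁻¹) - 1) ^ 2 = 0` if `(τ b - 1) ^ 2 = 0`. -/
theorem d1m_fin_sq_conj {b : G} (h : (τ b - 1) ^ 2 = 0) (g : G) :
    (τ (g * b * g⁻¹) - 1) ^ 2 = 0 := by
  have hgg : τ g * τ g⁻¹ = 1 := by rw [← map_mul, mul_inv_cancel, map_one]
  have hgg' : τ g⁻¹ * τ g = 1 := by rw [← map_mul, inv_mul_cancel, map_one]
  have h1 : τ (g * b * g⁻¹) - 1 = τ g * (τ b - 1) * τ g⁻¹ := by
    rw [map_mul, map_mul, mul_sub, sub_mul, mul_one, hgg]
  rw [h1, pow_two]
  calc τ g * (τ b - 1) * τ g⁻¹ * (τ g * (τ b - 1) * τ g⁻¹)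
      = τ g * ((τ b - 1) * (τ g⁻¹ * τ g) * (τ b - 1)) * τ g⁻¹ := by simp only [mul_assoc]
    _ = τ g * ((τ b - 1) ^ 2) * τ g⁻¹ := by rw [hgg', mul_one, pow_two]
    _ = 0 := by rw [h, mul_zero, zero_mul]

end glue

/-- one element of order `p` of Jordan type `J₃` forces all of them to be (`p ^ 2 ∤ |G|`). -/
theorem d1m_fin_J3_all {k : Type v} [Field k] {G : Type u} [Group G] [Finite G] (p : ℕ)
    [hp : Fact p.Prime] {V : Type w} [AddCommGroup V] [Module k V] (τ : Representation k G V)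
    (hsq : ¬ p ^ 2 ∣ Nat.card G) (x : G) (hx : orderOf x = p) (hJ : (τ x - 1) ^ 2 ≠ 0) :
    ∀ y : G, orderOf y = p → (τ y - 1) ^ 2 ≠ 0 := by
  intro y hy h
  obtain ⟨Px, hPx⟩ := d1m_sylow_of_order p hx hsq
  obtain ⟨Py, hPy⟩ := d1m_sylow_of_order p hy hsq
  obtain ⟨g, hg⟩ := MulAction.exists_smul_eq G Py Px
  have hxmem : x ∈ ((g • Py : Sylow p G) : Subgroup G) := by
    rw [hg, hPx]; exact Subgroup.mem_zpowers x
  rw [Sylow.coe_subgroup_smul, Subgroup.mem_smul_pointwise_iff_exists] at hxmem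
  obtain ⟨b, hb, hbx⟩ := hxmem
  rw [hPy] at hb
  obtain ⟨j, rfl⟩ := d1m_m1a_pow_of_mem hb
  rw [MulAut.smul_def, MulAut.conj_apply] at hbx
  apply hJ
  rw [← hbx]
  exact d1m_fin_sq_conj τ (d1m_fin_sq_pow τ h j) g


/-- an element of order `p` of type `J₃` is not killed by `φ` when `ker φ` = the elements acting by scalars. -/
theorem d1m_fin_hord {k : Type v} [Field k] (p : ℕ) [hp : Fact p.Prime] [CharP k p] {G : Type u}
    [Group G] {V : Type w} [AddCommGroup V] [Module k V] (τ : Representation k G V)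
    {Γ : Type u'} [Group Γ] (φ : G →* Γ) (hker : ∀ g, φ g = 1 ↔ ∃ c : k, τ g = c • 1)
    (g : G) (hg : orderOf g = p) (hJ : (τ g - 1) ^ 2 ≠ 0) : orderOf (φ g) = p := by
  have hgp : g ^ p = 1 := by rw [← hg]; exact pow_orderOf_eq_one g
  have hdvd : orderOf (φ g) ∣ p := by
    apply orderOf_dvd_of_pow_eq_one
    rw [← map_pow, hgp, map_one]
  rcases (Nat.dvd_prime hp.out).mp hdvd with h1 | h1
  · exfalso
    rw [orderOf_eq_one_iff, hker] at h1
    obtain ⟨c, hc⟩ := h1
    have h1ne : (1 : Module.End k V) ≠ 0 := by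
      intro h
      apply hJ
      have : ∀ a : Module.End k V, a = 0 := fun a => by rw [← mul_one a, h, mul_zero]
      exact this _
    have hcp : c ^ p = 1 := by
      have h2 : τ g ^ p = 1 := by rw [← map_pow, hgp, map_one]
      rw [hc, smul_pow, one_pow] at h2
      have h3 : (c ^ p - 1) • (1 : Module.End k V) = 0 := by rw [sub_smul, h2, one_smul, sub_self]
      rcases smul_eq_zero.mp h3 with h4 | h4
      · exact sub_eq_zero.mp h4
      · exact absurd h4 h1ne
    have hc1 : c = 1 := by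
      have h2 : (c - 1) ^ p = 0 := by rw [sub_pow_char, one_pow, hcp, sub_self]
      exact sub_eq_zero.mp (pow_eq_zero_iff hp.out.ne_zero |>.mp h2)
    apply hJ
    rw [hc, hc1, one_smul, sub_self, pow_two, mul_zero]
  · exact h1

/-- **S4504.** -/
theorem d1m_fin_main {G : Type u} [Group G] [Finite G] (p : ℕ) (hp : p.Prime)
    (hdiv : p ∣ Nat.card G) (hsq : ¬ p ^ 2 ∣ Nat.card G)
    (hnn : ∀ H : Subgroup G, H.Normal → Nat.card H ≠ p) (χ : G → ℂ)
    (hχ : Cfsg.IsCharacter G χ) (hfaith : ∀ g : G, χ g = χ 1 → g = 1)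
    (hdeg : 2 * Cfsg.charDegree χ + 1 = p) :
    Nonempty ((G ⧸ Subgroup.center G) ≃*
      Matrix.ProjectiveSpecialLinearGroup (Fin 2) (ZMod p)) := by
  have : Fact p.Prime := ⟨hp⟩
  obtain ⟨x, hx⟩ := exists_prime_orderOf_dvd_card' p hdiv
  have hperf := d1m_bdry_perfect p hp hdiv hsq hnn χ hχ hfaith hdeg x hx
  have haut := d1m_bdry_automizer p hp hdiv hsq hnn χ hχ hfaith hdeg x hx
  have hnotfull := d1m_bdry_not_full p hp hdiv hsq hnn χ hχ hfaith hdeg x hx
  have hcentral := d1m_bdry_pprime_central p hp hdiv hsq hnn χ hχ hfaith hdeg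
  -- `p ≥ 5`
  have hp2 : p ≠ 2 := by omega
  have hp3 : p ≠ 3 := by
    intro h3
    subst h3
    obtain ⟨c, -, a, hca, hane⟩ := haut
    obtain ⟨a', ha', hall⟩ := hnotfull
    have e1 : ∀ m : ℕ, x ^ m = x ^ (m % 3) := fun m => by
      rw [← hx]; exact (pow_mod_orderOf x m).symm
    have hx1 : x ≠ 1 := by
      intro h
      rw [h, orderOf_one] at hx
      omega
    have ha2 : a % 3 = 2 := by
      have hlt : a % 3 < 3 := Nat.mod_lt _ (by norm_num)
      rw [e1 a] at hca hane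
      interval_cases h : a % 3
      · exfalso
        rw [pow_zero] at hca
        apply hx1
        have : x = c⁻¹ * (c * x * c⁻¹) * c := by group
        rw [this, hca]; group
      · exfalso
        exact hane (pow_one x)
      · rfl
    have ha'2 : a' % 3 = 2 := by
      have hlt : a' % 3 < 3 := Nat.mod_lt _ (by norm_num)
      have h0 : a' % 3 ≠ 0 := fun h => ha' (Nat.dvd_of_mod_eq_zero h)
      have h1 : a' % 3 ≠ 1 := by
        intro h
        apply hall 1
        rw [e1 a', h, pow_one, one_mul, inv_one, mul_one]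
      omega
    apply hall c
    rw [hca, e1 a, e1 a', ha2, ha'2]
  have hp5 : 5 ≤ p := by
    have h2 := hp.two_le
    by_contra hlt
    have h4 : p = 4 := by omega
    rw [h4] at hp
    exact absurd hp (by norm_num)
  obtain ⟨P, hP⟩ := d1m_sylow_of_order p hx hsq
  have hcardP : Nat.card (P : Subgroup G) = p := by rw [hP, Nat.card_zpowers, hx]
  have hPnn : ¬ (P : Subgroup G).Normal := fun h => hnn _ h hcardP
  obtain ⟨n, k, _, _, _, ρ', hn, y, hyP, hy1⟩ := d1m_red_character p χ hχ hfaith P hPnn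
  have hx1 : ρ' x ≠ 1 := by
    intro h
    rw [hP] at hyP
    obtain ⟨i, rfl⟩ := d1m_m1a_pow_of_mem hyP
    apply hy1
    rw [map_pow, h, one_pow]
  have hdn : Cfsg.charDegree χ = n := by
    unfold Cfsg.charDegree
    rw [hn]
    simp
  obtain ⟨d, σ, hdn', hσx, hsimple⟩ := d1m_min_main p x hx hperf ρ' hx1
  have hd : 2 * d + 1 ≤ p := by omega
  obtain ⟨V, _, _, τ, B, hV, hBs, hBn, hBG, hJ, hcen⟩ :=
    d1m_m1_main p hp5 hsq x hx hperf haut hd σ hσx hsimple
  have hJall := d1m_fin_J3_all p τ hsq x hx hJ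
  obtain ⟨Γ, _, _, C, _, φ, hφ, hker, hE1, hE2, hE3, hE4, _⟩ :=
    d1m_cong_main hp2 hV B hBs hBn τ hBG hsq hJall
  have hZ : Subgroup.center G ≤ φ.ker := fun z hz => by
    rw [MonoidHom.mem_ker, hker]
    exact ⟨1, by rw [hcen z hz, one_smul]⟩
  have hord : ∀ g, orderOf g = p → orderOf (φ g) = p :=
    fun g hg => d1m_fin_hord p τ φ hker g hg (hJall g hg)
  exact d1m_finb_main p hp5 hsq hnn hcentral x hx hnotfull hperf φ hφ hZ hord hE1 hE2 hE3 hE4

end Cfsg.Agent.D1M
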