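import Cfsg.Agent.D1M.Count

/-!
# D1M / FinA : steps 2 + 3 of the endgame of S4504 (pure group theory on top of `D1M/Count`)

`φ : G → Γ` surjective with `Z(G) ≤ ker φ`, no element of order `p` in `ker φ`, `Γ` acting on `C` with
(E1)–(E4).  Then `ker φ = Z(G)`, the Sylow `p`-subgroup `Q ∋ φ x` of `Γ` has order `p`, is not normal, and
the Dickson count gives `|Syl_p Γ| = p + 1`, `C_Γ(Q) = Q`, `|N_Γ(Q) : Q| = (p-1)/2` (the value `p - 1` would
make every `x^a` conjugate to `x` in `G`), `|Γ| = (p+1) p (p-1)/2`.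
-/

set_option autoImplicit false
set_option linter.unusedSectionVars false

namespace Cfsg.Agent.D1M

universe u u' w

section lift

variable {G : Type u} [Group G] [Finite G] (p : ℕ) [hp : Fact p.Prime]
  {Γ : Type u'} [Group Γ] (φ : G →* Γ)

/-- no element of order `p` in the kernel ⇒ `p ∤ |ker φ|` -/
theorem d1m_fina_ker_pprime (hord : ∀ g : G, orderOf g = p → orderOf (φ g) = p) :
    ¬ p ∣ Nat.card φ.ker := by
  intro h
  obtain ⟨g, hg⟩ := exists_prime_orderOf_dvd_card' p h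
  have h1 : orderOf (g : G) = p := by rw [Subgroup.orderOf_coe]; exact hg
  have h2 := hord _ h1
  rw [MonoidHom.mem_ker.mp g.2, orderOf_one] at h2
  exact hp.out.one_lt.ne h2

/-- `ker φ = Z(G)` -/
theorem d1m_fina_ker
    (hcentral : ∀ M : Subgroup G, M.Normal → ¬ p ∣ Nat.card M → M ≤ Subgroup.center G)
    (hZ : Subgroup.center G ≤ φ.ker)
    (hord : ∀ g : G, orderOf g = p → orderOf (φ g) = p) : φ.ker = Subgroup.center G :=
  le_antisymm (hcentral _ inferInstance (d1m_fina_ker_pprime p φ hord)) hZ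

/-- **lifting conjugacy**: if `φ (g x g⁻¹) = φ (x ^ a)` then `g x g⁻¹ = x ^ a` -/
theorem d1m_fina_lift (hker : φ.ker ≤ Subgroup.center G)
    (hord : ∀ g : G, orderOf g = p → orderOf (φ g) = p) {x : G} (hx : orderOf x = p) (g : G)
    (a : ℕ) (h : φ (g * x * g⁻¹) = φ (x ^ a)) : g * x * g⁻¹ = x ^ a := by
  set y := g * x * g⁻¹ with hy
  set z := (x ^ a)⁻¹ * y with hz
  have hzker : z ∈ φ.ker := by
    rw [MonoidHom.mem_ker, hz, map_mul, map_inv, h, inv_mul_cancel]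
  have hzc : ∀ t : G, t * z = z * t := fun t => Subgroup.mem_center_iff.mp (hker hzker) t
  have hyz : y = x ^ a * z := by rw [hz, mul_inv_cancel_left]
  have hxp : x ^ p = 1 := by rw [← hx]; exact pow_orderOf_eq_one x
  have hyp : y ^ p = 1 := by
    rw [hy, conj_pow, hxp, mul_one, mul_inv_cancel]
  have hzp : z ^ p = 1 := by
    have hcomm : Commute (x ^ a) z := hzc (x ^ a)
    rw [hyz, hcomm.mul_pow, ← pow_mul, mul_comm a p, pow_mul, hxp, one_pow,
      one_mul] at hyp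
    exact hyp
  have hz1 : z = 1 := by
    have h1 : orderOf z ∣ p := orderOf_dvd_of_pow_eq_one hzp
    rcases (Nat.dvd_prime hp.out).mp h1 with h2 | h2
    · exact orderOf_eq_one_iff.mp h2
    · exfalso
      apply d1m_fina_ker_pprime p φ hord
      have h3 : orderOf (⟨z, hzker⟩ : φ.ker) ∣ Nat.card φ.ker := orderOf_dvd_natCard _
      rwa [← Subgroup.orderOf_coe, h2] at h3
  rw [hyz, hz1, mul_one]

/-- a Sylow `p`-subgroup of `Γ` of order `p` through `φ x` -/
theorem d1m_fina_sylow [Finite Γ] (hφs : Function.Surjective φ) (hsq : ¬ p ^ 2 ∣ Nat.card G)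
    (hord : ∀ g : G, orderOf g = p → orderOf (φ g) = p) {x : G} (hx : orderOf x = p) :
    ∃ Q : Sylow p Γ, φ x ∈ (Q : Subgroup Γ) ∧ Nat.card Q = p ∧
      (Q : Subgroup Γ) = Subgroup.zpowers (φ x) := by
  have hox : orderOf (φ x) = p := hord x hx
  have hpg : IsPGroup p (Subgroup.zpowers (φ x)) := by
    apply IsPGroup.of_card (n := 1)
    rw [Nat.card_zpowers, hox, pow_one]
  obtain ⟨Q, hQ⟩ := hpg.exists_le_sylow
  have hmem : φ x ∈ (Q : Subgroup Γ) := hQ (Subgroup.mem_zpowers _)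
  obtain ⟨n, hn⟩ := IsPGroup.exists_card_eq Q.isPGroup'
  have hsqΓ : ¬ p ^ 2 ∣ Nat.card Γ :=
    fun h => hsq (h.trans (Subgroup.card_dvd_of_surjective φ hφs))
  have hn1 : n = 1 := by
    have h1 : Nat.card (Q : Subgroup Γ) ∣ Nat.card Γ := Subgroup.card_subgroup_dvd_card _
    have h2 : p ∣ Nat.card (Q : Subgroup Γ) := by
      have := Subgroup.card_dvd_of_le hQ
      rwa [Nat.card_zpowers, hox] at this
    rcases Nat.lt_or_ge n 1 with h3 | h3
    · exfalso
      have : n = 0 := by omega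
      rw [hn, this, pow_zero] at h2
      exact hp.out.one_lt.ne' (Nat.dvd_one.mp h2)
    · rcases Nat.lt_or_ge 1 n with h4 | h4
      · exfalso
        apply hsqΓ
        rw [hn] at h1
        exact (pow_dvd_pow p h4).trans h1
      · omega
  have hcard : Nat.card (Q : Subgroup Γ) = p := by rw [hn, hn1, pow_one]
  refine ⟨Q, hmem, hcard, ?_⟩
  symm
  apply Subgroup.eq_of_le_of_card_ge hQ
  rw [hcard, Nat.card_zpowers, hox]

/-- `Q = ⟨φ x⟩` is not normal in `Γ` (else `⟨x⟩` would be normal in `G`) -/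
theorem d1m_fina_not_normal (hnn : ∀ H : Subgroup G, H.Normal → Nat.card H ≠ p)
    (hker : φ.ker ≤ Subgroup.center G)
    (hord : ∀ g : G, orderOf g = p → orderOf (φ g) = p) {x : G} (hx : orderOf x = p) :
    ¬ (Subgroup.zpowers (φ x)).Normal := by
  intro hN
  have hnorm : (Subgroup.zpowers x).Normal := by
    constructor
    intro y hy g
    obtain ⟨i, rfl⟩ := Subgroup.mem_zpowers_iff.mp hy
    -- enough for `x` itself
    have hx' : g * x * g⁻¹ ∈ Subgroup.zpowers x := by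
      have h1 : φ (g * x * g⁻¹) ∈ Subgroup.zpowers (φ x) := by
        rw [map_mul, map_mul, map_inv]
        exact hN.conj_mem _ (Subgroup.mem_zpowers _) _
      have hfin : IsOfFinOrder (φ x) := by
        rw [← orderOf_pos_iff, hord x hx]; exact hp.out.pos
      rw [← hfin.mem_powers_iff_mem_zpowers, Submonoid.mem_powers_iff] at h1
      obtain ⟨a, ha⟩ := h1
      have h2 : φ (g * x * g⁻¹) = φ (x ^ a) := by rw [map_pow, ha]
      rw [d1m_fina_lift p φ hker hord hx g a h2]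
      exact Subgroup.pow_mem _ (Subgroup.mem_zpowers x) a
    have : g * x ^ i * g⁻¹ = (g * x * g⁻¹) ^ i := by rw [conj_zpow]
    rw [this]
    exact Subgroup.zpow_mem _ hx' i
  apply hnn _ hnorm
  rw [Nat.card_zpowers, hx]

end lift

/-- **full automizer**: if `C_Γ(⟨x̂⟩) = ⟨x̂⟩` and `|N_Γ(⟨x̂⟩) : ⟨x̂⟩| = p - 1`, every `x̂ ^ a` (`p ∤ a`) is
conjugate to `x̂`. -/
theorem d1m_fina_full {Γ : Type u'} [Group Γ] [Finite Γ] (p : ℕ) [hp : Fact p.Prime] (xh : Γ)
    (hxh : orderOf xh = p)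
    (hcent : Subgroup.centralizer ((Subgroup.zpowers xh : Subgroup Γ) : Set Γ)
      = Subgroup.zpowers xh)
    (he1 : (Subgroup.zpowers xh).relIndex
      (Subgroup.normalizer ((Subgroup.zpowers xh : Subgroup Γ) : Set Γ)) = p - 1)
    (a : ℕ) (ha : ¬ p ∣ a) : ∃ γ : Γ, γ * xh * γ⁻¹ = xh ^ a := by
  classical
  set Q := Subgroup.zpowers xh with hQ
  set N := Subgroup.normalizer ((Q : Subgroup Γ) : Set Γ) with hN
  set Q' := Q.subgroupOf N with hQ'
  -- elements of `Q` commute with `xh`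
  have hcomm : ∀ q ∈ Q, q * xh = xh * q := by
    intro q hq
    obtain ⟨i, rfl⟩ := Subgroup.mem_zpowers_iff.mp hq
    exact ((Commute.refl xh).zpow_left i).eq
  have hcentmem : ∀ g : Γ, g * xh = xh * g → g ∈ Q := by
    intro g hg
    rw [← hcent, Subgroup.mem_centralizer_iff]
    intro h hh
    obtain ⟨i, rfl⟩ := Subgroup.mem_zpowers_iff.mp hh
    have : Commute (xh ^ i) g := (show Commute xh g from hg.symm).zpow_left i
    exact this.eq
  -- the map on cosets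
  let f0 : ↥N → Γ := fun γ => (γ : Γ) * xh * (γ : Γ)⁻¹
  have hwd : ∀ γ γ' : ↥N, (QuotientGroup.leftRel Q') γ γ' → f0 γ = f0 γ' := by
    intro γ γ' h
    rw [QuotientGroup.leftRel_apply, hQ', Subgroup.mem_subgroupOf] at h
    have h1 : ((γ⁻¹ * γ' : ↥N) : Γ) = (γ : Γ)⁻¹ * (γ' : Γ) := by simp
    rw [h1] at h
    have h2 := hcomm _ h
    show (γ : Γ) * xh * (γ : Γ)⁻¹ = (γ' : Γ) * xh * (γ' : Γ)⁻¹
    have h3 : (γ' : Γ) = (γ : Γ) * ((γ : Γ)⁻¹ * (γ' : Γ)) := by group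
    rw [h3]
    set q := (γ : Γ)⁻¹ * (γ' : Γ) with hq
    calc (γ : Γ) * xh * (γ : Γ)⁻¹ = (γ : Γ) * (xh * q) * q⁻¹ * (γ : Γ)⁻¹ := by group
      _ = (γ : Γ) * (q * xh) * q⁻¹ * (γ : Γ)⁻¹ := by rw [h2]
      _ = (γ : Γ) * q * xh * ((γ : Γ) * q)⁻¹ := by group
  let f : (↥N ⧸ Q') → Γ := Quotient.lift f0 hwd
  have hf : ∀ γ : ↥N, f (QuotientGroup.mk γ) = (γ : Γ) * xh * (γ : Γ)⁻¹ := fun γ => rfl
  have hfinj : Function.Injective f := by
    intro c c'
    induction c using QuotientGroup.induction_on with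
    | H γ =>
    induction c' using QuotientGroup.induction_on with
    | H γ' =>
    intro h
    rw [hf, hf] at h
    apply QuotientGroup.eq.mpr
    rw [hQ', Subgroup.mem_subgroupOf]
    have h1 : ((γ⁻¹ * γ' : ↥N) : Γ) = (γ : Γ)⁻¹ * (γ' : Γ) := by simp
    rw [h1]
    apply hcentmem
    have h2 : (γ : Γ)⁻¹ * ((γ : Γ) * xh * (γ : Γ)⁻¹) * (γ' : Γ)
        = (γ : Γ)⁻¹ * ((γ' : Γ) * xh * (γ' : Γ)⁻¹) * (γ' : Γ) := by rw [h]
    calc (γ : Γ)⁻¹ * (γ' : Γ) * xh = (γ : Γ)⁻¹ * ((γ' : Γ) * xh * (γ' : Γ)⁻¹) * (γ' : Γ) := by group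
      _ = (γ : Γ)⁻¹ * ((γ : Γ) * xh * (γ : Γ)⁻¹) * (γ' : Γ) := h2.symm
      _ = xh * ((γ : Γ)⁻¹ * (γ' : Γ)) := by group
  have hxh1 : xh ≠ 1 := by
    intro h; rw [h, orderOf_one] at hxh; exact hp.out.one_lt.ne hxh
  set S : Set Γ := (Q : Set Γ) \ {1} with hS
  have hrange : Set.range f ⊆ S := by
    rintro _ ⟨c, rfl⟩
    induction c using QuotientGroup.induction_on with
    | H γ =>
    rw [hf]
    refine ⟨?_, ?_⟩
    · exact (Subgroup.mem_normalizer_iff.mp γ.2 xh).mp (Subgroup.mem_zpowers xh)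
    · intro h
      rw [Set.mem_singleton_iff] at h
      apply hxh1
      have : xh = (γ : Γ)⁻¹ * ((γ : Γ) * xh * (γ : Γ)⁻¹) * (γ : Γ) := by group
      rw [this, h]; group
  have hcardS : S.ncard = p - 1 := by
    rw [hS, Set.ncard_sdiff_singleton_of_mem (Subgroup.one_mem Q), ← Nat.card_coe_set_eq]
    show Nat.card ↥Q - 1 = p - 1
    rw [hQ, Nat.card_zpowers, hxh]
  have hcardR : (Set.range f).ncard = p - 1 := by
    rw [Set.ncard_range_of_injective hfinj, ← Subgroup.index_eq_card]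
    exact he1
  have hSfin : S.Finite := Set.toFinite S
  have heq : Set.range f = S :=
    Set.eq_of_subset_of_ncard_le hrange (by rw [hcardS, hcardR]) hSfin
  have hmem : xh ^ a ∈ S := by
    refine ⟨Subgroup.pow_mem _ (Subgroup.mem_zpowers xh) a, ?_⟩
    intro h
    rw [Set.mem_singleton_iff] at h
    apply ha
    rw [← hxh]
    exact orderOf_dvd_of_pow_eq_one h
  rw [← heq] at hmem
  obtain ⟨c, hc⟩ := hmem
  induction c using QuotientGroup.induction_on with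
  | H γ =>
  exact ⟨(γ : Γ), by rw [← hc, hf]⟩

/-- **steps 2 + 3 of the endgame of S4504** -/
theorem d1m_fina_main {G : Type u} [Group G] [Finite G] (p : ℕ) [Fact p.Prime] (hp5 : 5 ≤ p)
    (hsq : ¬ p ^ 2 ∣ Nat.card G) (hnn : ∀ H : Subgroup G, H.Normal → Nat.card H ≠ p)
    (hcentral : ∀ M : Subgroup G, M.Normal → ¬ p ∣ Nat.card M → M ≤ Subgroup.center G)
    (x : G) (hx : orderOf x = p)
    (hnotfull : ∃ a : ℕ, ¬ p ∣ a ∧ ∀ g : G, g * x * g⁻¹ ≠ x ^ a)
    {Γ : Type u'} [Group Γ] [Finite Γ] {C : Type w} [MulAction Γ C] (φ : G →* Γ)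
    (hφs : Function.Surjective φ) (hZ : Subgroup.center G ≤ φ.ker)
    (hord : ∀ g : G, orderOf g = p → orderOf (φ g) = p)
    (hE1 : ∀ γ : Γ, orderOf γ = p → ∃! y : C, γ • y = y)
    (hE2 : ∀ γ : Γ, γ ≠ 1 → ¬ p ∣ orderOf γ → (MulAction.fixedBy C γ).ncard = 2)
    (hE3 : ∀ γ γ' : Γ, orderOf γ = p → orderOf γ' = p → (∀ y : C, γ • y = y → γ' • y = y) →
      γ' ∈ Subgroup.zpowers γ)
    (hE4 : ∀ γ γ' : Γ, orderOf γ = p → Commute γ γ' → γ' ∈ Subgroup.zpowers γ) :
    φ.ker = Subgroup.center G ∧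
    ∃ Q : Sylow p Γ, φ x ∈ (Q : Subgroup Γ) ∧ Nat.card Q = p ∧ ¬ (Q : Subgroup Γ).Normal ∧
      Nat.card (Sylow p Γ) = p + 1 ∧
      2 * (Q : Subgroup Γ).relIndex (Subgroup.normalizer ((Q : Subgroup Γ) : Set Γ)) = p - 1 ∧
      2 * Nat.card Γ = (p + 1) * p * (p - 1) ∧
      Subgroup.centralizer ((Q : Subgroup Γ) : Set Γ) = (Q : Subgroup Γ) := by
  have hker := d1m_fina_ker p φ hcentral hZ hord
  have hkerle : φ.ker ≤ Subgroup.center G := hker.le
  obtain ⟨Q, hxQ, hQcard, hQeq⟩ := d1m_fina_sylow p φ hφs hsq hord hx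
  have hQnn : ¬ (Q : Subgroup Γ).Normal := by
    rw [hQeq]; exact d1m_fina_not_normal p φ hnn hkerle hord hx
  obtain ⟨hsyl, he1, hcardΓ, hcent⟩ := d1m_count_main p hp5 hE1 hE2 hE3 hE4 Q hQcard hQnn
  have he1' : 2 * (Q : Subgroup Γ).relIndex (Subgroup.normalizer ((Q : Subgroup Γ) : Set Γ))
      = p - 1 := by
    rcases he1 with h | h
    · exact h
    · exfalso
      obtain ⟨a, ha, hno⟩ := hnotfull
      have hcent' : Subgroup.centralizer ((Subgroup.zpowers (φ x) : Subgroup Γ) : Set Γ)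
          = Subgroup.zpowers (φ x) := by rw [← hQeq]; exact hcent
      have h' : (Subgroup.zpowers (φ x)).relIndex
          (Subgroup.normalizer ((Subgroup.zpowers (φ x) : Subgroup Γ) : Set Γ)) = p - 1 := by
        rw [← hQeq]; exact h
      obtain ⟨γ, hγ⟩ := d1m_fina_full p (φ x) (hord x hx) hcent' h' a ha
      obtain ⟨g, rfl⟩ := hφs γ
      apply hno g
      apply d1m_fina_lift p φ hkerle hord hx g a
      rw [map_mul, map_mul, map_inv, map_pow, hγ]
  refine ⟨hker, Q, hxQ, hQcard, hQnn, hsyl, he1', ?_, hcent⟩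
  rw [hcardΓ]
  calc 2 * ((p + 1) * p * (Q : Subgroup Γ).relIndex (Subgroup.normalizer ((Q : Subgroup Γ) : Set Γ)))
      = (p + 1) * p * (2 * (Q : Subgroup Γ).relIndex
          (Subgroup.normalizer ((Q : Subgroup Γ) : Set Γ))) := by ring
    _ = (p + 1) * p * (p - 1) := by rw [he1']

end Cfsg.Agent.D1M
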