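import Mathlib.Algebra.Polynomial.AlgebraMap
import Mathlib.Algebra.Polynomial.Coeff
import Mathlib.Algebra.CharP.Lemmas
import Mathlib.GroupTheory.OrderOfElement
import Mathlib.RepresentationTheory.Basic
import Mathlib.LinearAlgebra.FiniteDimensional.Defs
import Mathlib.Tactic

/-!
# S4504, file 4 (part A): the element `X` and the polynomial calculus around it

Pure algebra.  `x` a unipotent element of order `p` of a `k`-algebra, normalised by a finite group `E`
of order prime to `p` (`σ e * x = x ^ n e * σ e`).  We build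
`X := |E|⁻¹ ∑_e (n e)⁻¹ (x ^ n e - 1)`, a polynomial `G(t)` in `t = x - 1` with `G = z + …`, on which `E`
acts through the character `e ↦ (n e : k)`, and show `x = F(X)` for a polynomial `F = 1 + z + …`.
-/

set_option autoImplicit false

namespace Cfsg.Agent.D1M

open Polynomial

/-- compositional inverse modulo `X^(n+1)` of a polynomial `G = X + …` -/
theorem d1m_jord_comp_inv {R : Type*} [CommRing R] (G : R[X]) (h0 : G.coeff 0 = 0)
    (h1 : G.coeff 1 = 1) (n : ℕ) :
    ∃ F q : R[X], F.coeff 0 = 0 ∧ F.coeff 1 = 1 ∧ X - F.comp G = X ^ (n + 2) * q := by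
  -- `G = X * u`, `u.coeff 0 = 1`
  obtain ⟨u, hu⟩ : X ∣ G := X_dvd_iff.mpr h0
  have hu0 : u.coeff 0 = 1 := by
    have := h1
    rw [hu, coeff_X_mul] at this
    exact this
  induction n with
  | zero =>
    -- `F = X`: `X - G = X - X u = X (1 - u)`, `(1-u).coeff 0 = 0`
    obtain ⟨v, hv⟩ : X ∣ (1 - u) := X_dvd_iff.mpr (by simp [hu0])
    refine ⟨X, v, by simp, by simp, ?_⟩
    rw [X_comp, hu]
    have : X - X * u = X * (1 - u) := by ring
    rw [this, hv]; ring
  | succ n ih =>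
    obtain ⟨F, q, hF0, hF1, hq⟩ := ih
    obtain ⟨v, hv⟩ : X ∣ (q - C (q.coeff 0) * u ^ (n + 2)) := by
      apply X_dvd_iff.mpr
      rw [coeff_sub, coeff_C_mul, coeff_zero_eq_eval_zero (u ^ (n + 2)), eval_pow,
        ← coeff_zero_eq_eval_zero, hu0]
      simp
    refine ⟨F + C (q.coeff 0) * X ^ (n + 2), v, ?_, ?_, ?_⟩
    · simp [hF0]
    · rw [coeff_add, hF1, coeff_C_mul, coeff_X_pow]
      simp
    · rw [add_comp, mul_comp, C_comp, pow_comp, X_comp]
      have : X - (F.comp G + C (q.coeff 0) * G ^ (n + 2))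
          = (X - F.comp G) - C (q.coeff 0) * G ^ (n + 2) := by ring
      rw [this, hq, hu, mul_pow]
      have : X ^ (n + 2) * q - C (q.coeff 0) * (X ^ (n + 2) * u ^ (n + 2))
          = X ^ (n + 2) * (q - C (q.coeff 0) * u ^ (n + 2)) := by ring
      rw [this, hv]; ring

/-- if `t` is nilpotent and `Xe = G(t)` with `G = z + …`, then `t = F(Xe)` with `F = z + …` -/
theorem d1m_jord_inv_nilp {R : Type*} [CommRing R] {A : Type*} [Ring A] [Algebra R A]
    (t : A) (ht : IsNilpotent t) (G : R[X]) (h0 : G.coeff 0 = 0) (h1 : G.coeff 1 = 1) :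
    ∃ F : R[X], F.coeff 0 = 0 ∧ F.coeff 1 = 1 ∧ t = aeval (aeval t G) F := by
  obtain ⟨N, hN⟩ := ht
  obtain ⟨F, q, hF0, hF1, hq⟩ := d1m_jord_comp_inv G h0 h1 N
  refine ⟨F, hF0, hF1, ?_⟩
  have h := congrArg (aeval t) hq
  rw [map_sub, aeval_X, aeval_comp, map_mul, map_pow, aeval_X, pow_add, hN, zero_mul, zero_mul] at h
  exact sub_eq_zero.mp h

/-- a nilpotent polynomial expression: `G(t)` is nilpotent if `t` is and `G.coeff 0 = 0` -/
theorem d1m_jord_aeval_nilp {R : Type*} [CommRing R] {A : Type*} [Ring A] [Algebra R A]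
    (t : A) (G : R[X]) (h0 : G.coeff 0 = 0) (N : ℕ) (hN : t ^ N = 0) :
    (aeval t G) ^ N = 0 := by
  obtain ⟨u, hu⟩ : X ∣ G := X_dvd_iff.mpr h0
  rw [hu, map_mul, aeval_X]
  have hc : Commute t (aeval t u) := by
    show t * aeval t u = aeval t u * t
    calc t * aeval t u = aeval t (X : R[X]) * aeval t u := by rw [aeval_X]
      _ = aeval t (X * u) := by rw [map_mul]
      _ = aeval t (u * X) := by rw [mul_comm]
      _ = aeval t u * t := by rw [map_mul, aeval_X]
  rw [hc.mul_pow, hN, zero_mul]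

section alpha

variable {k : Type*} [Field k] {A : Type*} [Ring A] [Algebra k A] (p : ℕ) [Fact p.Prime] [CharP k p]
  (x : A) (hxp : x ^ p = 1) (hx1 : x ≠ 1) {E : Type*} [Group E] (σ : E →* A) (n : E → ℕ)
  (hn : ∀ e, σ e * x = x ^ n e * σ e)

include hxp hx1 in
/-- powers of an element of order `p` -/
theorem d1m_jord_pow_eq_iff (a b : ℕ) : x ^ a = x ^ b ↔ a ≡ b [MOD p] := by
  have hx : x * x ^ (p - 1) = 1 := by
    rw [← pow_succ', Nat.sub_add_cancel (Fact.out : p.Prime).one_le, hxp]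
  have hx' : x ^ (p - 1) * x = 1 := by
    rw [← pow_succ, Nat.sub_add_cancel (Fact.out : p.Prime).one_le, hxp]
  set xu : Aˣ := ⟨x, x ^ (p - 1), hx, hx'⟩ with hxu
  have hval : ∀ j : ℕ, ((xu ^ j : Aˣ) : A) = x ^ j := fun j => by rw [Units.val_pow_eq_pow_val]
  have hord : orderOf xu = p := by
    apply orderOf_eq_prime
    · apply Units.ext; rw [hval, hxp]; rfl
    · intro h; apply hx1
      have := congrArg Units.val h
      exact this
  constructor
  · intro h
    have h2 : xu ^ a = xu ^ b := by apply Units.ext; rw [hval, hval, h]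
    have := pow_eq_pow_iff_modEq.mp h2
    rw [hord] at this
    exact this
  · intro h
    have h2 : xu ^ a = xu ^ b := by
      apply pow_eq_pow_iff_modEq.mpr; rw [hord]; exact h
    have := congrArg Units.val h2
    rw [hval, hval] at this
    exact this

include hn in
/-- `σ e * x ^ j = x ^ (n e * j) * σ e` -/
theorem d1m_jord_conj_pow (e : E) (j : ℕ) : σ e * x ^ j = x ^ (n e * j) * σ e := by
  induction j with
  | zero => simp
  | succ j ih =>
    rw [pow_succ, ← mul_assoc, ih, mul_assoc, hn e, ← mul_assoc, ← pow_add, Nat.mul_succ]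

/-- `σ e` is invertible -/
theorem d1m_jord_sigma_inv (e : E) : σ e * σ e⁻¹ = 1 ∧ σ e⁻¹ * σ e = 1 := by
  constructor
  · rw [← map_mul, mul_inv_cancel, map_one]
  · rw [← map_mul, inv_mul_cancel, map_one]

include hxp hx1 hn in
/-- the exponent function is multiplicative modulo `p` -/
theorem d1m_jord_n_mul (e e' : E) : n (e * e') ≡ n e * n e' [MOD p] := by
  apply (d1m_jord_pow_eq_iff p x hxp hx1 _ _).mp
  have h1 : σ (e * e') * x = x ^ n (e * e') * σ (e * e') := hn _
  have h2 : σ (e * e') * x = x ^ (n e * n e') * σ (e * e') := by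
    rw [map_mul, mul_assoc, hn e', ← mul_assoc, d1m_jord_conj_pow x σ n hn e (n e'), mul_assoc]
  have h3 : x ^ n (e * e') * σ (e * e') = x ^ (n e * n e') * σ (e * e') := by rw [← h1, h2]
  have h4 := congrArg (· * σ (e * e')⁻¹) h3
  simp only [mul_assoc, (d1m_jord_sigma_inv σ (e * e')).1, mul_one] at h4
  exact h4

omit [Algebra k A] [Fact p.Prime] in
include hxp hx1 hn in
/-- the exponents are prime to `p` -/
theorem d1m_jord_alpha_ne_zero (e : E) : (n e : k) ≠ 0 := by
  intro h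
  have hdvd : p ∣ n e := (CharP.cast_eq_zero_iff k p (n e)).mp h
  obtain ⟨c, hc⟩ := hdvd
  have h1 : x ^ n e = 1 := by rw [hc, pow_mul, hxp, one_pow]
  have h2 := hn e
  rw [h1, one_mul] at h2
  apply hx1
  have h3 := congrArg (σ e⁻¹ * ·) h2
  simp only [← mul_assoc, (d1m_jord_sigma_inv σ e).2, one_mul] at h3
  exact h3

omit [Algebra k A] in
include hxp hx1 hn in
/-- the character `e ↦ (n e : k)` is multiplicative -/
theorem d1m_jord_alpha_mul (e e' : E) : (n (e * e') : k) = (n e : k) * (n e' : k) := by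
  rw [← Nat.cast_mul]
  exact (CharP.natCast_eq_natCast k p).mpr (d1m_jord_n_mul p x hxp hx1 σ n hn e e')

include hxp hx1 hn in
/-- **the element `X`**: a polynomial `G(t)`, `G = z + …`, in `t = x - 1`, on which `E` acts through
the character `e ↦ (n e : k)`. -/
theorem d1m_jord_X_exists [Fintype E] (hE : ¬ p ∣ Fintype.card E) :
    ∃ (Xe : A) (G : k[X]), G.coeff 0 = 0 ∧ G.coeff 1 = 1 ∧ Xe = aeval (x - 1) G ∧
      ∀ e, σ e * Xe = (n e : k) • (Xe * σ e) := by
  have hα0 := d1m_jord_alpha_ne_zero (k := k) p x hxp hx1 σ n hn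
  have hαm := d1m_jord_alpha_mul (k := k) p x hxp hx1 σ n hn
  have hcard : (Fintype.card E : k) ≠ 0 := by
    intro h; exact hE ((CharP.cast_eq_zero_iff k p _).mp h)
  refine ⟨(Fintype.card E : k)⁻¹ • ∑ e, ((n e : k))⁻¹ • (x ^ n e - 1),
    C ((Fintype.card E : k)⁻¹) * ∑ e, C (((n e : k))⁻¹) * ((1 + X) ^ n e - 1), ?_, ?_, ?_, ?_⟩
  · rw [coeff_C_mul, finsetSum_coeff]
    have : ∀ e : E, (C (((n e : k))⁻¹) * ((1 + X) ^ n e - 1) : k[X]).coeff 0 = 0 := by
      intro e
      rw [coeff_C_mul, coeff_sub, coeff_one_add_X_pow, Nat.choose_zero_right, coeff_one_zero]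
      simp
    rw [Finset.sum_congr rfl (fun e _ => this e)]
    simp
  · rw [coeff_C_mul, finsetSum_coeff]
    have : ∀ e : E, (C (((n e : k))⁻¹) * ((1 + X) ^ n e - 1) : k[X]).coeff 1 = 1 := by
      intro e
      rw [coeff_C_mul, coeff_sub, coeff_one_add_X_pow, Nat.choose_one_right, coeff_one]
      simp [hα0 e]
    rw [Finset.sum_congr rfl (fun e _ => this e)]
    simp [hcard]
  · rw [map_mul, aeval_C, map_sum, Algebra.algebraMap_eq_smul_one, smul_mul_assoc, one_mul]
    congr 1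
    refine Finset.sum_congr rfl (fun e _ => ?_)
    rw [map_mul, aeval_C, map_sub, map_pow, map_add, map_one, aeval_X,
      Algebra.algebraMap_eq_smul_one, smul_mul_assoc, one_mul]
    congr 2
    rw [add_sub_cancel 1 x]
  · intro e'
    -- `σ e' * (x ^ n e - 1) = (x ^ n (e' * e) - 1) * σ e'`
    have h1 : ∀ e, σ e' * (x ^ n e - 1) = (x ^ n (e' * e) - 1) * σ e' := by
      intro e
      rw [mul_sub, sub_mul, mul_one, one_mul, d1m_jord_conj_pow x σ n hn e' (n e)]
      congr 2
      exact ((d1m_jord_pow_eq_iff p x hxp hx1 _ _).mpr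
        (d1m_jord_n_mul p x hxp hx1 σ n hn e' e)).symm
    have hL : σ e' * ((Fintype.card E : k)⁻¹ • ∑ e, ((n e : k))⁻¹ • (x ^ n e - 1))
        = (Fintype.card E : k)⁻¹ • ∑ e, ((n e : k))⁻¹ • ((x ^ n (e' * e) - 1) * σ e') := by
      rw [mul_smul_comm, Finset.mul_sum]
      congr 1
      refine Finset.sum_congr rfl (fun e _ => ?_)
      rw [mul_smul_comm, h1 e]
    have hR : (n e' : k) • (((Fintype.card E : k)⁻¹ • ∑ e, ((n e : k))⁻¹ • (x ^ n e - 1)) * σ e')
        = (Fintype.card E : k)⁻¹ • ∑ e, ((n e : k))⁻¹ • ((x ^ n (e' * e) - 1) * σ e') := by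
      rw [smul_mul_assoc, Finset.sum_mul, smul_comm, Finset.smul_sum]
      congr 1
      rw [← Fintype.sum_equiv (Equiv.mulLeft e')
        (fun e => (n e' : k) • (((n (e' * e) : k))⁻¹ • (x ^ n (e' * e) - 1) * σ e'))
        (fun e => (n e' : k) • (((n e : k))⁻¹ • (x ^ n e - 1) * σ e')) (fun e => rfl)]
      refine Finset.sum_congr rfl (fun e _ => ?_)
      rw [smul_mul_assoc, smul_smul]
      congr 1
      rw [hαm e' e, mul_inv, ← mul_assoc, mul_inv_cancel₀ (hα0 e'), one_mul]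
    rw [hL, hR]

omit [Fact p.Prime] in
include hxp hx1 in
/-- `x - 1` is nilpotent -/
theorem d1m_jord_t_nilp (k : Type*) [Field k] [Algebra k A] [Fact p.Prime] [CharP k p] :
    (x - 1) ^ p = 0 := by
  have : Nontrivial A := ⟨⟨x, 1, hx1⟩⟩
  have : CharP A p := charP_of_injective_algebraMap (algebraMap k A).injective p
  rw [sub_pow_char_of_commute p (Commute.one_right x), hxp, one_pow, sub_self]

include hxp hx1 hn in
/-- **the element `X` and the polynomial `F`**: `x = F(X)`, `F = 1 + z + …`, `X` nilpotent, nonzero,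
`E` acts on `X` through the character `e ↦ (n e : k)`. -/
theorem d1m_jord_XF_exists [Fintype E] (hE : ¬ p ∣ Fintype.card E) :
    ∃ (Xe : A) (F : k[X]), F.coeff 0 = 1 ∧ F.coeff 1 = 1 ∧ x = aeval Xe F ∧ Xe ^ p = 0 ∧ Xe ≠ 0 ∧
      ∀ e, σ e * Xe = (n e : k) • (Xe * σ e) := by
  obtain ⟨Xe, G, hG0, hG1, hXe, hequiv⟩ := d1m_jord_X_exists (k := k) p x hxp hx1 σ n hn hE
  have htp := d1m_jord_t_nilp p x hxp hx1 k
  obtain ⟨F, hF0, hF1, hF⟩ := d1m_jord_inv_nilp (x - 1) ⟨p, htp⟩ G hG0 hG1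
  rw [← hXe] at hF
  have hx : x = aeval Xe (1 + F) := by
    rw [map_add, map_one, ← hF]; abel
  refine ⟨Xe, 1 + F, ?_, ?_, hx, ?_, ?_, hequiv⟩
  · rw [coeff_add, hF0, coeff_one_zero, add_zero]
  · rw [coeff_add, hF1, coeff_one]; simp
  · rw [hXe]; exact d1m_jord_aeval_nilp (x - 1) G hG0 p htp
  · intro h0
    apply hx1
    rw [hx, h0, map_add, map_one, aeval_def, eval₂_at_zero, hF0, map_zero, add_zero]

end alpha

end Cfsg.Agent.D1M
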