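import Mathlib.RepresentationTheory.Basic
import Mathlib.LinearAlgebra.FiniteDimensional.Defs
import Mathlib.LinearAlgebra.Projection
import Mathlib.LinearAlgebra.Basis.VectorSpace
import Mathlib.RingTheory.Nilpotent.Defs
import Mathlib.Tactic

/-!
# S4504, file 4 (part B): an indecomposable module for `⟨X⟩ ⋊ E` is free over `k[X]/(X^m)`

`X` a nilpotent endomorphism of a `k`-vector space `V`, `E` a finite group with `|E|` invertible in `k`
acting on `V` with `σ e * X = α e • (X * σ e)`.  If every idempotent commuting with `X` and `σ E` is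
`0` or `1`, then `V = ⨁_{j<m} X^j D` for an `E`-stable subspace `D` (`m` = nilpotency index of `X`).
-/

set_option autoImplicit false

namespace Cfsg.Agent.D1M

section avg

variable {k : Type*} [Field k] {V : Type*} [AddCommGroup V] [Module k V]
  {E : Type*} [Group E] [Fintype E] (σ : Representation k E V)

/-- the average of the conjugates of an endomorphism -/
noncomputable def d1m_jord_avg (φ : V →ₗ[k] V) : V →ₗ[k] V :=
  (Fintype.card E : k)⁻¹ • ∑ e : E, σ e * φ * σ e⁻¹

theorem d1m_jord_avg_comm (φ : V →ₗ[k] V) (e' : E) :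
    σ e' * d1m_jord_avg σ φ = d1m_jord_avg σ φ * σ e' := by
  unfold d1m_jord_avg
  rw [mul_smul_comm, smul_mul_assoc, Finset.mul_sum, Finset.sum_mul]
  congr 1
  refine Fintype.sum_equiv (Equiv.mulLeft e') _ _ (fun e => ?_)
  rw [Equiv.coe_mulLeft, mul_inv_rev, map_mul, map_mul]
  simp only [mul_assoc]
  rw [← map_mul σ e'⁻¹ e', inv_mul_cancel, map_one, mul_one]

theorem d1m_jord_avg_range (φ : V →ₗ[k] V) (W : Submodule k V) (hW : ∀ e, ∀ w ∈ W, σ e w ∈ W)
    (hφ : ∀ v, φ v ∈ W) (v : V) : d1m_jord_avg σ φ v ∈ W := by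
  unfold d1m_jord_avg
  rw [LinearMap.smul_apply, LinearMap.sum_apply]
  refine W.smul_mem _ (W.sum_mem (fun e _ => ?_))
  exact hW e _ (hφ _)

theorem d1m_jord_avg_fix (hcard : (Fintype.card E : k) ≠ 0) (φ : V →ₗ[k] V) (W : Submodule k V)
    (hW : ∀ e, ∀ w ∈ W, σ e w ∈ W) (hφ : ∀ w ∈ W, φ w = w) (w : V) (hw : w ∈ W) :
    d1m_jord_avg σ φ w = w := by
  unfold d1m_jord_avg
  rw [LinearMap.smul_apply, LinearMap.sum_apply]
  have : ∀ e : E, (σ e * φ * σ e⁻¹) w = w := by
    intro e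
    rw [Module.End.mul_apply, Module.End.mul_apply, hφ _ (hW e⁻¹ w hw), ← Module.End.mul_apply,
      ← map_mul, mul_inv_cancel, map_one, Module.End.one_apply]
  rw [Finset.sum_congr rfl (fun e _ => this e), Finset.sum_const, Finset.card_univ, ← Nat.cast_smul_eq_nsmul k,
    smul_smul, inv_mul_cancel₀ hcard, one_smul]

theorem d1m_jord_avg_commX (φ X : V →ₗ[k] V) (α : E → k) (hαm : ∀ e e', α (e * e') = α e * α e')
    (hα : ∀ e, α e ≠ 0) (hσX : ∀ e, σ e * X = α e • (X * σ e)) (hφ : φ * X = X * φ) :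
    d1m_jord_avg σ φ * X = X * d1m_jord_avg σ φ := by
  have hα1 : α 1 = 1 := by
    have := hαm 1 1
    rw [mul_one] at this
    have h2 : α 1 * 1 = α 1 * α 1 := by rw [mul_one]; exact this
    exact (mul_left_cancel₀ (hα 1) h2).symm
  have hαinv : ∀ e, α e⁻¹ * α e = 1 := by
    intro e; rw [← hαm, inv_mul_cancel, hα1]
  unfold d1m_jord_avg
  rw [mul_smul_comm, smul_mul_assoc, Finset.mul_sum, Finset.sum_mul]
  congr 1
  refine Finset.sum_congr rfl (fun e _ => ?_)
  -- `X * σ e = (α e)⁻¹ • (σ e * X)`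
  have h1 : X * σ e = α e⁻¹ • (σ e * X) := by
    rw [hσX e, smul_smul, hαinv, one_smul]
  rw [mul_assoc (σ e * φ), hσX e⁻¹, mul_smul_comm, ← mul_assoc (σ e * φ), mul_assoc (σ e), hφ,
    ← mul_assoc (σ e), hσX e, smul_mul_assoc, smul_mul_assoc, smul_smul, hαinv, one_smul]
  simp only [mul_assoc]

/-- Maschke, in the form needed: a proper `E`-stable subspace `K` has a nonzero `E`-stable subspace
`D` with `D ⊓ K = ⊥`. -/
theorem d1m_jord_maschke (hcard : (Fintype.card E : k) ≠ 0) (K : Submodule k V)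
    (hK : ∀ e, ∀ w ∈ K, σ e w ∈ K) (hKtop : K ≠ ⊤) :
    ∃ D : Submodule k V, (∀ e, ∀ w ∈ D, σ e w ∈ D) ∧ D ⊓ K = ⊥ ∧ D ≠ ⊥ := by
  obtain ⟨K', hK'⟩ := Submodule.exists_isCompl K
  set φ₀ : V →ₗ[k] V := K.subtype ∘ₗ Submodule.projectionOnto K K' hK' with hφ₀
  have hφr : ∀ v, φ₀ v ∈ K := fun v => by
    rw [hφ₀, LinearMap.comp_apply]; exact (Submodule.projectionOnto K K' hK' v).2
  have hφf : ∀ w ∈ K, φ₀ w = w := fun w hw => by
    rw [hφ₀, LinearMap.comp_apply]
    have := Submodule.projectionOnto_apply_left hK' ⟨w, hw⟩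
    simp only at this
    rw [this]; rfl
  set π := d1m_jord_avg σ φ₀ with hπ
  have hπr : ∀ v, π v ∈ K := d1m_jord_avg_range σ φ₀ K hK hφr
  have hπf : ∀ w ∈ K, π w = w := d1m_jord_avg_fix σ hcard φ₀ K hK hφf
  refine ⟨LinearMap.ker π, ?_, ?_, ?_⟩
  · intro e w hw
    rw [LinearMap.mem_ker] at hw ⊢
    have := congrArg (fun f => f w) (d1m_jord_avg_comm σ φ₀ e)
    simp only [Module.End.mul_apply] at this
    rw [← hπ] at this
    rw [← this, hw, map_zero]
  · rw [eq_bot_iff]
    intro v hv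
    rw [Submodule.mem_inf, LinearMap.mem_ker] at hv
    rw [Submodule.mem_bot, ← hπf v hv.2, hv.1]
  · intro hbot
    apply hKtop
    rw [eq_top_iff]
    intro v _
    have h1 : v - π v ∈ LinearMap.ker π := by
      rw [LinearMap.mem_ker, map_sub, hπf _ (hπr v), sub_self]
    rw [hbot, Submodule.mem_bot, sub_eq_zero] at h1
    rw [h1]; exact hπr v

end avg

section decomp

variable {k : Type*} [Field k] {V : Type*} [AddCommGroup V] [Module k V]

/-- the map `(w_j)_{j<m} ↦ ∑ X^j w_j`, `w_j ∈ D` -/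
noncomputable def d1m_jord_mu (X : V →ₗ[k] V) (m : ℕ) (D : Submodule k V) : (Fin m → D) →ₗ[k] V :=
  ∑ j : Fin m, (X ^ (j : ℕ)) ∘ₗ D.subtype ∘ₗ LinearMap.proj j

theorem d1m_jord_mu_apply (X : V →ₗ[k] V) (m : ℕ) (D : Submodule k V) (w : Fin m → D) :
    d1m_jord_mu X m D w = ∑ j : Fin m, (X ^ (j : ℕ)) (w j : V) := by
  unfold d1m_jord_mu
  rw [LinearMap.sum_apply]
  rfl

theorem d1m_jord_mu_single (X : V →ₗ[k] V) (m : ℕ) (D : Submodule k V) (j : Fin m) (d : D) :
    d1m_jord_mu X m D (Pi.single j d) = (X ^ (j : ℕ)) (d : V) := by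
  rw [d1m_jord_mu_apply, Finset.sum_eq_single j]
  · rw [Pi.single_eq_same]
  · intro i _ hij
    rw [Pi.single_eq_of_ne hij]; simp
  · intro h; exact absurd (Finset.mem_univ j) h

theorem d1m_jord_mu_inj (X : V →ₗ[k] V) (m : ℕ) (D : Submodule k V) (hXm : X ^ m = 0)
    (hDK : D ⊓ LinearMap.ker (X ^ (m - 1)) = ⊥) : Function.Injective (d1m_jord_mu X m D) := by
  rw [injective_iff_map_eq_zero]
  intro w hw
  rw [d1m_jord_mu_apply] at hw
  have key : ∀ j : ℕ, ∀ hj : j < m, w ⟨j, hj⟩ = 0 := by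
    intro j
    induction j using Nat.strong_induction_on with
    | _ j ih =>
      intro hj
      have h1 := congrArg (X ^ (m - 1 - j)) hw
      rw [map_sum, map_zero, Finset.sum_eq_single ⟨j, hj⟩] at h1
      · have h2 : (X ^ (m - 1)) ((w ⟨j, hj⟩ : D) : V) = 0 := by
          rw [← Module.End.mul_apply, ← pow_add] at h1
          have : m - 1 - j + j = m - 1 := by omega
          simp only at h1
          rw [this] at h1
          exact h1
        have h3 : ((w ⟨j, hj⟩ : D) : V) ∈ D ⊓ LinearMap.ker (X ^ (m - 1)) :=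
          Submodule.mem_inf.mpr ⟨(w ⟨j, hj⟩).2, LinearMap.mem_ker.mpr h2⟩
        rw [hDK, Submodule.mem_bot] at h3
        exact Subtype.ext h3
      · intro i _ hij
        rcases Nat.lt_or_ge (i : ℕ) j with hlt | hge
        · have := ih i hlt i.2
          rw [show (⟨(i : ℕ), i.2⟩ : Fin m) = i from rfl] at this
          rw [this]; simp
        · have hne : (i : ℕ) ≠ j := fun h => hij (Fin.ext h)
          have hgt : j < (i : ℕ) := lt_of_le_of_ne hge (Ne.symm hne)
          rw [← Module.End.mul_apply, ← pow_add]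
          have : m - 1 - j + (i : ℕ) = m + ((i : ℕ) - j - 1) := by omega
          rw [this, pow_add, hXm, zero_mul, LinearMap.zero_apply]
      · intro h; exact absurd (Finset.mem_univ _) h
  funext j
  exact key j j.2

/-- the `X`-linear retraction onto `range μ` -/
theorem d1m_jord_retract (X : V →ₗ[k] V) (m' : ℕ) (D : Submodule k V) (hXm : X ^ (m' + 1) = 0)
    (hDK : D ⊓ LinearMap.ker (X ^ m') = ⊥) :
    ∃ Φ : V →ₗ[k] V, Φ * X = X * Φ ∧
      (∀ v, Φ v ∈ LinearMap.range (d1m_jord_mu X (m' + 1) D)) ∧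
      ∀ w ∈ LinearMap.range (d1m_jord_mu X (m' + 1) D), Φ w = w := by
  have hinj := d1m_jord_mu_inj X (m' + 1) D hXm (by simpa using hDK)
  obtain ⟨g, hg⟩ := LinearMap.exists_leftInverse_of_injective (d1m_jord_mu X (m' + 1) D)
    (LinearMap.ker_eq_bot.mpr hinj)
  have hg' : ∀ w, g (d1m_jord_mu X (m' + 1) D w) = w := fun w => by
    have := congrArg (fun f => f w) hg
    simpa using this
  set L : V →ₗ[k] V := D.subtype ∘ₗ LinearMap.proj (Fin.last m') ∘ₗ g with hLdef
  have hLD : ∀ v, L v ∈ D := fun v => by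
    rw [hLdef, LinearMap.comp_apply]; exact Submodule.coe_mem _
  have hL : ∀ j : ℕ, j < m' + 1 → ∀ d : D, L ((X ^ j) (d : V)) = if j = m' then (d : V) else 0 := by
    intro j hj d
    have h1 := d1m_jord_mu_single X (m' + 1) D ⟨j, hj⟩ d
    simp only at h1
    rw [← h1, hLdef, LinearMap.comp_apply, LinearMap.comp_apply, hg', LinearMap.proj_apply,
      Pi.single_apply]
    by_cases hjm : j = m'
    · subst hjm
      rw [if_pos rfl, if_pos (by rfl)]; rfl
    · rw [if_neg hjm, if_neg]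
      · simp
      · intro h
        apply hjm
        have := congrArg Fin.val h
        simp at this
        exact this.symm
  have hL0 : ∀ j : ℕ, m' + 1 ≤ j → ∀ v : V, (X ^ j) v = 0 := by
    intro j hj v
    have : j = (m' + 1) + (j - (m' + 1)) := by omega
    rw [this, pow_add, hXm, zero_mul, LinearMap.zero_apply]
  set Φ : V →ₗ[k] V := ∑ j ∈ Finset.range (m' + 1), X ^ (m' - j) * L * X ^ j with hΦ
  refine ⟨Φ, ?_, ?_, ?_⟩
  · -- commutes with `X`
    have hA : Φ * X = ∑ j ∈ Finset.range m', X ^ (m' - j) * L * X ^ (j + 1) := by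
      rw [hΦ, Finset.sum_mul, Finset.sum_range_succ]
      have : X ^ (m' - m') * L * X ^ m' * X = 0 := by
        rw [mul_assoc, ← pow_succ, hXm, mul_zero]
      rw [this, add_zero]
      refine Finset.sum_congr rfl (fun j _ => ?_)
      rw [mul_assoc, ← pow_succ]
    have hB : X * Φ = ∑ j ∈ Finset.range m', X ^ (m' - j) * L * X ^ (j + 1) := by
      rw [hΦ, Finset.mul_sum, Finset.sum_range_succ']
      have : X * (X ^ (m' - 0) * L * X ^ 0) = 0 := by
        rw [← mul_assoc, ← mul_assoc, ← pow_succ', Nat.sub_zero, hXm, zero_mul, zero_mul]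
      rw [this, add_zero]
      refine Finset.sum_congr rfl (fun j hj => ?_)
      rw [Finset.mem_range] at hj
      rw [← mul_assoc, ← mul_assoc, ← pow_succ']
      have : m' - (j + 1) + 1 = m' - j := by omega
      rw [this]
    rw [hA, hB]
  · -- range
    intro v
    rw [hΦ, LinearMap.sum_apply]
    refine Submodule.sum_mem _ (fun j hj => ?_)
    rw [Finset.mem_range] at hj
    rw [Module.End.mul_apply, Module.End.mul_apply]
    have h1 := d1m_jord_mu_single X (m' + 1) D ⟨m' - j, by omega⟩ ⟨L ((X ^ j) v), hLD _⟩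
    simp only at h1
    rw [← h1]
    exact LinearMap.mem_range_self _ _
  · -- identity on the range
    rintro _ ⟨w, rfl⟩
    rw [d1m_jord_mu_apply, map_sum]
    refine Finset.sum_congr rfl (fun i _ => ?_)
    rw [hΦ, LinearMap.sum_apply, Finset.sum_eq_single (m' - (i : ℕ))]
    · rw [Module.End.mul_apply, Module.End.mul_apply, ← Module.End.mul_apply (X ^ _) (X ^ _),
        ← pow_add]
      have hi : (i : ℕ) < m' + 1 := i.2
      have h2 : m' - (i : ℕ) + (i : ℕ) = m' := by omega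
      rw [h2, hL m' (by omega) (w i), if_pos rfl]
      have h3 : m' - (m' - (i : ℕ)) = (i : ℕ) := by omega
      rw [h3]
    · intro j hj hne
      rw [Finset.mem_range] at hj
      rw [Module.End.mul_apply, Module.End.mul_apply, ← Module.End.mul_apply (X ^ _) (X ^ _),
        ← pow_add]
      have hi : (i : ℕ) < m' + 1 := i.2
      rcases Nat.lt_or_ge (j + (i : ℕ)) (m' + 1) with hlt | hge
      · rw [hL _ hlt (w i), if_neg (by omega), map_zero]
      · rw [hL0 _ hge, map_zero, map_zero]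
    · intro h
      exfalso; apply h
      rw [Finset.mem_range]; omega

/-- `σ e * X ^ j = (α e) ^ j • (X ^ j * σ e)` -/
theorem d1m_jord_sigma_pow {E : Type*} [Group E] (σ : Representation k E V) (X : V →ₗ[k] V)
    (α : E → k) (hσX : ∀ e, σ e * X = α e • (X * σ e)) (e : E) (j : ℕ) :
    σ e * X ^ j = (α e) ^ j • (X ^ j * σ e) := by
  induction j with
  | zero => simp
  | succ j ih =>
    rw [pow_succ, ← mul_assoc, ih, smul_mul_assoc, mul_assoc, hσX e, mul_smul_comm, smul_smul,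
      ← mul_assoc, ← pow_succ, ← pow_succ]

/-- **the decomposition** `V = ⨁_{j ≤ m'} X^j D` -/
theorem d1m_jord_decomp (X : V →ₗ[k] V) (hXnil : IsNilpotent X) (hX0 : X ≠ 0)
    {E : Type*} [Group E] [Fintype E] (hcard : (Fintype.card E : k) ≠ 0)
    (σ : Representation k E V) (α : E → k) (hα : ∀ e, α e ≠ 0)
    (hαm : ∀ e e', α (e * e') = α e * α e') (hσX : ∀ e, σ e * X = α e • (X * σ e))
    (hind : ∀ π : V →ₗ[k] V, IsIdempotentElem π → π * X = X * π → (∀ e, σ e * π = π * σ e) →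
      π = 0 ∨ π = 1) :
    ∃ (m' : ℕ) (D : Submodule k V), 1 ≤ m' ∧ X ^ (m' + 1) = 0 ∧ X ^ m' ≠ 0 ∧
      (∀ e, ∀ w ∈ D, σ e w ∈ D) ∧ D ≠ ⊥ ∧ Function.Bijective (d1m_jord_mu X (m' + 1) D) := by
  classical
  have hnt : (1 : V →ₗ[k] V) ≠ 0 := by
    intro h; apply hX0
    rw [← mul_one X, h, mul_zero]
  -- the nilpotency index
  have hex : ∃ n, X ^ n = 0 := hXnil
  set m := Nat.find hex with hm
  have hXm : X ^ m = 0 := Nat.find_spec hex
  have hm0 : m ≠ 0 := by
    intro h; rw [h, pow_zero] at hXm; exact hnt hXm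
  have hm1 : m ≠ 1 := by
    intro h; rw [h, pow_one] at hXm; exact hX0 hXm
  obtain ⟨m', hm'⟩ : ∃ m', m = m' + 1 := ⟨m - 1, by omega⟩
  have hm'1 : 1 ≤ m' := by omega
  have hXm' : X ^ m' ≠ 0 := by
    have := Nat.find_min hex (m := m') (by omega)
    exact this
  rw [hm'] at hXm
  -- `K`
  set K := LinearMap.ker (X ^ m') with hKdef
  have hK : ∀ e, ∀ w ∈ K, σ e w ∈ K := by
    intro e w hw
    rw [hKdef, LinearMap.mem_ker] at hw ⊢
    have h1 := congrArg (fun f => f w) (d1m_jord_sigma_pow σ X α hσX e m')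
    simp only [Module.End.mul_apply, LinearMap.smul_apply] at h1
    rw [hw, map_zero] at h1
    have h2 := h1.symm
    rw [smul_eq_zero] at h2
    rcases h2 with h2 | h2
    · exact absurd h2 (pow_ne_zero _ (hα e))
    · exact h2
  have hKtop : K ≠ ⊤ := by
    intro h
    apply hXm'
    exact LinearMap.ker_eq_top.mp h
  obtain ⟨D, hD, hDK, hD0⟩ := d1m_jord_maschke σ hcard K hK hKtop
  obtain ⟨Φ, hΦX, hΦr, hΦf⟩ := d1m_jord_retract X m' D hXm hDK
  set W := LinearMap.range (d1m_jord_mu X (m' + 1) D) with hWdef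
  have hW : ∀ e, ∀ w ∈ W, σ e w ∈ W := by
    rintro e _ ⟨w, rfl⟩
    rw [d1m_jord_mu_apply, map_sum]
    refine Submodule.sum_mem _ (fun j _ => ?_)
    have h1 := congrArg (fun f => f ((w j : D) : V)) (d1m_jord_sigma_pow σ X α hσX e (j : ℕ))
    simp only [Module.End.mul_apply, LinearMap.smul_apply] at h1
    rw [h1]
    refine Submodule.smul_mem _ _ ?_
    have h2 := d1m_jord_mu_single X (m' + 1) D j ⟨σ e (w j : V), hD e _ (w j).2⟩
    simp only at h2
    rw [← h2]
    exact LinearMap.mem_range_self _ _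
  set π := d1m_jord_avg σ Φ with hπ
  have hπr : ∀ v, π v ∈ W := d1m_jord_avg_range σ Φ W hW hΦr
  have hπf : ∀ w ∈ W, π w = w := d1m_jord_avg_fix σ hcard Φ W hW hΦf
  have hπid : IsIdempotentElem π := by
    apply LinearMap.ext
    intro v
    rw [Module.End.mul_apply, hπf _ (hπr v)]
  have hπX : π * X = X * π := d1m_jord_avg_commX σ Φ X α hαm hα hσX hΦX
  have hπσ : ∀ e, σ e * π = π * σ e := fun e => d1m_jord_avg_comm σ Φ e
  have hπ1 : π = 1 := by
    rcases hind π hπid hπX hπσ with h0 | h1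
    · exfalso
      apply hD0
      rw [eq_bot_iff]
      intro d hd
      have h2 := d1m_jord_mu_single X (m' + 1) D ⟨0, by omega⟩ ⟨d, hd⟩
      simp only [pow_zero, Module.End.one_apply] at h2
      have h3 : d ∈ W := by rw [← h2]; exact LinearMap.mem_range_self _ _
      have h4 := hπf d h3
      rw [h0, LinearMap.zero_apply] at h4
      rw [Submodule.mem_bot, ← h4]
    · exact h1
  refine ⟨m', D, hm'1, hXm, hXm', hD, hD0, ?_, ?_⟩
  · exact d1m_jord_mu_inj X (m' + 1) D hXm (by simpa using hDK)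
  · intro v
    have h1 := hπr v
    rw [hπ1, Module.End.one_apply] at h1
    exact h1

end decomp

end Cfsg.Agent.D1M
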