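import Cfsg.Agent.D1M.JordA
import Cfsg.Agent.D1M.JordB
import Mathlib.LinearAlgebra.Trace
import Mathlib.LinearAlgebra.StdBasis
import Mathlib.LinearAlgebra.Dimension.Constructions

/-!
# S4504, file 4 (part C): the `sl₂`-triple on `V = ⨁_{j<m} X^j D` and the main theorem (J)
-/

set_option autoImplicit false

namespace Cfsg.Agent.D1M

open Polynomial

section sl2

variable {k : Type*} [Field k] {V : Type*} [AddCommGroup V] [Module k V]

/-- `H` and `Y` on `V = ⨁_{j ≤ m'} X^j D`, characterised on the vectors `X^j d`, `d ∈ D` (all `j`). -/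
theorem d1m_jord_HY_exists (X : V →ₗ[k] V) (m' : ℕ) (D : Submodule k V) (hXm : X ^ (m' + 1) = 0)
    (hbij : Function.Bijective (d1m_jord_mu X (m' + 1) D)) :
    ∃ H Y : V →ₗ[k] V,
      (∀ j : ℕ, ∀ d ∈ D, H ((X ^ j) d) = ((2 * j : k) - m') • (X ^ j) d) ∧
      (∀ j : ℕ, ∀ d ∈ D, Y ((X ^ j) d) = ((j : k) * ((m' + 1 : k) - j)) • (X ^ (j - 1)) d) := by
  classical
  set μe := LinearEquiv.ofBijective (d1m_jord_mu X (m' + 1) D) hbij with hμe
  have hμe_apply : ∀ w, μe w = d1m_jord_mu X (m' + 1) D w := fun w => rfl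
  have hX0 : ∀ j : ℕ, m' + 1 ≤ j → ∀ v : V, (X ^ j) v = 0 := by
    intro j hj v
    have : j = (m' + 1) + (j - (m' + 1)) := by omega
    rw [this, pow_add, hXm, zero_mul, LinearMap.zero_apply]
  -- coordinates of `X^j d`
  have hsymm : ∀ j : ℕ, ∀ hj : j < m' + 1, ∀ d : D,
      μe.symm ((X ^ j) (d : V)) = Pi.single (⟨j, hj⟩ : Fin (m' + 1)) d := by
    intro j hj d
    rw [LinearEquiv.symm_apply_eq, hμe_apply, d1m_jord_mu_single]
  set Hc : (Fin (m' + 1) → D) →ₗ[k] (Fin (m' + 1) → D) :=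
    LinearMap.pi (fun j => ((2 * ((j : ℕ) : k)) - m') • LinearMap.proj j) with hHc
  set Yc : (Fin (m' + 1) → D) →ₗ[k] (Fin (m' + 1) → D) :=
    LinearMap.pi (fun j => if h : (j : ℕ) + 1 < m' + 1 then
      ((((j : ℕ) + 1 : ℕ) : k) * ((m' + 1 : k) - (((j : ℕ) + 1 : ℕ) : k))) •
        LinearMap.proj (⟨(j : ℕ) + 1, h⟩ : Fin (m' + 1)) else 0) with hYc
  refine ⟨μe.toLinearMap ∘ₗ Hc ∘ₗ μe.symm.toLinearMap, μe.toLinearMap ∘ₗ Yc ∘ₗ μe.symm.toLinearMap,
    ?_, ?_⟩
  · intro j d hd
    rcases Nat.lt_or_ge j (m' + 1) with hj | hj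
    · rw [LinearMap.comp_apply, LinearMap.comp_apply, LinearEquiv.coe_coe, LinearEquiv.coe_coe,
        hsymm j hj ⟨d, hd⟩]
      have : Hc (Pi.single (⟨j, hj⟩ : Fin (m' + 1)) (⟨d, hd⟩ : D))
          = ((2 * (j : k)) - m') • Pi.single (⟨j, hj⟩ : Fin (m' + 1)) (⟨d, hd⟩ : D) := by
        funext i
        rw [hHc, LinearMap.pi_apply, LinearMap.smul_apply, LinearMap.proj_apply, Pi.smul_apply]
        by_cases hij : i = ⟨j, hj⟩
        · subst hij; rfl
        · rw [Pi.single_eq_of_ne hij, smul_zero, smul_zero]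
      rw [this, map_smul, hμe_apply, d1m_jord_mu_single]
    · rw [hX0 j hj, map_zero, smul_zero]
  · intro j d hd
    rcases Nat.lt_or_ge j (m' + 1) with hj | hj
    · rw [LinearMap.comp_apply, LinearMap.comp_apply, LinearEquiv.coe_coe, LinearEquiv.coe_coe,
        hsymm j hj ⟨d, hd⟩]
      rcases Nat.eq_zero_or_pos j with hj0 | hj0
      · subst hj0
        have : Yc (Pi.single (⟨0, hj⟩ : Fin (m' + 1)) (⟨d, hd⟩ : D)) = 0 := by
          funext i
          rw [hYc, LinearMap.pi_apply]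
          by_cases h : (i : ℕ) + 1 < m' + 1
          · rw [dif_pos h, LinearMap.smul_apply, LinearMap.proj_apply, Pi.single_eq_of_ne, smul_zero]
            · rfl
            · intro h2
              have := congrArg Fin.val h2
              simp at this
          · rw [dif_neg h]; rfl
        rw [this, map_zero]
        simp
      · have hj1 : j - 1 < m' + 1 := by omega
        have : Yc (Pi.single (⟨j, hj⟩ : Fin (m' + 1)) (⟨d, hd⟩ : D))
            = ((j : k) * ((m' + 1 : k) - j)) • Pi.single (⟨j - 1, hj1⟩ : Fin (m' + 1)) (⟨d, hd⟩ : D) := by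
          funext i
          rw [hYc, LinearMap.pi_apply, Pi.smul_apply]
          by_cases hi : (i : ℕ) = j - 1
          · have h : (i : ℕ) + 1 < m' + 1 := by omega
            have hi2 : i = ⟨j - 1, hj1⟩ := Fin.ext hi
            have hi3 : (⟨(i : ℕ) + 1, h⟩ : Fin (m' + 1)) = ⟨j, hj⟩ := by
              apply Fin.ext; simp only; omega
            rw [dif_pos h, LinearMap.smul_apply, LinearMap.proj_apply, hi3, Pi.single_eq_same,
              hi2, Pi.single_eq_same]
            have : (j - 1 : ℕ) + 1 = j := by omega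
            simp only [this]
          · have hi2 : i ≠ ⟨j - 1, hj1⟩ := fun h => hi (congrArg Fin.val h)
            rw [Pi.single_eq_of_ne hi2, smul_zero]
            by_cases h : (i : ℕ) + 1 < m' + 1
            · rw [dif_pos h, LinearMap.smul_apply, LinearMap.proj_apply, Pi.single_eq_of_ne, smul_zero]
              intro h2
              have := congrArg Fin.val h2
              simp only at this
              omega
            · rw [dif_neg h]; rfl
        rw [this, map_smul, hμe_apply, d1m_jord_mu_single]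
    · rw [hX0 j hj, map_zero]
      rcases Nat.eq_or_lt_of_le hj with hj2 | hj2
      · rw [← hj2]
        have : ((m' + 1 : ℕ) : k) * ((m' + 1 : k) - ((m' + 1 : ℕ) : k)) = 0 := by
          push_cast; ring
        rw [this, zero_smul]
      · rw [hX0 (j - 1) (by omega), smul_zero]

/-- extensionality on the vectors `X^j d` -/
theorem d1m_jord_ext (X : V →ₗ[k] V) (m : ℕ) (D : Submodule k V)
    (hsurj : Function.Surjective (d1m_jord_mu X m D)) (A B : V →ₗ[k] V)
    (h : ∀ j : ℕ, ∀ d ∈ D, A ((X ^ j) d) = B ((X ^ j) d)) : A = B := by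
  apply LinearMap.ext
  intro v
  obtain ⟨w, rfl⟩ := hsurj v
  rw [d1m_jord_mu_apply, map_sum, map_sum]
  exact Finset.sum_congr rfl (fun j _ => h _ _ (w j).2)

/-- the `sl₂` relations -/
theorem d1m_jord_relations (X : V →ₗ[k] V) (m' : ℕ) (D : Submodule k V)
    (hsurj : Function.Surjective (d1m_jord_mu X (m' + 1) D)) (H Y : V →ₗ[k] V)
    (hH : ∀ j : ℕ, ∀ d ∈ D, H ((X ^ j) d) = ((2 * j : k) - m') • (X ^ j) d)
    (hY : ∀ j : ℕ, ∀ d ∈ D, Y ((X ^ j) d) = ((j : k) * ((m' + 1 : k) - j)) • (X ^ (j - 1)) d) :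
    H * X - X * H = 2 • X ∧ H * Y - Y * H = -(2 • Y) ∧ X * Y - Y * X = H := by
  have hXX : ∀ j : ℕ, ∀ v : V, X ((X ^ j) v) = (X ^ (j + 1)) v := fun j v => by
    rw [pow_succ', Module.End.mul_apply]
  refine ⟨?_, ?_, ?_⟩
  · apply d1m_jord_ext X (m' + 1) D hsurj
    intro j d hd
    rw [LinearMap.sub_apply, Module.End.mul_apply, Module.End.mul_apply, hH j d hd, map_smul,
      hXX, hH (j + 1) d hd, LinearMap.smul_apply, hXX, ← sub_smul]
    rw [← Nat.cast_smul_eq_nsmul k]
    congr 1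
    push_cast; ring
  · apply d1m_jord_ext X (m' + 1) D hsurj
    intro j d hd
    rw [LinearMap.sub_apply, Module.End.mul_apply, Module.End.mul_apply, hH j d hd, map_smul,
      hY j d hd, map_smul, hH (j - 1) d hd, smul_smul, smul_smul, ← sub_smul,
      LinearMap.neg_apply, LinearMap.smul_apply, hY j d hd, ← Nat.cast_smul_eq_nsmul k, smul_smul,
      ← neg_smul]
    rcases Nat.eq_zero_or_pos j with hj | hj
    · subst hj; simp
    · congr 1
      have : ((j - 1 : ℕ) : k) = (j : k) - 1 := by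
        rw [Nat.cast_sub hj, Nat.cast_one]
      rw [this]; push_cast; ring
  · apply d1m_jord_ext X (m' + 1) D hsurj
    intro j d hd
    rw [LinearMap.sub_apply, Module.End.mul_apply, Module.End.mul_apply, hY j d hd, map_smul,
      hXX, hXX, hY (j + 1) d hd, hH j d hd, Nat.add_sub_cancel]
    rcases Nat.eq_zero_or_pos j with hj | hj
    · subst hj
      rw [Nat.cast_zero, zero_mul, zero_smul, zero_sub, ← neg_smul]
      congr 1
      push_cast; ring
    · have : j - 1 + 1 = j := by omega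
      rw [this, ← sub_smul]
      congr 1
      push_cast; ring

/-- the weights of `E` on `H` and `Y` -/
theorem d1m_jord_weights (X : V →ₗ[k] V) (m' : ℕ) (D : Submodule k V)
    (hsurj : Function.Surjective (d1m_jord_mu X (m' + 1) D)) (H Y : V →ₗ[k] V)
    (hH : ∀ j : ℕ, ∀ d ∈ D, H ((X ^ j) d) = ((2 * j : k) - m') • (X ^ j) d)
    (hY : ∀ j : ℕ, ∀ d ∈ D, Y ((X ^ j) d) = ((j : k) * ((m' + 1 : k) - j)) • (X ^ (j - 1)) d)
    {E : Type*} [Group E] (σ : Representation k E V) (α : E → k)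
    (hσX : ∀ e, σ e * X = α e • (X * σ e)) (hD : ∀ e, ∀ w ∈ D, σ e w ∈ D) (e : E) :
    σ e * H = H * σ e ∧ α e • (σ e * Y) = Y * σ e := by
  have hpow : ∀ j : ℕ, ∀ v : V, σ e ((X ^ j) v) = (α e) ^ j • (X ^ j) (σ e v) := by
    intro j v
    have := congrArg (fun f => f v) (d1m_jord_sigma_pow σ X α hσX e j)
    simpa only [Module.End.mul_apply, LinearMap.smul_apply] using this
  constructor
  · apply d1m_jord_ext X (m' + 1) D hsurj
    intro j d hd
    rw [Module.End.mul_apply, Module.End.mul_apply, hH j d hd, map_smul, hpow, map_smul,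
      hH j _ (hD e d hd), smul_comm]
  · apply d1m_jord_ext X (m' + 1) D hsurj
    intro j d hd
    rw [LinearMap.smul_apply, Module.End.mul_apply, Module.End.mul_apply, hY j d hd, map_smul,
      hpow, hpow, map_smul, hY j _ (hD e d hd), smul_smul, smul_smul, smul_smul]
    rcases Nat.eq_zero_or_pos j with hj | hj
    · subst hj; simp
    · congr 1
      have : j = (j - 1) + 1 := by omega
      rw [this, pow_succ, Nat.add_sub_cancel]
      ring

/-- the sum `6 ∑_{j<n} (j+1)(M-(j+1)) = n(n+1)(3M-2n-1)` -/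
theorem d1m_jord_sum_formula {R : Type*} [CommRing R] (M : R) (n : ℕ) :
    (6 : R) * ∑ j ∈ Finset.range n, ((j + 1 : ℕ) : R) * (M - ((j + 1 : ℕ) : R))
      = (n : R) * ((n : R) + 1) * (3 * M - 2 * (n : R) - 1) := by
  induction n with
  | zero => simp
  | succ n ih =>
    rw [Finset.sum_range_succ, mul_add, ih]
    push_cast
    ring

/-- the trace of `Y X` -/
theorem d1m_jord_trace [FiniteDimensional k V] (X : V →ₗ[k] V) (m' : ℕ) (D : Submodule k V)
    (hbij : Function.Bijective (d1m_jord_mu X (m' + 1) D)) (Y : V →ₗ[k] V)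
    (hY : ∀ j : ℕ, ∀ d ∈ D, Y ((X ^ j) d) = ((j : k) * ((m' + 1 : k) - j)) • (X ^ (j - 1)) d) :
    (6 : k) * LinearMap.trace k V (Y * X)
      = (Module.finrank k D : k) * ((m' : k) + 1) * ((m' : k) + 2) * (m' : k) := by
  classical
  set μe := LinearEquiv.ofBijective (d1m_jord_mu X (m' + 1) D) hbij with hμe
  set bD := Module.finBasis k D with hbD
  set b := (Pi.basis (fun _ : Fin (m' + 1) => bD)).map μe with hb
  have hbapp : ∀ j : Fin (m' + 1), ∀ s, b ⟨j, s⟩ = (X ^ (j : ℕ)) ((bD s : D) : V) := by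
    intro j s
    rw [hb, Module.Basis.map_apply, Pi.basis_apply]
    exact d1m_jord_mu_single X (m' + 1) D j (bD s)
  have hYX : ∀ i, (Y * X) (b i)
      = ((((i.1 : ℕ) + 1 : ℕ) : k) * ((m' + 1 : k) - (((i.1 : ℕ) + 1 : ℕ) : k))) • b i := by
    rintro ⟨j, s⟩
    rw [hbapp, Module.End.mul_apply, ← Module.End.mul_apply X, ← pow_succ',
      hY _ _ (bD s).2, Nat.add_sub_cancel]
  rw [LinearMap.trace_eq_matrix_trace k b, Matrix.trace]
  have hdiag : ∀ i, Matrix.diag ((LinearMap.toMatrix b b) (Y * X)) i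
      = (((i.1 : ℕ) + 1 : ℕ) : k) * ((m' + 1 : k) - (((i.1 : ℕ) + 1 : ℕ) : k)) := by
    intro i
    rw [Matrix.diag_apply, LinearMap.toMatrix_apply, hYX i, map_smul, Module.Basis.repr_self,
      Finsupp.smul_apply, Finsupp.single_eq_same, smul_eq_mul, mul_one]
  rw [Finset.sum_congr rfl (fun i _ => hdiag i), ← Finset.univ_sigma_univ, Finset.sum_sigma]
  simp only [Finset.sum_const, Finset.card_univ, Fintype.card_fin, nsmul_eq_mul]
  rw [← Finset.mul_sum, Fin.sum_univ_eq_sum_range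
    (fun j => ((j + 1 : ℕ) : k) * ((m' + 1 : k) - ((j + 1 : ℕ) : k))) (m' + 1)]
  have := d1m_jord_sum_formula ((m' : k) + 1) (m' + 1)
  rw [mul_left_comm, this]
  push_cast
  ring

end sl2

/-- **(J), main theorem of file 4.**  `V` a finite-dimensional space over a field of characteristic `p`
with `2 dim V + 1 ≤ p`, `x` an automorphism of order `p`, normalised by a finite `p'`-group `E`
(`σ e * x = x ^ n e * σ e`), such that `V` is indecomposable for `⟨x⟩ ⋊ E` (every idempotent commuting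
with `x` and `σ E` is `0` or `1`).  Then `x = F(X)`, `F = 1 + z + …`, for a nilpotent `X` which is part of
an `sl₂`-triple `(X, H, Y)` with `E`-weights `(n e, 1, (n e)⁻¹)` and `tr (Y X) ≠ 0`. -/
theorem d1m_jord_main {k : Type*} [Field k] {V : Type*} [AddCommGroup V] [Module k V]
    [FiniteDimensional k V] (p : ℕ) [Fact p.Prime] [CharP k p]
    (x : V →ₗ[k] V) (hxp : x ^ p = 1) (hx1 : x ≠ 1) (hdim : 2 * Module.finrank k V + 1 ≤ p)
    {E : Type*} [Group E] [Finite E] (hE : ¬ p ∣ Nat.card E) (σ : Representation k E V)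
    (n : E → ℕ) (hn : ∀ e, σ e * x = x ^ n e * σ e)
    (hind : ∀ π : V →ₗ[k] V, IsIdempotentElem π → Commute π x → (∀ e, Commute π (σ e)) →
      π = 0 ∨ π = 1) :
    ∃ (X H Y : V →ₗ[k] V) (F : Polynomial k), F.coeff 0 = 1 ∧ F.coeff 1 = 1 ∧
      x = Polynomial.aeval X F ∧ X ^ Module.finrank k V = 0 ∧
      H * X - X * H = 2 • X ∧ H * Y - Y * H = -(2 • Y) ∧ X * Y - Y * X = H ∧
      (∀ e, σ e * X = (n e : k) • (X * σ e)) ∧ (∀ e, σ e * H = H * σ e) ∧
      (∀ e, (n e : k) • (σ e * Y) = Y * σ e) ∧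
      LinearMap.trace k V (Y * X) ≠ 0 := by
  classical
  have : Fintype E := Fintype.ofFinite E
  have hE' : ¬ p ∣ Fintype.card E := by rwa [← Nat.card_eq_fintype_card]
  have hcard : (Fintype.card E : k) ≠ 0 := by
    intro h; exact hE' ((CharP.cast_eq_zero_iff k p _).mp h)
  obtain ⟨X, F, hF0, hF1, hxF, hXp, hX0, hσX⟩ :=
    d1m_jord_XF_exists (k := k) (A := V →ₗ[k] V) p x hxp hx1 σ n hn hE'
  have hα := d1m_jord_alpha_ne_zero (k := k) (A := V →ₗ[k] V) p x hxp hx1 σ n hn
  have hαm := d1m_jord_alpha_mul (k := k) (A := V →ₗ[k] V) p x hxp hx1 σ n hn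
  have hind' : ∀ π : V →ₗ[k] V, IsIdempotentElem π → π * X = X * π →
      (∀ e, σ e * π = π * σ e) → π = 0 ∨ π = 1 := by
    intro π hπ hπX hπσ
    refine hind π hπ ?_ (fun e => (hπσ e).symm)
    rw [hxF, Polynomial.aeval_eq_sum_range]
    refine Commute.sum_right _ _ _ (fun i _ => ?_)
    exact (Commute.pow_right hπX i).smul_right _
  obtain ⟨m', D, hm'1, hXm, hXm', hD, hD0, hbij⟩ :=
    d1m_jord_decomp X ⟨p, hXp⟩ hX0 hcard σ (fun e => (n e : k)) hα hαm hσX hind'
  obtain ⟨H, Y, hH, hY⟩ := d1m_jord_HY_exists X m' D hXm hbij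
  obtain ⟨hr1, hr2, hr3⟩ := d1m_jord_relations X m' D hbij.2 H Y hH hY
  have hw := d1m_jord_weights X m' D hbij.2 H Y hH hY σ (fun e => (n e : k)) hσX hD
  have htr := d1m_jord_trace X m' D hbij Y hY
  -- dimensions
  have hfr : Module.finrank k V = (m' + 1) * Module.finrank k D := by
    rw [← LinearEquiv.finrank_eq (LinearEquiv.ofBijective (d1m_jord_mu X (m' + 1) D) hbij),
      Module.finrank_pi_fintype]
    simp
  have hr0 : 0 < Module.finrank k D := by
    rcases Nat.eq_zero_or_pos (Module.finrank k D) with h | h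
    · exact absurd (Submodule.finrank_eq_zero.mp h) hD0
    · exact h
  have hcast : ∀ a : ℕ, 0 < a → a < p → (a : k) ≠ 0 := by
    intro a ha0 hap h
    have := (CharP.cast_eq_zero_iff k p a).mp h
    exact absurd (Nat.le_of_dvd ha0 this) (by omega)
  set r := Module.finrank k D with hr
  have hmr : m' + 1 ≤ (m' + 1) * r := Nat.le_mul_of_pos_right _ hr0
  have hrr : r ≤ (m' + 1) * r := Nat.le_mul_of_pos_left _ (by omega)
  refine ⟨X, H, Y, F, hF0, hF1, hxF, ?_, hr1, hr2, hr3, hσX, fun e => (hw e).1, fun e => (hw e).2, ?_⟩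
  · have : Module.finrank k V = (m' + 1) + (Module.finrank k V - (m' + 1)) := by omega
    rw [this, pow_add, hXm, zero_mul]
  · intro h0
    rw [h0, mul_zero] at htr
    have h1 : (r : k) ≠ 0 := hcast r hr0 (by omega)
    have h2 : ((m' : k) + 1) ≠ 0 := by
      have := hcast (m' + 1) (by omega) (by omega)
      rwa [Nat.cast_add, Nat.cast_one] at this
    have h3 : ((m' : k) + 2) ≠ 0 := by
      have := hcast (m' + 2) (by omega) (by omega)
      rwa [Nat.cast_add, Nat.cast_ofNat] at this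
    have h4 : (m' : k) ≠ 0 := hcast m' (by omega) (by omega)
    exact (mul_ne_zero (mul_ne_zero (mul_ne_zero h1 h2) h3) h4) htr.symm

end Cfsg.Agent.D1M
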