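import Cfsg.Agent.D1M.JordC
import Mathlib.GroupTheory.SchurZassenhaus

/-!
# S4504, file 4 (part G): glue — `d1m_jord_main` for a representation of a group `G`

`x : G` of order `p`, `p² ∤ |G|`, `N = N_G(⟨x⟩)`.  Schur–Zassenhaus gives a complement `E0` of `⟨x⟩` in `N`;
the hypotheses of `d1m_jord_main` hold for `σ := ρ` restricted to `E0` as soon as `ρ` is `N`-indecomposable.
-/

set_option autoImplicit false

namespace Cfsg.Agent.D1M

/-- a complement of `⟨x⟩` in its normalizer -/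
theorem d1m_jordg_complement {G : Type*} [Group G] [Finite G] (p : ℕ) [Fact p.Prime] (x : G)
    (hx : orderOf x = p) (hsq : ¬ p ^ 2 ∣ Nat.card G) :
    ∃ E0 : Subgroup G, E0 ≤ Subgroup.normalizer ((Subgroup.zpowers x : Subgroup G) : Set G) ∧
      ¬ p ∣ Nat.card E0 ∧
      (∀ c ∈ Subgroup.normalizer ((Subgroup.zpowers x : Subgroup G) : Set G),
        ∃ i : ℕ, ∃ e ∈ E0, c = x ^ i * e) := by
  have hp : p.Prime := Fact.out
  set N := Subgroup.normalizer ((Subgroup.zpowers x : Subgroup G) : Set G) with hN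
  have hPN : Subgroup.zpowers x ≤ N := Subgroup.le_normalizer
  set P' : Subgroup ↥N := (Subgroup.zpowers x).subgroupOf N with hP'
  have : P'.Normal := Subgroup.normal_in_normalizer
  have hcardP' : Nat.card P' = p := by
    rw [hP', Nat.card_congr (Subgroup.subgroupOfEquivOfLe hPN).toEquiv, Nat.card_zpowers, hx]
  have hNdvd : Nat.card ↥N ∣ Nat.card G := Subgroup.card_subgroup_dvd_card N
  have hsqN : ¬ p ^ 2 ∣ Nat.card ↥N := fun h => hsq (h.trans hNdvd)
  have hidx : ¬ p ∣ P'.index := by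
    intro h
    apply hsqN
    rw [← Subgroup.card_mul_index P', hcardP', pow_two]
    exact Nat.mul_dvd_mul_left p h
  have hcop : (Nat.card P').Coprime P'.index := by
    rw [hcardP']; exact (Nat.Prime.coprime_iff_not_dvd hp).mpr hidx
  obtain ⟨H, hH⟩ := Subgroup.exists_right_complement'_of_coprime hcop
  have hcardH : Nat.card H = P'.index := by
    have h1 := hH.card_mul_card
    have h2 := Subgroup.card_mul_index P'
    have hpos : 0 < Nat.card P' := Nat.card_pos
    exact Nat.eq_of_mul_eq_mul_left hpos (h1.trans h2.symm)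
  refine ⟨H.map N.subtype, ?_, ?_, ?_⟩
  · intro g hg
    obtain ⟨n, _, rfl⟩ := Subgroup.mem_map.mp hg
    exact n.2
  · rw [Nat.card_congr (H.equivMapOfInjective N.subtype N.subtype_injective).symm.toEquiv, hcardH]
    exact hidx
  · intro c hc
    have hsurj := (Subgroup.isComplement'_def.mp hH).2 ⟨c, hc⟩
    obtain ⟨⟨a, b⟩, hab⟩ := hsurj
    have ha : (a.1 : G) ∈ Subgroup.zpowers x := by
      have h1 : a.1 ∈ (Subgroup.zpowers x).subgroupOf N := a.2
      exact Subgroup.mem_subgroupOf.mp h1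
    rw [← mem_powers_iff_mem_zpowers, Submonoid.mem_powers_iff] at ha
    obtain ⟨i, hi⟩ := ha
    refine ⟨i, (b.1 : G), Subgroup.mem_map.mpr ⟨b.1, b.2, rfl⟩, ?_⟩
    have := congrArg (fun z : ↥N => (z : G)) hab
    simp only [Subgroup.coe_mul] at this
    rw [hi, this]

/-- **(J) for a representation of `G`**: if `ρ` is indecomposable on `N = N_G(⟨x⟩)`, there is a
complement `E0` of `⟨x⟩` in `N` such that the conclusion of `d1m_jord_main` holds for
`σ := ρ.comp E0.subtype` and the exponent function `n` (`e x e⁻¹ = x ^ n e`). -/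
theorem d1m_jordg_main {k : Type*} [Field k] {G : Type*} [Group G] [Finite G] (p : ℕ)
    [Fact p.Prime] [CharP k p] {V : Type*} [AddCommGroup V] [Module k V] [FiniteDimensional k V]
    (ρ : Representation k G V) (x : G) (hx : orderOf x = p) (hsq : ¬ p ^ 2 ∣ Nat.card G)
    (hx1 : ρ x ≠ 1) (hdim : 2 * Module.finrank k V + 1 ≤ p)
    (hind : ∀ π : V →ₗ[k] V, IsIdempotentElem π →
      (∀ h ∈ Subgroup.normalizer ((Subgroup.zpowers x : Subgroup G) : Set G),
        π ∘ₗ ρ h = ρ h ∘ₗ π) → π = 0 ∨ π = 1) :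
    ∃ (E0 : Subgroup G) (n : E0 → ℕ),
      E0 ≤ Subgroup.normalizer ((Subgroup.zpowers x : Subgroup G) : Set G) ∧
      ¬ p ∣ Nat.card E0 ∧
      (∀ c ∈ Subgroup.normalizer ((Subgroup.zpowers x : Subgroup G) : Set G),
        ∃ i : ℕ, ∃ e ∈ E0, c = x ^ i * e) ∧
      (∀ e : E0, (e : G) * x * (e : G)⁻¹ = x ^ n e) ∧
      (∀ e : E0, (ρ.comp E0.subtype) e * ρ x = ρ x ^ n e * (ρ.comp E0.subtype) e) ∧
      ∃ (X H Y : V →ₗ[k] V) (F : Polynomial k), F.coeff 0 = 1 ∧ F.coeff 1 = 1 ∧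
        ρ x = Polynomial.aeval X F ∧ X ^ Module.finrank k V = 0 ∧
        H * X - X * H = 2 • X ∧ H * Y - Y * H = -(2 • Y) ∧ X * Y - Y * X = H ∧
        (∀ e : E0, (ρ.comp E0.subtype) e * X = (n e : k) • (X * (ρ.comp E0.subtype) e)) ∧
        (∀ e : E0, (ρ.comp E0.subtype) e * H = H * (ρ.comp E0.subtype) e) ∧
        (∀ e : E0, (n e : k) • ((ρ.comp E0.subtype) e * Y) = Y * (ρ.comp E0.subtype) e) ∧
        LinearMap.trace k V (Y * X) ≠ 0 := by
  classical
  obtain ⟨E0, hE0N, hE0p, hNdec⟩ := d1m_jordg_complement p x hx hsq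
  -- the exponents
  have hex : ∀ e : E0, ∃ j : ℕ, (e : G) * x * (e : G)⁻¹ = x ^ j := by
    intro e
    have h1 : (e : G) * x * (e : G)⁻¹ ∈ Subgroup.zpowers x :=
      (Subgroup.mem_normalizer_iff.mp (hE0N e.2) x).mp (Subgroup.mem_zpowers x)
    rw [← mem_powers_iff_mem_zpowers, Submonoid.mem_powers_iff] at h1
    obtain ⟨j, hj⟩ := h1
    exact ⟨j, hj.symm⟩
  choose n hn using hex
  have hxp : ρ x ^ p = 1 := by
    rw [← map_pow, ← hx, pow_orderOf_eq_one, map_one]
  have hn' : ∀ e : E0, (ρ.comp E0.subtype) e * ρ x = ρ x ^ n e * (ρ.comp E0.subtype) e := by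
    intro e
    show ρ (e : G) * ρ x = ρ x ^ n e * ρ (e : G)
    rw [← map_pow, ← map_mul, ← map_mul]
    congr 1
    rw [← hn e, inv_mul_cancel_right]
  have hind' : ∀ π : V →ₗ[k] V, IsIdempotentElem π → Commute π (ρ x) →
      (∀ e : E0, Commute π ((ρ.comp E0.subtype) e)) → π = 0 ∨ π = 1 := by
    intro π hπ hπx hπe
    refine hind π hπ ?_
    intro h hh
    obtain ⟨i, e, he, rfl⟩ := hNdec h hh
    have h1 : Commute π (ρ (x ^ i * e)) := by
      rw [map_mul, map_pow]
      exact (hπx.pow_right i).mul_right (hπe ⟨e, he⟩)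
    exact h1
  have hmain := d1m_jord_main p (ρ x) hxp hx1 hdim hE0p (ρ.comp E0.subtype) n hn' hind'
  exact ⟨E0, n, hE0N, hE0p, hNdec, hn, hn', hmain⟩

end Cfsg.Agent.D1M
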