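import Cfsg.Agent.D1.Green

/-!
# D1M / Lift : lifting idempotents from `End_{kN}(M)` to `End_{kG}(M)` in the TI situation

`notes/S4504_helper9.md`, section 4, (G1)-(G5).  `k` is a field of characteristic `p`, `P` a Sylow
`p`-subgroup of order `p` of the finite group `G`, `N = N_G(P)`, `ρ` a representation of `G` on `M`
such that `(ρ x - 1) ^ (p - 1) = 0` for `x ∈ P`.  `I := d1_IsPr ρ ρ N` is the ideal of `N`-projective
endomorphisms inside `End_N(M) := d1_IsHom ρ ρ N`.

* `d1m_lift_nilp`  (G2): every element of `I` is nilpotent of index `≤ p - 1`;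
* `d1m_lift_idem`  (G1)+(G3): every idempotent of `End_N(M)` is congruent mod `I` to an idempotent of
  `End_G(M)`;
* `d1m_lift_equiv` (G4): two idempotents of `End_N(M)` congruent mod `I` are conjugate under an
  `N`-automorphism of `M`;
* `d1m_lift_indec` (G5): if `End_G(M)` has only the idempotents `0, 1`, so has `End_N(M)`.
-/

set_option autoImplicit false

namespace Cfsg.Agent.D1M

open Cfsg.Agent.BP Cfsg.Agent.D1 Representation

universe u

set_option linter.unusedSectionVars false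

/-! ### ring-theoretic preliminaries -/

/-- lifting an "idempotent modulo nilpotents": if `a * a - a` is nilpotent there is an idempotent
`e' = a + r * (a * a - a)` with `e', r` in any subring containing `a`. -/
theorem d1m_lift_ring_idem {R : Type*} [Ring R] (a : R) (h : IsNilpotent (a * a - a))
    (S : Subring R) (haS : a ∈ S) :
    ∃ e' ∈ S, ∃ r ∈ S, IsIdempotentElem e' ∧ e' = a + r * (a * a - a) := by
  classical
  have hcomm : ∀ x ∈ ({a} : Set R), ∀ y ∈ ({a} : Set R), x * y = y * x := by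
    intro x hx y hy
    rw [Set.mem_singleton_iff] at hx hy
    rw [hx, hy]
  letI : CommRing (Subring.closure ({a} : Set R)) := Subring.closureCommRingOfComm hcomm
  have haC : a ∈ Subring.closure ({a} : Set R) := Subring.subset_closure (Set.mem_singleton a)
  have hCS : Subring.closure ({a} : Set R) ≤ S := by
    rw [Subring.closure_le]
    intro x hx
    rw [Set.mem_singleton_iff] at hx
    rw [hx]; exact haS
  set a₀ : Subring.closure ({a} : Set R) := ⟨a, haC⟩ with ha₀
  set I : Ideal (Subring.closure ({a} : Set R)) := Ideal.span {a₀ * a₀ - a₀} with hI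
  have hnil : IsNilpotent (a₀ * a₀ - a₀) := by
    obtain ⟨n, hn⟩ := h
    refine ⟨n, Subtype.ext ?_⟩
    simpa using hn
  have hker : ∀ x ∈ RingHom.ker (Ideal.Quotient.mk I), IsNilpotent x := by
    intro x hx
    rw [Ideal.mk_ker, hI, Ideal.mem_span_singleton'] at hx
    obtain ⟨c, rfl⟩ := hx
    exact (Commute.all c _).isNilpotent_mul_left hnil
  have hidem : IsIdempotentElem (Ideal.Quotient.mk I a₀) := by
    unfold IsIdempotentElem
    rw [← map_mul, Ideal.Quotient.eq]
    exact Ideal.subset_span (Set.mem_singleton _)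
  obtain ⟨e', he', hfe⟩ := exists_isIdempotentElem_eq_of_ker_isNilpotent (Ideal.Quotient.mk I) hker
    (Ideal.Quotient.mk I a₀) ⟨a₀, rfl⟩ hidem
  rw [Ideal.Quotient.eq, hI, Ideal.mem_span_singleton'] at hfe
  obtain ⟨r, hr⟩ := hfe
  refine ⟨(e' : R), hCS e'.2, (r : R), hCS r.2, ?_, ?_⟩
  · have := congrArg (Subtype.val) he'.eq
    simpa [IsIdempotentElem] using this
  · have h1 : e' = a₀ + r * (a₀ * a₀ - a₀) := by rw [hr]; ring
    have := congrArg (Subtype.val) h1
    simpa using this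

/-- `a = t * c`, `a` commuting with `t`, `t ^ n = 0` imply `a ^ n = 0`. -/
theorem d1m_lift_ring_nilp {R : Type*} [Ring R] {t c a : R} (h : a = t * c) (hc : Commute a t)
    (n : ℕ) (ht : t ^ n = 0) : a ^ n = 0 := by
  have key : ∀ m : ℕ, a ^ m = t ^ m * c ^ m := by
    intro m
    induction m with
    | zero => simp
    | succ m ih =>
      rw [pow_succ' a, ih, ← mul_assoc, (hc.pow_right m).eq, mul_assoc]
      conv_lhs => rw [h]
      rw [mul_assoc t c, ← pow_succ' c, ← mul_assoc, ← pow_succ]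
  rw [key n, ht, zero_mul]

/-- the geometric sum in characteristic `p`: `1 + X + ... + X^(p-1) = (X - 1)^(p-1)`. -/
theorem d1m_lift_geom {k : Type*} [Field k] (p : ℕ) [hp : Fact p.Prime] [CharP k p]
    {A : Type*} [Ring A] [Algebra k A] (X : A) :
    ∑ i ∈ Finset.range p, X ^ i = (X - 1) ^ (p - 1) := by
  open Polynomial in
  have hpoly : ∑ i ∈ Finset.range p, (Polynomial.X : k[X]) ^ i = (Polynomial.X - 1) ^ (p - 1) := by
    have h1 : (Polynomial.X - 1 : k[X]) * ∑ i ∈ Finset.range p, (Polynomial.X : k[X]) ^ i =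
        (Polynomial.X - 1) * (Polynomial.X - 1) ^ (p - 1) := by
      rw [mul_geom_sum, ← pow_succ', Nat.sub_add_cancel hp.out.one_le, sub_pow_char, one_pow]
    have hne : (Polynomial.X - 1 : k[X]) ≠ 0 := by
      have := Polynomial.X_sub_C_ne_zero (1 : k)
      simpa using this
    exact mul_left_cancel₀ hne h1
  have := congrArg (Polynomial.aeval X) hpoly
  simpa using this

/-! ### the setting -/

variable {k : Type*} [Field k] {G : Type u} [Group G] [Finite G]
  {M : Type*} [AddCommGroup M] [Module k M] {ρ : Representation k G M}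

/-- a subgroup of prime order `p` is generated by an element `x` of order `p`, and its elements are
`x^0, …, x^(p-1)`. -/
theorem d1m_lift_gen [DecidableEq G] (p : ℕ) [hp : Fact p.Prime] {P : Subgroup G}
    (hP : Nat.card P = p) :
    ∃ x ∈ P, orderOf x = p ∧
      d1_elems P = (Finset.range p).image (fun i : ℕ => x ^ i) := by
  haveI : Nontrivial P := by
    rw [← Finite.one_lt_card_iff_nontrivial, hP]
    exact hp.out.one_lt
  obtain ⟨g, hg⟩ := exists_ne (1 : P)
  have hord : orderOf g = p := by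
    have hdvd : orderOf g ∣ p := hP ▸ orderOf_dvd_natCard g
    rcases (Nat.dvd_prime hp.out).1 hdvd with h | h
    · exact absurd (orderOf_eq_one_iff.1 h) hg
    · exact h
  obtain ⟨x, hx⟩ : ∃ x : G, x = (g : G) := ⟨_, rfl⟩
  have hxP : x ∈ P := hx ▸ g.2
  have hordG : orderOf x = p := by rw [hx, Subgroup.orderOf_coe]; exact hord
  have hzp : Subgroup.zpowers x = P := by
    apply Subgroup.eq_of_le_of_card_ge
    · rw [Subgroup.zpowers_le]; exact hxP
    · rw [Nat.card_zpowers, hordG, hP]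
  refine ⟨x, hxP, hordG, ?_⟩
  ext y
  have h1 : y ∈ Subgroup.zpowers x ↔ y ∈ (Finset.range (orderOf x)).image (x ^ ·) :=
    mem_zpowers_iff_mem_range_orderOf
  rw [hordG, hzp] at h1
  rw [d1_mem_elems]
  exact h1

/-- (G2) **`N`-projective endomorphisms are nilpotent** when `(x - 1)^(p-1)` kills `M`. -/
theorem d1m_lift_nilp (p : ℕ) [hp : Fact p.Prime] [CharP k p] {P N : Subgroup G}
    (hP : Nat.card P = p) (hPN : P ≤ N) (ht : ∀ x ∈ P, (ρ x - 1) ^ (p - 1) = 0)
    {a : M →ₗ[k] M} (ha : d1_IsPr ρ ρ N a) : a ^ (p - 1) = 0 := by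
  classical
  have haP : d1_IsPr ρ ρ P a := ha.mono hPN
  have hhom : d1_IsHom ρ ρ P a := haP.isHom
  obtain ⟨φ, hφ⟩ := haP
  obtain ⟨x, hxP, hxord, helems⟩ := d1m_lift_gen p hP
  -- `a = ∑ X^i φ Y^i`
  have hinj : Set.InjOn (fun i : ℕ => x ^ i) (Finset.range p : Set ℕ) := by
    intro i hi j hj hij
    have hi' : i < orderOf x := by rw [hxord]; exact Finset.mem_range.1 hi
    have hj' : j < orderOf x := by rw [hxord]; exact Finset.mem_range.1 hj
    exact pow_injOn_Iio_orderOf hi' hj' hij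
  have hsum : a = ∑ i ∈ Finset.range p, ((ρ x) ^ i * φ * (ρ x⁻¹) ^ i : Module.End k M) := by
    rw [hφ]
    unfold d1_tr1 d1_trT
    rw [helems, Finset.sum_image hinj]
    refine Finset.sum_congr rfl (fun i _ => ?_)
    rw [linHom_apply, ← inv_pow, map_pow, map_pow]
    rfl
  -- split `X^i = 1 + (X - 1) * g_i`
  have hXi : ∀ i : ℕ, (ρ x) ^ i = 1 + (ρ x - 1) * ∑ j ∈ Finset.range i, (ρ x) ^ j := by
    intro i
    rw [mul_geom_sum]; abel
  have hY : ∑ i ∈ Finset.range p, (ρ x⁻¹) ^ i = 0 := by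
    rw [d1m_lift_geom (k := k) p (ρ x⁻¹)]
    exact ht x⁻¹ (P.inv_mem hxP)
  have hfac : a = (ρ x - 1) *
      ∑ i ∈ Finset.range p, (∑ j ∈ Finset.range i, (ρ x) ^ j) * φ * (ρ x⁻¹) ^ i := by
    rw [hsum, Finset.mul_sum]
    have h1 : ∀ i ∈ Finset.range p, (ρ x) ^ i * φ * (ρ x⁻¹) ^ i =
        φ * (ρ x⁻¹) ^ i + (ρ x - 1) * ((∑ j ∈ Finset.range i, (ρ x) ^ j) * φ * (ρ x⁻¹) ^ i) := by
      intro i _
      conv_lhs => rw [hXi i]
      rw [add_mul, add_mul, one_mul, mul_assoc (ρ x - 1), mul_assoc (ρ x - 1)]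
    rw [Finset.sum_congr rfl h1, Finset.sum_add_distrib, ← Finset.mul_sum, hY, mul_zero, zero_add]
  have hcomm : Commute a (ρ x - 1) := by
    have h1 : a ∘ₗ ρ x = ρ x ∘ₗ a := d1_isHom_iff.1 hhom x hxP
    have h2 : a * ρ x = ρ x * a := h1
    unfold Commute SemiconjBy
    rw [mul_sub, sub_mul, h2, mul_one, one_mul]
  exact d1m_lift_ring_nilp hfac hcomm (p - 1) (ht x hxP)

/-- the subring of `G`-endomorphisms inside `End_k(M)`. -/
def d1m_lift_endSubring (ρ : Representation k G M) (H : Subgroup G) : Subring (Module.End k M) where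
  carrier := {f | d1_IsHom ρ ρ H f}
  mul_mem' := fun {a b} ha hb => d1_IsHom.comp (ρ := ρ) (σ := ρ) (θ := ρ) hb ha
  one_mem' := d1_isHom_id H
  add_mem' := fun {a b} ha hb => d1_IsHom.add ha hb
  zero_mem' := d1_isHom_zero H
  neg_mem' := fun {a} ha => by
    have := d1_IsHom.smul (-1 : k) ha
    simpa using this

theorem d1m_lift_mem_endSubring {H : Subgroup G} {f : Module.End k M} :
    f ∈ d1m_lift_endSubring ρ H ↔ d1_IsHom ρ ρ H f := Iff.rfl

/-- (G1)+(G3) **lifting idempotents**: every idempotent `N`-endomorphism is congruent modulo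
`N`-projective maps to an idempotent `G`-endomorphism. -/
theorem d1m_lift_idem (p : ℕ) [hp : Fact p.Prime] [CharP k p] (P : Sylow p G)
    (hP : Nat.card P = p) (ht : ∀ x ∈ (P : Subgroup G), (ρ x - 1) ^ (p - 1) = 0)
    {e : M →ₗ[k] M}
    (he : d1_IsHom ρ ρ (Subgroup.normalizer ((P : Subgroup G) : Set G)) e)
    (hee : IsIdempotentElem e) :
    ∃ e' : M →ₗ[k] M, IsIdempotentElem e' ∧ d1_IsHom ρ ρ ⊤ e' ∧
      d1_IsPr ρ ρ (Subgroup.normalizer ((P : Subgroup G) : Set G)) (e' - e) := by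
  classical
  set N := Subgroup.normalizer ((P : Subgroup G) : Set G) with hN
  have hPN : (P : Subgroup G) ≤ N := Subgroup.le_normalizer
  have hT : bp_IsLT (bp_transv N ⊤) N ⊤ := bp_transv_isLT le_top
  set a : M →ₗ[k] M := d1_trT (linHom ρ ρ) (bp_transv N ⊤) e with ha
  have haG : d1_IsHom ρ ρ ⊤ a := d1_trT_isFix hT he
  have haN : d1_IsHom ρ ρ N a := haG.mono le_top
  have hi : d1_IsPr ρ ρ N (a - e) :=
    d1_ti_mackey (fun g hg => d1_ti_normalizer_cast p P hP g hg) he hT
  -- `a * a - a ∈ I`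
  have hsq : a * a - a = a * (a - e) + (a - e) * e - (a - e) := by
    have : e * e = e := hee.eq
    rw [mul_sub, sub_mul, this]; abel
  have hsqI : d1_IsPr ρ ρ N (a * a - a) := by
    rw [hsq]
    exact ((hi.comp_left haN).add (hi.comp_right he)).sub hi
  have hnil : IsNilpotent (a * a - a) := ⟨p - 1, d1m_lift_nilp p hP hPN ht hsqI⟩
  obtain ⟨e', he'S, r, hrS, hidem, hEq⟩ :=
    d1m_lift_ring_idem a hnil (d1m_lift_endSubring ρ ⊤) haG
  refine ⟨e', hidem, he'S, ?_⟩
  have hrN : d1_IsHom ρ ρ N r := (d1m_lift_mem_endSubring.1 hrS).mono le_top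
  have : e' - e = (a - e) + r * (a * a - a) := by rw [hEq]; abel
  rw [this]
  exact hi.add (hsqI.comp_left hrN)

/-- (G4) **two idempotents of `End_N(M)` congruent modulo `N`-projective maps are conjugate** by an
`N`-automorphism of `M`. -/
theorem d1m_lift_equiv (p : ℕ) [hp : Fact p.Prime] [CharP k p] {P N : Subgroup G}
    (hP : Nat.card P = p) (hPN : P ≤ N) (ht : ∀ x ∈ P, (ρ x - 1) ^ (p - 1) = 0)
    {e e' : M →ₗ[k] M} (he : d1_IsHom ρ ρ N e) (he' : d1_IsHom ρ ρ N e')
    (hee : IsIdempotentElem e) (hee' : IsIdempotentElem e') (hd : d1_IsPr ρ ρ N (e' - e)) :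
    ∃ u : M ≃ₗ[k] M, d1_IsHom ρ ρ N (u : M →ₗ[k] M) ∧
      (u : M →ₗ[k] M) * e = e' * (u : M →ₗ[k] M) := by
  classical
  set u₀ : M →ₗ[k] M := e' * e + (1 - e') * (1 - e) with hu₀
  have h1 : d1_IsHom ρ ρ N (1 : M →ₗ[k] M) := d1_isHom_id N
  have hu₀N : d1_IsHom ρ ρ N u₀ := by
    have h2 : d1_IsHom ρ ρ N (e' * e) := d1_IsHom.comp (ρ := ρ) (σ := ρ) (θ := ρ) he he'
    have h3 : d1_IsHom ρ ρ N ((1 - e') * (1 - e)) :=
      d1_IsHom.comp (ρ := ρ) (σ := ρ) (θ := ρ) (h1.sub he) (h1.sub he')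
    exact h2.add h3
  have hj : u₀ - 1 = (e' - e) * (2 * e - 1) := by
    have h2 : e * e = e := hee.eq
    rw [hu₀]
    simp only [mul_sub, sub_mul, mul_one, one_mul, two_mul, mul_add, h2]
    abel
  have hjI : d1_IsPr ρ ρ N (u₀ - 1) := by
    rw [hj]
    have h2 : d1_IsHom ρ ρ N (2 * e - 1) := by
      have : (2 : M →ₗ[k] M) * e = e + e := two_mul e
      rw [this]
      exact (he.add he).sub h1
    exact hd.comp_right h2
  have hjn : IsNilpotent (u₀ - 1) := ⟨p - 1, d1m_lift_nilp p hP hPN ht hjI⟩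
  have hunit : IsUnit u₀ := by
    have := hjn.isUnit_add_one
    simpa using this
  have hbij : Function.Bijective u₀ := (Module.End.isUnit_iff u₀).1 hunit
  refine ⟨LinearEquiv.ofBijective u₀ hbij, ?_, ?_⟩
  · exact hu₀N
  · show u₀ * e = e' * u₀
    have h2 : e * e = e := hee.eq
    have h3 : e' * e' = e' := hee'.eq
    have hA : (1 - e) * e = 0 := by rw [sub_mul, one_mul, h2, sub_self]
    have hB : e' * (1 - e') = 0 := by rw [mul_sub, mul_one, h3, sub_self]
    rw [hu₀, add_mul, mul_assoc, h2, mul_assoc, hA, mul_zero, add_zero, mul_add, ← mul_assoc, h3,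
      ← mul_assoc, hB, zero_mul, add_zero]

/-- under the isomorphism `u` of `d1m_lift_equiv` the image of `e` is mapped onto the image of
`e'`. -/
theorem d1m_lift_range {e e' : M →ₗ[k] M} (u : M ≃ₗ[k] M)
    (hu : (u : M →ₗ[k] M) * e = e' * (u : M →ₗ[k] M)) :
    (LinearMap.range e).map (u : M →ₗ[k] M) = LinearMap.range e' := by
  have h1 : (LinearMap.range e).map (u : M →ₗ[k] M) = LinearMap.range ((u : M →ₗ[k] M) ∘ₗ e) :=
    (LinearMap.range_comp _ _).symm
  have h2 : LinearMap.range (e' ∘ₗ (u : M →ₗ[k] M)) = LinearMap.range e' := by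
    rw [LinearMap.range_comp, LinearEquiv.range, Submodule.map_top]
  rw [h1, ← h2]
  exact congrArg LinearMap.range hu

/-- (G5) if the only idempotent `G`-endomorphisms are `0` and `1`, the same holds for
`N`-endomorphisms: `M` restricted to `N` is indecomposable. -/
theorem d1m_lift_indec (p : ℕ) [hp : Fact p.Prime] [CharP k p] (P : Sylow p G)
    (hP : Nat.card P = p) (ht : ∀ x ∈ (P : Subgroup G), (ρ x - 1) ^ (p - 1) = 0)
    (hG : ∀ e' : M →ₗ[k] M, IsIdempotentElem e' → d1_IsHom ρ ρ ⊤ e' → e' = 0 ∨ e' = 1)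
    {e : M →ₗ[k] M}
    (he : d1_IsHom ρ ρ (Subgroup.normalizer ((P : Subgroup G) : Set G)) e)
    (hee : IsIdempotentElem e) : e = 0 ∨ e = 1 := by
  classical
  have hPN : (P : Subgroup G) ≤ Subgroup.normalizer ((P : Subgroup G) : Set G) :=
    Subgroup.le_normalizer
  obtain ⟨e', hidem, he'G, hd⟩ := d1m_lift_idem p P hP ht he hee
  obtain ⟨u, _, hu⟩ := d1m_lift_equiv p hP hPN ht he (he'G.mono le_top) hee hidem hd
  have hinj : Function.Injective (u : M →ₗ[k] M) := u.injective
  rcases hG e' hidem he'G with h0 | h1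
  · left
    rw [h0, zero_mul] at hu
    ext v
    apply hinj
    have := LinearMap.congr_fun hu v
    simpa using this
  · right
    rw [h1, one_mul] at hu
    ext v
    -- `u (e v) = u v`
    have := LinearMap.congr_fun hu v
    apply hinj
    simpa using this

/-- an idempotent which is `N`-projective is zero. -/
theorem d1m_lift_isPr_idem_zero (p : ℕ) [hp : Fact p.Prime] [CharP k p] {P N : Subgroup G}
    (hP : Nat.card P = p) (hPN : P ≤ N) (ht : ∀ x ∈ P, (ρ x - 1) ^ (p - 1) = 0)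
    {e : M →ₗ[k] M} (hee : IsIdempotentElem e) (he : d1_IsPr ρ ρ N e) : e = 0 := by
  have h := d1m_lift_nilp p hP hPN ht he
  have hp1 : p - 1 ≠ 0 := Nat.sub_ne_zero_of_lt hp.out.one_lt
  rw [hee.pow_eq hp1] at h   -- IsIdempotentElem.pow_succ_eq?
  exact h

end Cfsg.Agent.D1M
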