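import Cfsg.Agent.D1M.Lift

/-!
# D1M / LiftB : complements to `D1M/Lift`

* unipotence bounds: `d1m_lift_unip` (`x ^ p = 1 ⇒ (ρ x - 1) ^ p = 0` in characteristic `p`),
  `d1m_lift_unip_finrank` (`dim M ≤ p - 1 ⇒ (ρ x - 1) ^ (p - 1) = 0`),
  `d1m_lift_unip_end` (`(ρ x - 1) ^ d = 0`, `2 d ≤ p` ⇒ `(Ad x - 1) ^ (p - 1) = 0` on `End_k(M)`);
* adjoints for an invariant non-degenerate bilinear form preserve `H`-endomorphisms and
  `H`-projective endomorphisms: `d1m_lift_adjoint_isHom`, `d1m_lift_adjoint_isPr`.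
-/

set_option autoImplicit false

namespace Cfsg.Agent.D1M

open Cfsg.Agent.BP Cfsg.Agent.D1 Representation

universe u

set_option linter.unusedSectionVars false

variable {k : Type*} [Field k] {G : Type u} [Group G]
  {M : Type*} [AddCommGroup M] [Module k M] {ρ : Representation k G M}

/-- in characteristic `p`, an element with `x ^ p = 1` acts unipotently: `(ρ x - 1) ^ p = 0`. -/
theorem d1m_lift_unip (p : ℕ) [hp : Fact p.Prime] [CharP k p] {x : G} (hx : x ^ p = 1) :
    (ρ x - 1) ^ p = 0 := by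
  open Polynomial in
  have hpoly : ((Polynomial.X : k[X]) - 1) ^ p = Polynomial.X ^ p - 1 := by
    rw [sub_pow_char, one_pow]
  have := congrArg (Polynomial.aeval (ρ x)) hpoly
  simp only [map_pow, map_sub, Polynomial.aeval_X, map_one] at this
  rw [this, ← map_pow, hx, map_one, sub_self]

/-- a nilpotent endomorphism of a space of dimension `≤ n` has `n`-th power zero. -/
theorem d1m_lift_nilp_finrank [FiniteDimensional k M] {t : Module.End k M} (ht : IsNilpotent t)
    {n : ℕ} (hn : Module.finrank k M ≤ n) : t ^ n = 0 := by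
  have h1 : t ^ Module.finrank k M = 0 := by
    have h2 := LinearMap.aeval_self_charpoly t
    rw [ht.charpoly_eq_X_pow_finrank] at h2
    simpa using h2
  obtain ⟨m, rfl⟩ := Nat.exists_eq_add_of_le hn
  rw [pow_add, h1, zero_mul]

/-- if `dim M ≤ p - 1`, an element with `x ^ p = 1` satisfies `(ρ x - 1) ^ (p - 1) = 0`. -/
theorem d1m_lift_unip_finrank (p : ℕ) [hp : Fact p.Prime] [CharP k p] [FiniteDimensional k M]
    (hdim : Module.finrank k M ≤ p - 1) {x : G} (hx : x ^ p = 1) : (ρ x - 1) ^ (p - 1) = 0 :=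
  d1m_lift_nilp_finrank ⟨p, d1m_lift_unip p hx⟩ hdim

/-- the conjugation action on `End_k(M)`: if `(ρ x - 1) ^ d = 0` then `(Ad x - 1) ^ (2 d - 1) = 0`. -/
theorem d1m_lift_unip_end_aux {d : ℕ} {x : G} (h1 : (ρ x - 1) ^ d = 0) {n : ℕ}
    (hn : 2 * d ≤ n + 1) : (linHom ρ ρ x - 1) ^ n = 0 := by
  have hXY : ρ x * ρ x⁻¹ = 1 := by rw [← map_mul, mul_inv_cancel, map_one]
  have hYX : ρ x⁻¹ * ρ x = 1 := by rw [← map_mul, inv_mul_cancel, map_one]
  -- `ρ x⁻¹ - 1 = -(ρ x⁻¹) * (ρ x - 1)`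
  have h2 : (ρ x⁻¹ - 1) ^ d = 0 := by
    have hfac : ρ x⁻¹ - 1 = (ρ x - 1) * (-(ρ x⁻¹)) := by
      rw [mul_neg, sub_mul, hXY, one_mul]; abel
    have hcomm : Commute (ρ x - 1) (-(ρ x⁻¹)) := by
      unfold Commute SemiconjBy
      rw [mul_neg, neg_mul, sub_mul, mul_sub, hXY, hYX, one_mul, mul_one]
    rw [hfac, hcomm.mul_pow, h1, zero_mul]
  set L : Module.End k (Module.End k M) := LinearMap.mulLeft k (ρ x) with hL
  set R : Module.End k (Module.End k M) := LinearMap.mulRight k (ρ x⁻¹) with hR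
  have hLR : linHom ρ ρ x = L * R := by
    ext φ v
    simp [hL, hR, linHom_apply]
  have hcommLR : Commute L R := LinearMap.commute_mulLeft_right _ _
  have hL1 : L - 1 = LinearMap.mulLeft k (ρ x - 1) := by
    ext φ v
    simp [hL, sub_mul]
  have hR1 : R - 1 = LinearMap.mulRight k (ρ x⁻¹ - 1) := by
    ext φ v
    simp [hR, mul_sub]
  have hLd : (L - 1) ^ d = 0 := by
    rw [hL1, LinearMap.pow_mulLeft, h1]
    ext φ v
    simp
  have hRd : (R - 1) ^ d = 0 := by
    rw [hR1, LinearMap.pow_mulRight, h2]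
    ext φ v
    simp
  have hsplit : linHom ρ ρ x - 1 = (L - 1) * R + (R - 1) := by
    rw [hLR, sub_mul, one_mul]; abel
  have hc1 : Commute (L - 1) R := (hcommLR.sub_left (Commute.one_left R))
  have hA : ((L - 1) * R) ^ d = 0 := by
    rw [hc1.mul_pow, hLd, zero_mul]
  have hc2 : Commute ((L - 1) * R) (R - 1) := by
    have h3 : Commute (L - 1) (R - 1) := hc1.sub_right (Commute.one_right _)
    have h4 : Commute R (R - 1) := (Commute.refl R).sub_right (Commute.one_right _)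
    exact h3.mul_left h4
  rw [hsplit]
  exact hc2.add_pow_eq_zero_of_add_le_succ_of_pow_eq_zero hA hRd (by omega)

/-- `(ρ x - 1) ^ d = 0` on `M` with `2 d ≤ p` gives `(Ad x - 1) ^ (p - 1) = 0` on `End_k(M)`: the
hypothesis of `d1m_lift_nilp` etc. for the conjugation representation `linHom ρ ρ`. -/
theorem d1m_lift_unip_end (p : ℕ) {d : ℕ} (hd : 2 * d ≤ p) {x : G} (h1 : (ρ x - 1) ^ d = 0) :
    (linHom ρ ρ x - 1) ^ (p - 1) = 0 :=
  d1m_lift_unip_end_aux h1 (by omega)

/-! ### adjoints with respect to an invariant form -/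

section Adjoint

variable [Finite G] [FiniteDimensional k M] (B : LinearMap.BilinForm k M)

/-- the left adjoint (for a `G`-invariant left-separating form) of an `H`-endomorphism is an
`H`-endomorphism. -/
theorem d1m_lift_adjoint_isHom (hB : B.Nondegenerate)
    (hinv : ∀ (g : G) (v w : M), B (ρ g v) (ρ g w) = B v w) {H : Subgroup G}
    {a a' : M →ₗ[k] M} (hadj : ∀ v w, B (a' v) w = B v (a w)) (ha : d1_IsHom ρ ρ H a) :
    d1_IsHom ρ ρ H a' := by
  rw [d1_isHom_iff] at ha ⊢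
  intro h hh
  ext v
  have hsep := hB.1
  have hmove : ∀ (g : G) (v w : M), B (ρ g v) w = B v (ρ g⁻¹ w) := by
    intro g v w
    have := hinv g v (ρ g⁻¹ w)
    rw [← this]
    congr 1
    have : ρ g (ρ g⁻¹ w) = (ρ g * ρ g⁻¹) w := rfl
    rw [this, ← map_mul, mul_inv_cancel, map_one]; rfl
  have hkey : ∀ w, B ((a' ∘ₗ ρ h) v - (ρ h ∘ₗ a') v) w = 0 := by
    intro w
    rw [map_sub, LinearMap.sub_apply, sub_eq_zero]
    simp only [LinearMap.comp_apply]
    rw [hadj, hmove h v, hmove h (a' v), hadj]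
    congr 1
    have h2 := LinearMap.congr_fun (ha h⁻¹ (H.inv_mem hh)) w
    simpa using h2.symm
  have := hsep _ hkey
  exact sub_eq_zero.1 this

/-- the left adjoint (for a `G`-invariant non-degenerate form) of an `H`-projective endomorphism is
`H`-projective. -/
theorem d1m_lift_adjoint_isPr (hB : B.Nondegenerate)
    (hinv : ∀ (g : G) (v w : M), B (ρ g v) (ρ g w) = B v w) {H : Subgroup G}
    {a a' : M →ₗ[k] M} (hadj : ∀ v w, B (a' v) w = B v (a w)) (ha : d1_IsPr ρ ρ H a) :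
    d1_IsPr ρ ρ H a' := by
  obtain ⟨φ, rfl⟩ := ha
  set φ' := B.leftAdjointOfNondegenerate hB φ with hφ'
  have hφadj : ∀ v w, B (φ' v) w = B v (φ w) :=
    B.isAdjointPairLeftAdjointOfNondegenerate hB φ
  refine ⟨φ', ?_⟩
  have hmove : ∀ (g : G) (v w : M), B (ρ g v) w = B v (ρ g⁻¹ w) := by
    intro g v w
    have := hinv g v (ρ g⁻¹ w)
    rw [← this]
    congr 1
    have : ρ g (ρ g⁻¹ w) = (ρ g * ρ g⁻¹) w := rfl
    rw [this, ← map_mul, mul_inv_cancel, map_one]; rfl
  ext v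
  have hkey : ∀ w, B (a' v - d1_tr1 ρ ρ H φ' v) w = 0 := by
    intro w
    rw [map_sub, LinearMap.sub_apply, sub_eq_zero, hadj]
    unfold d1_tr1 d1_trT
    rw [LinearMap.sum_apply, LinearMap.sum_apply, map_sum, map_sum, LinearMap.sum_apply]
    refine Finset.sum_congr rfl (fun g _ => ?_)
    rw [linHom_apply, linHom_apply]
    simp only [LinearMap.comp_apply]
    rw [hmove g, hφadj, hmove g⁻¹, inv_inv]
  exact sub_eq_zero.1 (hB.1 _ hkey)

end Adjoint

end Cfsg.Agent.D1M
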