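import Cfsg.Agent.D1M.LiftB

/-!
# D1M / LiftC : the adjoint lemmas of `LiftB` in the shape of `notes/S4504_headers.md`

`B` symmetric (`hBs`), left-separating (`hBn`), `G`-invariant (`hBG`); adjoints in the form
`B (a u) v = B u (a' v)`.
-/

set_option autoImplicit false

namespace Cfsg.Agent.D1M

open Cfsg.Agent.BP Cfsg.Agent.D1 Representation

universe u

set_option linter.unusedSectionVars false

variable {k : Type*} [Field k] {G : Type u} [Group G] [Finite G]
  {M : Type*} [AddCommGroup M] [Module k M] [FiniteDimensional k M] {ρ : Representation k G M}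
  (B : LinearMap.BilinForm k M)

/-- symmetric + left-separating gives `Nondegenerate`. -/
theorem d1m_lift_nondeg_of_symm (hBs : ∀ a b, B a b = B b a) (hBn : ∀ a, (∀ b, B a b = 0) → a = 0) :
    B.Nondegenerate := by
  refine ⟨hBn, ?_⟩
  intro b hb
  apply hBn
  intro a
  rw [hBs]
  exact hb a

/-- existence of the adjoint. -/
theorem d1m_lift_adjoint_exists (hBs : ∀ a b, B a b = B b a)
    (hBn : ∀ a, (∀ b, B a b = 0) → a = 0) (a : M →ₗ[k] M) :
    ∃ a' : M →ₗ[k] M, ∀ u v, B (a u) v = B u (a' v) := by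
  have hB := d1m_lift_nondeg_of_symm B hBs hBn
  refine ⟨B.leftAdjointOfNondegenerate hB a, ?_⟩
  intro u v
  have h := B.isAdjointPairLeftAdjointOfNondegenerate hB a v u
  -- `h : B (a' v) u = B v (a u)`
  rw [hBs (a u) v, hBs u]
  exact h.symm

/-- uniqueness of the adjoint. -/
theorem d1m_lift_adjoint_unique (hBs : ∀ a b, B a b = B b a)
    (hBn : ∀ a, (∀ b, B a b = 0) → a = 0) {a a' a'' : M →ₗ[k] M}
    (h1 : ∀ u v, B (a u) v = B u (a' v)) (h2 : ∀ u v, B (a u) v = B u (a'' v)) : a' = a'' := by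
  ext v
  have : ∀ u, B (a' v - a'' v) u = 0 := by
    intro u
    rw [hBs, map_sub, ← h1, ← h2, sub_self]
  exact sub_eq_zero.1 (hBn _ this)

/-- the adjoint of an `H`-endomorphism is an `H`-endomorphism. -/
theorem d1m_lift_adjoint_isHom' (hBs : ∀ a b, B a b = B b a)
    (hBn : ∀ a, (∀ b, B a b = 0) → a = 0) (hBG : ∀ (g : G) (a b : M), B (ρ g a) (ρ g b) = B a b)
    {H : Subgroup G} {a a' : M →ₗ[k] M} (hadj : ∀ u v, B (a u) v = B u (a' v))
    (ha : d1_IsHom ρ ρ H a) : d1_IsHom ρ ρ H a' := by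
  refine d1m_lift_adjoint_isHom B (d1m_lift_nondeg_of_symm B hBs hBn) hBG ?_ ha
  intro v w
  rw [hBs (a' v) w, ← hadj, hBs]

/-- the adjoint of an `H`-projective endomorphism is `H`-projective. -/
theorem d1m_lift_adjoint_isPr' (hBs : ∀ a b, B a b = B b a)
    (hBn : ∀ a, (∀ b, B a b = 0) → a = 0) (hBG : ∀ (g : G) (a b : M), B (ρ g a) (ρ g b) = B a b)
    {H : Subgroup G} {a a' : M →ₗ[k] M} (hadj : ∀ u v, B (a u) v = B u (a' v))
    (ha : d1_IsPr ρ ρ H a) : d1_IsPr ρ ρ H a' := by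
  refine d1m_lift_adjoint_isPr B (d1m_lift_nondeg_of_symm B hBs hBn) hBG ?_ ha
  intro v w
  rw [hBs (a' v) w, ← hadj, hBs]

/-- adjoint of a product, of a difference, of an idempotent. -/
theorem d1m_lift_adjoint_mul {a a' b b' : M →ₗ[k] M} (ha : ∀ u v, B (a u) v = B u (a' v))
    (hb : ∀ u v, B (b u) v = B u (b' v)) : ∀ u v, B ((a * b) u) v = B u ((b' * a') v) := by
  intro u v
  rw [Module.End.mul_apply, ha, hb, Module.End.mul_apply]

theorem d1m_lift_adjoint_sub {a a' b b' : M →ₗ[k] M} (ha : ∀ u v, B (a u) v = B u (a' v))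
    (hb : ∀ u v, B (b u) v = B u (b' v)) : ∀ u v, B ((a - b) u) v = B u ((a' - b') v) := by
  intro u v
  rw [LinearMap.sub_apply, map_sub, LinearMap.sub_apply, ha, hb, LinearMap.sub_apply, map_sub]

theorem d1m_lift_adjoint_idem (hBs : ∀ a b, B a b = B b a)
    (hBn : ∀ a, (∀ b, B a b = 0) → a = 0) {a a' : M →ₗ[k] M}
    (ha : ∀ u v, B (a u) v = B u (a' v)) (hidem : IsIdempotentElem a) : IsIdempotentElem a' := by
  have h2 := d1m_lift_adjoint_mul B ha ha
  rw [hidem.eq] at h2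
  exact d1m_lift_adjoint_unique B hBs hBn ha h2 |>.symm

end Cfsg.Agent.D1M
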