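import Mathlib

/-!
# D1M / Min : a module of least dimension on which `x` acts non-trivially is simple

`notes/S4504_helper9.md`, section 5 (S).  `k` a field, `G` a finite group, `x : G` such that the normal closure
`Hx` of `x` is perfect.  Among the representations `σ` of `G` on the coordinate spaces `Fin d → k` with `σ x ≠ 1`
take one with `d` least: every `G`-stable subspace is `⊥` or `⊤`.

Also the glue `d1m_sylow_of_order`: an element of order `p` generates a Sylow `p`-subgroup when `p ^ 2 ∤ |G|`.
-/

set_option autoImplicit false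
set_option linter.unusedVariables false

namespace Cfsg.Agent.D1M

universe u v w

/-- an element of order `p` generates a Sylow `p`-subgroup if `p ^ 2` does not divide `|G|`. -/
theorem d1m_sylow_of_order {G : Type u} [Group G] [Finite G] (p : ℕ) [hp : Fact p.Prime] {x : G}
    (hx : orderOf x = p) (hsq : ¬ p ^ 2 ∣ Nat.card G) :
    ∃ P : Sylow p G, (P : Subgroup G) = Subgroup.zpowers x := by
  have hcard : Nat.card (Subgroup.zpowers x) = p := by rw [Nat.card_zpowers, hx]
  have hpg : IsPGroup p (Subgroup.zpowers x) := IsPGroup.of_card (n := 1) (by rw [hcard, pow_one])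
  obtain ⟨P, hP⟩ := hpg.exists_le_sylow
  refine ⟨P, ?_⟩
  obtain ⟨n, hn⟩ := (IsPGroup.iff_card.mp P.2)
  have hdvd : p ^ n ∣ Nat.card G := hn ▸ Subgroup.card_subgroup_dvd_card (P : Subgroup G)
  have hn1 : n ≤ 1 := by
    by_contra h
    rw [not_le] at h
    exact hsq ((pow_dvd_pow p h).trans hdvd)
  have hle : Nat.card (P : Subgroup G) ≤ Nat.card (Subgroup.zpowers x) := by
    rw [hcard, hn]
    calc p ^ n ≤ p ^ 1 := Nat.pow_le_pow_right hp.out.pos hn1
      _ = p := pow_one p
  exact (Subgroup.eq_of_le_of_card_ge hP hle).symm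

section transport

variable {k : Type v} [Field k] {G : Type u} [Group G]

/-- transport of a representation along a linear equivalence. -/
noncomputable def d1m_min_conj {W W' : Type*} [AddCommGroup W] [Module k W] [AddCommGroup W']
    [Module k W'] (e : W ≃ₗ[k] W') (τ : Representation k G W) : Representation k G W' :=
  (e.conjRingEquiv : Module.End k W →* Module.End k W').comp τ

theorem d1m_min_conj_eq_one {W W' : Type*} [AddCommGroup W] [Module k W] [AddCommGroup W']
    [Module k W'] (e : W ≃ₗ[k] W') (τ : Representation k G W) (g : G)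
    (h : d1m_min_conj e τ g = 1) : τ g = 1 := by
  have h1 : e.conjRingEquiv (τ g) = 1 := h
  have h2 : e.conjRingEquiv (τ g) = e.conjRingEquiv 1 := by rw [h1, map_one]
  exact e.conjRingEquiv.injective h2

/-- if all representations on `Fin d' → k` are trivial at `x`, so is every representation on a module of
dimension `d'`. -/
theorem d1m_min_transport {x : G} {d' : ℕ}
    (hmin : ∀ τ : Representation k G (Fin d' → k), τ x = 1)
    {W : Type*} [AddCommGroup W] [Module k W] [Module.Finite k W] (hW : Module.finrank k W = d')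
    (τ : Representation k G W) : τ x = 1 := by
  have b := Module.finBasisOfFinrankEq k W hW
  exact d1m_min_conj_eq_one b.equivFun τ x (hmin _)

/-- the subrepresentation on a stable subspace. -/
noncomputable def d1m_min_sub {S : Type*} [AddCommGroup S] [Module k S] (σ : Representation k G S)
    (R : Submodule k S) (hR : ∀ g : G, R.map (σ g) ≤ R) : Representation k G R where
  toFun g := (σ g).restrict (fun r hr => hR g (Submodule.mem_map_of_mem hr))
  map_one' := by
    ext r
    simp
  map_mul' g h := by
    ext r
    simp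

/-- the quotient representation by a stable subspace. -/
noncomputable def d1m_min_quot {S : Type*} [AddCommGroup S] [Module k S] (σ : Representation k G S)
    (R : Submodule k S) (hR : ∀ g : G, R.map (σ g) ≤ R) : Representation k G (S ⧸ R) where
  toFun g := R.mapQ R (σ g) (fun r hr => hR g (Submodule.mem_map_of_mem hr))
  map_one' := by
    ext s
    simp
  map_mul' g h := by
    ext s
    simp

end transport

section main

variable {k : Type v} [Field k] {G : Type u} [Group G]

/-- core of (S): if `x` acts trivially on a stable subspace `R` and on `S ⧸ R`, and the normal closure of `x` is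
perfect, then `x` acts trivially on `S`. -/
theorem d1m_min_core {S : Type*} [AddCommGroup S] [Module k S] (σ : Representation k G S)
    (x : G)
    (hperf : ⁅Subgroup.normalClosure ({x} : Set G), Subgroup.normalClosure ({x} : Set G)⁆
      = Subgroup.normalClosure ({x} : Set G))
    (R : Submodule k S) (hR : ∀ g : G, R.map (σ g) ≤ R)
    (h1 : ∀ r ∈ R, σ x r = r) (h2 : ∀ s : S, σ x s - s ∈ R) : σ x = 1 := by
  have hRg : ∀ (g : G) (r : S), r ∈ R → σ g r ∈ R := fun g r hr =>
    hR g (Submodule.mem_map_of_mem hr)
  -- the subgroup K of elements acting trivially on R and S/R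
  let K : Subgroup G :=
    { carrier := {g | (∀ r ∈ R, σ g r = r) ∧ ∀ s : S, σ g s - s ∈ R}
      one_mem' := by
        refine ⟨fun r _ => by simp, fun s => by simp⟩
      mul_mem' := by
        rintro g h ⟨hg1, hg2⟩ ⟨hh1, hh2⟩
        refine ⟨fun r hr => by rw [map_mul, Module.End.mul_apply, hh1 r hr, hg1 r hr], fun s => ?_⟩
        have : σ (g * h) s - s = (σ g (σ h s - s)) + (σ g s - s) := by
          rw [map_mul, Module.End.mul_apply, map_sub]; abel
        rw [this]
        exact R.add_mem (hRg g _ (hh2 s)) (hg2 s)
      inv_mem' := by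
        rintro g ⟨hg1, hg2⟩
        have hinv : ∀ s : S, σ g⁻¹ (σ g s) = s := fun s => by
          rw [← Module.End.mul_apply, ← map_mul, inv_mul_cancel, map_one, Module.End.one_apply]
        refine ⟨fun r hr => ?_, fun s => ?_⟩
        · have := hinv r
          rw [hg1 r hr] at this
          exact this
        · -- σ g⁻¹ s - s = - σ g⁻¹ (σ g s - s)
          have : σ g⁻¹ s - s = -(σ g⁻¹ (σ g s - s)) := by
            rw [map_sub, hinv]; abel
          rw [this]
          exact R.neg_mem (hRg g⁻¹ _ (hg2 s)) }
  have hKn : K.Normal := by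
    refine ⟨fun g ⟨hg1, hg2⟩ c => ⟨fun r hr => ?_, fun s => ?_⟩⟩
    · have hinv : σ c (σ c⁻¹ r) = r := by
        rw [← Module.End.mul_apply, ← map_mul, mul_inv_cancel, map_one, Module.End.one_apply]
      rw [map_mul, map_mul, Module.End.mul_apply, Module.End.mul_apply, hg1 _ (hRg c⁻¹ r hr), hinv]
    · have hinv : σ c (σ c⁻¹ s) = s := by
        rw [← Module.End.mul_apply, ← map_mul, mul_inv_cancel, map_one, Module.End.one_apply]
      have : σ (c * g * c⁻¹) s - s = σ c (σ g (σ c⁻¹ s) - σ c⁻¹ s) := by
        rw [map_mul, map_mul, Module.End.mul_apply, Module.End.mul_apply, map_sub, hinv]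
      rw [this]
      exact hRg c _ (hg2 _)
  have hxK : x ∈ K := ⟨h1, h2⟩
  have hHK : Subgroup.normalClosure ({x} : Set G) ≤ K :=
    Subgroup.normalClosure_le_normal (by simpa using hxK)
  -- elements of K have commuting images
  have hcomm : ∀ g ∈ K, ∀ h ∈ K, σ g * σ h = σ h * σ g := by
    rintro g ⟨hg1, hg2⟩ h ⟨hh1, hh2⟩
    ext s
    rw [Module.End.mul_apply, Module.End.mul_apply]
    have e1 : σ g (σ h s) = (σ h s - s) + (σ g s - s) + s := by
      have : σ g (σ h s) = σ g (σ h s - s) + σ g s := by rw [map_sub]; abel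
      rw [this, hg1 _ (hh2 s)]; abel
    have e2 : σ h (σ g s) = (σ g s - s) + (σ h s - s) + s := by
      have : σ h (σ g s) = σ h (σ g s - s) + σ h s := by rw [map_sub]; abel
      rw [this, hh1 _ (hg2 s)]; abel
    rw [e1, e2]; abel
  have hker : ⁅Subgroup.normalClosure ({x} : Set G), Subgroup.normalClosure ({x} : Set G)⁆
      ≤ (σ : G →* Module.End k S).ker := by
    rw [Subgroup.commutator_le]
    intro g hg h hh
    rw [MonoidHom.mem_ker, commutatorElement_def, map_mul, map_mul, map_mul,
      hcomm g (hHK hg) h (hHK hh), mul_assoc (σ h), ← map_mul, mul_inv_cancel, map_one, mul_one,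
      ← map_mul, mul_inv_cancel, map_one]
  rw [hperf] at hker
  exact hker (Subgroup.subset_normalClosure (Set.mem_singleton x))

/-- **(S)**: a representation of least dimension on which `x` acts non-trivially is simple, if the normal closure
of `x` is perfect. -/
theorem d1m_min_main [Finite G] (p : ℕ) [Fact p.Prime] [CharP k p] (x : G) (hx : orderOf x = p)
    (hperf : ⁅Subgroup.normalClosure ({x} : Set G), Subgroup.normalClosure ({x} : Set G)⁆
      = Subgroup.normalClosure ({x} : Set G))
    {n : ℕ} (ρ' : Representation k G (Fin n → k)) (hx1 : ρ' x ≠ 1) :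
    ∃ (d : ℕ) (σ : Representation k G (Fin d → k)), d ≤ n ∧ σ x ≠ 1 ∧
      (∀ W : Submodule k (Fin d → k), (∀ g : G, W.map (σ g) ≤ W) → W = ⊥ ∨ W = ⊤) := by
  classical
  have hex : ∃ d, ∃ σ : Representation k G (Fin d → k), σ x ≠ 1 := ⟨n, ρ', hx1⟩
  obtain ⟨σ, hσ⟩ := Nat.find_spec hex
  have hmin : ∀ d' < Nat.find hex, ∀ τ : Representation k G (Fin d' → k), τ x = 1 := by
    intro d' hd' τ
    by_contra h
    exact Nat.find_min hex hd' ⟨τ, h⟩
  refine ⟨Nat.find hex, σ, Nat.find_min' hex ⟨ρ', hx1⟩, hσ, ?_⟩
  intro W hW
  by_contra hne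
  rw [not_or] at hne
  obtain ⟨hbot, htop⟩ := hne
  -- dimensions
  have hdS : Module.finrank k (Fin (Nat.find hex) → k) = Nat.find hex := by simp
  have hWlt : Module.finrank k W < Nat.find hex := by
    have := Submodule.finrank_lt htop
    rwa [hdS] at this
  have hQlt : Module.finrank k ((Fin (Nat.find hex) → k) ⧸ W) < Nat.find hex := by
    have h1 := Submodule.finrank_quotient_add_finrank W
    have h2 : 0 < Module.finrank k W := by
      rcases Nat.eq_zero_or_pos (Module.finrank k W) with h0 | h0
      · exact absurd (Submodule.finrank_eq_zero.mp h0) hbot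
      · exact h0
    rw [hdS] at h1
    omega
  have t1 := d1m_min_transport (hmin _ hWlt) rfl (d1m_min_sub σ W hW)
  have t2 := d1m_min_transport (hmin _ hQlt) rfl (d1m_min_quot σ W hW)
  apply hσ
  refine d1m_min_core σ x hperf W hW (fun r hr => ?_) (fun s => ?_)
  · have := congrArg (fun f => ((f ⟨r, hr⟩ : W) : Fin (Nat.find hex) → k)) t1
    simpa [d1m_min_sub] using this
  · have := congrArg (fun f => f (Submodule.Quotient.mk s)) t2
    simp only [d1m_min_quot, MonoidHom.coe_mk, OneHom.coe_mk, Submodule.mapQ_apply,
      Module.End.one_apply] at this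
    exact (Submodule.Quotient.eq W).mp this

end main

end Cfsg.Agent.D1M
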