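import Cfsg.Agent.D1M.LiftB
import Cfsg.Agent.D1M.Min

/-!
# D1M / M1A : the glue between the group `G` and the abstract linear algebra of `D1M/Jord*`, `D1M/W3*`

`notes/S4504_helper9.md`, section 5.  `x : G` of order `p`, `p ^ 2 ∤ |G|`, `P = ⟨x⟩`, `N = N_G(P)`.
* `d1m_m1a_compl`: a complement `E0` of `P` in `N` (Schur-Zassenhaus): a `p'`-group with `N = P E0` elementwise;
* `d1m_m1a_indec`: for a simple `kG`-module `S` of dimension `≤ p - 1`, every idempotent of `End_k(S)` commuting with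
  `σ x` and with `σ e`, `e ∈ E0`, is `0` or `1`  (via `d1m_lift_indec`);
* `d1m_m1a_exp`: the exponents `n e` with `e x e⁻¹ = x ^ n e`.
-/

set_option autoImplicit false
set_option linter.unusedVariables false
set_option linter.unusedSectionVars false

namespace Cfsg.Agent.D1M

open Cfsg.Agent.BP Cfsg.Agent.D1 Representation

universe u v w

section grp

variable {G : Type u} [Group G] [Finite G] (p : ℕ) [hp : Fact p.Prime]

/-- elements of `zpowers x` are natural powers of `x` (finite order). -/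
theorem d1m_m1a_pow_of_mem {x y : G} (hy : y ∈ Subgroup.zpowers x) : ∃ i : ℕ, y = x ^ i := by
  have hfin : IsOfFinOrder x := isOfFinOrder_of_finite x
  rw [← hfin.mem_powers_iff_mem_zpowers] at hy
  obtain ⟨i, hi⟩ := hy
  exact ⟨i, hi.symm⟩

/-- **Schur-Zassenhaus complement** of `P = ⟨x⟩` in its normalizer. -/
theorem d1m_m1a_compl {x : G} (hx : orderOf x = p) (hsq : ¬ p ^ 2 ∣ Nat.card G) :
    ∃ E0 : Subgroup G,
      E0 ≤ Subgroup.normalizer ((Subgroup.zpowers x : Subgroup G) : Set G) ∧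
      ¬ p ∣ Nat.card E0 ∧
      ∀ g ∈ Subgroup.normalizer ((Subgroup.zpowers x : Subgroup G) : Set G),
        ∃ (i : ℕ) (e : G), e ∈ E0 ∧ g = x ^ i * e := by
  classical
  set P : Subgroup G := Subgroup.zpowers x with hPdef
  set N : Subgroup G := Subgroup.normalizer (P : Set G) with hNdef
  have hPN : P ≤ N := Subgroup.le_normalizer
  have hcardP : Nat.card P = p := by rw [hPdef, Nat.card_zpowers, hx]
  set P' : Subgroup N := P.subgroupOf N with hP'def
  have hP'n : P'.Normal := Subgroup.normal_in_normalizer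
  have hcardP' : Nat.card P' = p := by
    rw [hP'def, Nat.card_congr (Subgroup.subgroupOfEquivOfLe hPN).toEquiv, hcardP]
  have hidx : ¬ p ∣ P'.index := by
    intro hdvd
    apply hsq
    have h1 : Nat.card P' * P'.index = Nat.card N := Subgroup.card_mul_index P'
    have h2 : p ^ 2 ∣ Nat.card N := by
      rw [← h1, hcardP', pow_two]
      exact Nat.mul_dvd_mul_left p hdvd
    exact h2.trans (Subgroup.card_subgroup_dvd_card N)
  have hcop : Nat.Coprime (Nat.card P') P'.index := by
    rw [hcardP']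
    exact (Nat.Prime.coprime_iff_not_dvd hp.out).mpr hidx
  obtain ⟨E', hE'⟩ := Subgroup.exists_right_complement'_of_coprime hcop
  refine ⟨E'.map N.subtype, ?_, ?_, ?_⟩
  · rintro g ⟨e, -, rfl⟩
    exact e.2
  · have h1 : Nat.card (E'.map N.subtype) = Nat.card E' :=
      Nat.card_congr (E'.equivMapOfInjective N.subtype N.subtype_injective).symm.toEquiv
    have h2 : Nat.card E' = P'.index := by
      have h3 := hE'.card_mul_card
      have h4 : Nat.card P' * P'.index = Nat.card N := Subgroup.card_mul_index P'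
      have hpos : 0 < Nat.card P' := Nat.card_pos
      exact Nat.eq_of_mul_eq_mul_left hpos (h3.trans h4.symm)
    rw [h1, h2]
    exact hidx
  · intro g hg
    obtain ⟨⟨⟨y, hy⟩, ⟨e, he⟩⟩, hye, -⟩ := (Subgroup.isComplement'_def.mp hE').existsUnique ⟨g, hg⟩
    have hyP : (y : G) ∈ P := Subgroup.mem_subgroupOf.mp hy
    obtain ⟨i, hi⟩ := d1m_m1a_pow_of_mem hyP
    refine ⟨i, (e : G), ⟨e, he, rfl⟩, ?_⟩
    have := congrArg (fun z : N => (z : G)) hye
    simp only [Subgroup.coe_mul] at this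
    rw [← hi, ← this]

/-- the exponent by which an element of the normalizer acts on `x`. -/
theorem d1m_m1a_exp {x : G} {g : G}
    (hg : g ∈ Subgroup.normalizer ((Subgroup.zpowers x : Subgroup G) : Set G)) :
    ∃ n : ℕ, g * x * g⁻¹ = x ^ n := by
  have h1 : g * x * g⁻¹ ∈ Subgroup.zpowers x :=
    (Subgroup.mem_normalizer_iff.mp hg x).mp (Subgroup.mem_zpowers x)
  exact d1m_m1a_pow_of_mem h1

end grp

section rep

variable {k : Type v} [Field k] {G : Type u} [Group G] [Finite G] (p : ℕ) [hp : Fact p.Prime]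
  [CharP k p] {S : Type w} [AddCommGroup S] [Module k S] [FiniteDimensional k S]
  (σ : Representation k G S)

/-- for a simple module, idempotent `G`-endomorphisms are `0` or `1`. -/
theorem d1m_m1a_simple_idem
    (hsimple : ∀ W : Submodule k S, (∀ g : G, W.map (σ g) ≤ W) → W = ⊥ ∨ W = ⊤)
    (e' : S →ₗ[k] S) (hee : IsIdempotentElem e') (he : d1_IsHom σ σ ⊤ e') : e' = 0 ∨ e' = 1 := by
  have hst : ∀ g : G, (LinearMap.range e').map (σ g) ≤ LinearMap.range e' := by
    rintro g _ ⟨_, ⟨v, rfl⟩, rfl⟩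
    exact ⟨σ g v, d1_isHom_apply he (Subgroup.mem_top g) v⟩
  rcases hsimple _ hst with h | h
  · left
    exact LinearMap.range_eq_bot.mp h
  · right
    ext v
    obtain ⟨w, hw⟩ : v ∈ LinearMap.range e' := h ▸ Submodule.mem_top
    rw [← hw, ← Module.End.mul_apply, hee.eq, Module.End.one_apply]

/-- **(G5) in the form needed by `d1m_jord_main`**: an idempotent commuting with `σ x` and `σ e` (`e ∈ E0`) is `0` or
`1`, when `N = ⟨x⟩ E0` elementwise. -/
theorem d1m_m1a_indec {x : G} (hx : orderOf x = p) (hsq : ¬ p ^ 2 ∣ Nat.card G)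
    (hdim : Module.finrank k S ≤ p - 1)
    (hsimple : ∀ W : Submodule k S, (∀ g : G, W.map (σ g) ≤ W) → W = ⊥ ∨ W = ⊤)
    (E0 : Subgroup G)
    (hE0 : ∀ g ∈ Subgroup.normalizer ((Subgroup.zpowers x : Subgroup G) : Set G),
        ∃ (i : ℕ) (e : G), e ∈ E0 ∧ g = x ^ i * e)
    (π : S →ₗ[k] S) (hπ : IsIdempotentElem π) (hπx : Commute π (σ x))
    (hπE : ∀ e ∈ E0, Commute π (σ e)) : π = 0 ∨ π = 1 := by
  obtain ⟨P, hP⟩ := d1m_sylow_of_order p hx hsq
  have hcardP : Nat.card (P : Subgroup G) = p := by rw [hP, Nat.card_zpowers, hx]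
  have ht : ∀ y ∈ (P : Subgroup G), (σ y - 1) ^ (p - 1) = 0 := by
    intro y hy
    refine d1m_lift_unip_finrank p hdim ?_
    have : orderOf y ∣ p := by
      have h1 : orderOf (⟨y, hy⟩ : (P : Subgroup G)) ∣ Nat.card (P : Subgroup G) :=
        orderOf_dvd_natCard _
      rwa [Subgroup.orderOf_mk, hcardP] at h1
    exact orderOf_dvd_iff_pow_eq_one.mp this
  refine d1m_lift_indec p P hcardP ht (d1m_m1a_simple_idem σ hsimple) ?_ hπ
  rw [d1_isHom_iff]
  intro g hg
  rw [hP] at hg
  obtain ⟨i, e, he, rfl⟩ := hE0 g hg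
  have h1 : Commute π (σ (x ^ i * e)) := by
    rw [map_mul, map_pow]
    exact (hπx.pow_right i).mul_right (hπE e he)
  exact h1.eq

end rep

end Cfsg.Agent.D1M
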