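import Mathlib

/-!
# D1M / M1Def : the interface between `D1M/W3*` (+ glue `D1M/M1G`) and `D1M/M1B`

`d1m_IsW3 σ x E0 w0 w1 w2 e`: inside `End_k(S)` with the conjugation action `Ad = linHom σ σ` of `G`, the three
endomorphisms `w0, w1, w2` form a Jordan chain for `T = Ad x - 1` (`T w0 = w1`, `T w1 = w2 ≠ 0`, `T w2 = 0`), `e` is a
self-adjoint (for the trace form) idempotent of `End_k(End_k(S))` with range `span {w0, w1, w2}`, commuting with `Ad x`
and with `Ad g`, `g ∈ E0`, and `E0` acts on the top layer `w0` through the inverse of the exponent character.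
-/

set_option autoImplicit false

namespace Cfsg.Agent.D1M

open Representation

universe u v w

/-- the conclusion of `D1M/W3*` in `G`-terms (see the file header). -/
def d1m_IsW3 {k : Type v} [Field k] {G : Type u} [Group G] {S : Type w} [AddCommGroup S]
    [Module k S] (σ : Representation k G S) (x : G) (E0 : Subgroup G)
    (w0 w1 w2 : Module.End k S) (e : Module.End k (Module.End k S)) : Prop :=
  w1 = linHom σ σ x w0 - w0 ∧ w2 = linHom σ σ x w1 - w1 ∧ linHom σ σ x w2 = w2 ∧ w2 ≠ 0 ∧
  LinearIndependent k ![w0, w1, w2] ∧ IsIdempotentElem e ∧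
  LinearMap.range e = Submodule.span k {w0, w1, w2} ∧
  (∀ A, e (linHom σ σ x A) = linHom σ σ x (e A)) ∧
  (∀ g ∈ E0, ∀ A, e (linHom σ σ g A) = linHom σ σ g (e A)) ∧
  (∀ A C : Module.End k S, LinearMap.trace k S (e A * C) = LinearMap.trace k S (A * e C)) ∧
  (∀ g ∈ E0, ∀ n : ℕ, g * x * g⁻¹ = x ^ n → (n : k) • linHom σ σ g w0 = w0)

end Cfsg.Agent.D1M
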