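import Cfsg.Agent.D1M.W3C

/-!
# D1M / W3D : the trace form on `End V` and the `N`-stable summand `W' = span(Y, TY, T²Y)`

`notes/S4504_helper9.md`, section 5 (W): main theorem `d1m_w3_main` of seat 5, taking the output of
`d1m_jord_main` (helper2) as hypotheses.
-/

set_option autoImplicit false

namespace Cfsg.Agent.D1M

open Polynomial

section Form

variable (k : Type*) [Field k] (V : Type*) [AddCommGroup V] [Module k V]

/-- the trace form `B(a, c) = tr (a c)` on `End V`. -/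
noncomputable def d1m_w3_form : LinearMap.BilinForm k (Module.End k V) :=
  LinearMap.mk₂ k (fun a c => LinearMap.trace k V (a * c))
    (fun a a' c => by simp [add_mul]) (fun r a c => by simp)
    (fun a c c' => by simp [mul_add]) (fun r a c => by simp)

variable {k V}

@[simp] theorem d1m_w3_form_apply (a c : Module.End k V) :
    d1m_w3_form k V a c = LinearMap.trace k V (a * c) := rfl

theorem d1m_w3_form_symm (a c : Module.End k V) : d1m_w3_form k V a c = d1m_w3_form k V c a := by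
  rw [d1m_w3_form_apply, d1m_w3_form_apply, LinearMap.trace_mul_comm]

/-- `B(u a u', c) = B(a, u' c u)`. -/
theorem d1m_w3_form_conj (u u' a c : Module.End k V) :
    d1m_w3_form k V (u * a * u') c = d1m_w3_form k V a (u' * c * u) := by
  rw [d1m_w3_form_apply, d1m_w3_form_apply, mul_assoc u, mul_assoc u, LinearMap.trace_mul_comm]
  simp only [mul_assoc]

/-- the adjoint of `T = Ad(x) - 1` is `Ad(x⁻¹) - 1`. -/
theorem d1m_w3_form_T (x xi a c : Module.End k V) :
    d1m_w3_form k V (d1m_w3_T (k := k) x xi a) c = d1m_w3_form k V a (d1m_w3_T (k := k) xi x c) := by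
  rw [d1m_w3_T_apply, d1m_w3_T_apply, map_sub, LinearMap.sub_apply, map_sub, d1m_w3_form_conj]

/-- the trace form is non-degenerate. -/
theorem d1m_w3_form_nondegenerate [FiniteDimensional k V] : (d1m_w3_form k V).Nondegenerate := by
  have hleft : ∀ a : Module.End k V, (∀ c, d1m_w3_form k V a c = 0) → a = 0 := by
    intro a ha
    ext v
    rw [LinearMap.zero_apply, ← Module.forall_dual_apply_eq_zero_iff k]
    intro φ
    have h1 := ha (φ.smulRight v)
    rw [d1m_w3_form_apply] at h1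
    have h2 : a * φ.smulRight v = φ.smulRight (a v) := by
      ext w
      simp
    rw [h2, LinearMap.trace_smulRight] at h1
    exact h1
  refine ⟨hleft, ?_⟩
  intro c hc
  apply hleft
  intro a
  rw [d1m_w3_form_symm]
  exact hc a

end Form

section Stable

variable {k : Type*} [Field k] {M : Type*} [AddCommGroup M] [Module k M]

theorem d1m_w3_span_stable {w0 w1 w2 : M} (g : M →ₗ[k] M)
    (h0 : g w0 ∈ Submodule.span k ({w0, w1, w2} : Set M))
    (h1 : g w1 ∈ Submodule.span k ({w0, w1, w2} : Set M))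
    (h2 : g w2 ∈ Submodule.span k ({w0, w1, w2} : Set M)) :
    ∀ u ∈ Submodule.span k ({w0, w1, w2} : Set M), g u ∈ Submodule.span k ({w0, w1, w2} : Set M) := by
  intro u hu
  obtain ⟨a, b, c, rfl⟩ := Submodule.mem_span_triple.1 hu
  rw [map_add, map_add, map_smul, map_smul, map_smul]
  exact Submodule.add_mem _ (Submodule.add_mem _ (Submodule.smul_mem _ _ h0)
    (Submodule.smul_mem _ _ h1)) (Submodule.smul_mem _ _ h2)

end Stable

section Chain

variable {k : Type*} [Field k] {A : Type*} [Ring A] [Algebra k A] {x xi w0 w1 w2 : A}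

theorem d1m_w3_chain_two (h2 : x * w2 * xi = w2) (m : ℕ) : x ^ m * w2 * xi ^ m = w2 := by
  induction m with
  | zero => simp
  | succ m ih =>
    rw [pow_succ' x, pow_succ xi, mul_assoc x, mul_assoc x, ← mul_assoc (x ^ m * w2), ← mul_assoc x,
      ih, h2]

theorem d1m_w3_chain_one (h1 : x * w1 * xi = w1 + w2) (h2 : x * w2 * xi = w2) (m : ℕ) :
    x ^ m * w1 * xi ^ m = w1 + (m : k) • w2 := by
  induction m with
  | zero => simp
  | succ m ih =>
    rw [pow_succ' x, pow_succ xi, mul_assoc x, mul_assoc x, ← mul_assoc (x ^ m * w1), ← mul_assoc x,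
      ih, mul_add, add_mul, h1, mul_smul_comm, smul_mul_assoc, h2]
    push_cast
    rw [add_smul, one_smul]
    abel

theorem d1m_w3_chain_zero (h0 : x * w0 * xi = w0 + w1) (h1 : x * w1 * xi = w1 + w2)
    (h2 : x * w2 * xi = w2) (m : ℕ) :
    ∃ γ : k, x ^ m * w0 * xi ^ m = w0 + (m : k) • w1 + γ • w2 := by
  induction m with
  | zero => exact ⟨0, by simp⟩
  | succ m ih =>
    obtain ⟨γ, hγ⟩ := ih
    refine ⟨γ + m, ?_⟩
    rw [pow_succ' x, pow_succ xi, mul_assoc x, mul_assoc x, ← mul_assoc (x ^ m * w0), ← mul_assoc x,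
      hγ, mul_add, mul_add, add_mul, add_mul, h0, mul_smul_comm, smul_mul_assoc, h1, mul_smul_comm,
      smul_mul_assoc, h2]
    push_cast
    rw [add_smul, add_smul, one_smul, smul_add]
    abel

/-- the inverse chain. -/
theorem d1m_w3_chain_inv (hx' : xi * x = 1) (h0 : x * w0 * xi = w0 + w1)
    (h1 : x * w1 * xi = w1 + w2) (h2 : x * w2 * xi = w2) :
    xi * w2 * x = w2 ∧ xi * w1 * x = w1 - w2 ∧ xi * w0 * x = w0 - w1 + w2 := by
  have key : ∀ a : A, xi * (x * a * xi) * x = a := by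
    intro a
    rw [← mul_assoc, ← mul_assoc, hx', one_mul, mul_assoc, hx', mul_one]
  have e2 : xi * w2 * x = w2 := by
    have := key w2
    rwa [h2] at this
  have e1 : xi * w1 * x = w1 - w2 := by
    have := key w1
    rw [h1, mul_add, add_mul, e2] at this
    exact eq_sub_of_add_eq this
  have e0 : xi * w0 * x = w0 - w1 + w2 := by
    have := key w0
    rw [h0, mul_add, add_mul, e1] at this
    rw [eq_sub_of_add_eq this]; abel
  exact ⟨e2, e1, e0⟩

end Chain

section Main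

variable {k : Type*} [Field k] {V : Type*} [AddCommGroup V] [Module k V]

/-- the general form of `d1m_w3_main`, with an arbitrary polynomial inverse `xi` of `x`. -/
theorem d1m_w3_main_aux (p : ℕ) [CharP k p]
    (x xi : V →ₗ[k] V) (hdim : 2 * Module.finrank k V + 1 ≤ p)
    {E : Type*} [Group E] (σ : Representation k E V) (n : E → ℕ)
    (hn : ∀ e, σ e * x = x ^ n e * σ e) (hne : ∀ e, (n e : k) ≠ 0)
    (X H Y : V →ₗ[k] V) (F Fi : k[X]) (hF1 : F.coeff 1 = 1) (hFi0 : Fi.coeff 0 = 1)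
    (hxF : x = aeval X F) (hxi : xi = aeval X Fi) (h1 : xi * x = 1) (h1' : x * xi = 1)
    (hXnil : X ^ Module.finrank k V = 0)
    (hHX : H * X - X * H = 2 • X) (hHY : H * Y - Y * H = -(2 • Y)) (hXY : X * Y - Y * X = H)
    (hσY : ∀ e, (n e : k) • (σ e * Y) = Y * σ e)
    (htr : LinearMap.trace k V (Y * X) ≠ 0) :
    ∃ (w0 w1 w2 : V →ₗ[k] V) (e : Module.End k (V →ₗ[k] V)),
      w1 = x * w0 * xi - w0 ∧ w2 = x * w1 * xi - w1 ∧
      x * w2 * xi = w2 ∧ w2 ≠ 0 ∧ LinearIndependent k ![w0, w1, w2] ∧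
      IsIdempotentElem e ∧
      LinearMap.range e = Submodule.span k ({w0, w1, w2} : Set (V →ₗ[k] V)) ∧
      (∀ A, e (x * A * xi) = x * e A * xi) ∧
      (∀ g A, e (σ g * A * σ g⁻¹) = σ g * e A * σ g⁻¹) ∧
      (∀ A C, LinearMap.trace k V (e A * C) = LinearMap.trace k V (A * e C)) ∧
      (∀ g, σ g * w0 * σ g⁻¹ = (n g : k)⁻¹ • w0) ∧
      (∀ g, σ g * w2 * σ g⁻¹ = (n g : k) • w2) := by
  classical
  -- `2 ≠ 0` in `k`
  have hfr : 1 ≤ Module.finrank k V := by
    by_contra hcon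
    have h0 : Module.finrank k V = 0 := by omega
    rw [h0, pow_zero] at hXnil
    apply htr
    have : Y * X = 0 := by
      calc Y * X = Y * X * 1 := (mul_one _).symm
        _ = 0 := by rw [hXnil, mul_zero]
    rw [this, map_zero]
  have h2k : (2 : k) ≠ 0 := by
    intro h0
    have h2' : ((2 : ℕ) : k) = 0 := by exact_mod_cast h0
    have hdvd := (CharP.cast_eq_zero_iff k p 2).1 h2'
    have := Nat.le_of_dvd (by norm_num) hdvd
    omega
  obtain ⟨w1, hw1⟩ : ∃ w1 : V →ₗ[k] V, w1 = d1m_w3_T (k := k) x xi Y := ⟨_, rfl⟩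
  obtain ⟨w2, hw2⟩ : ∃ w2 : V →ₗ[k] V, w2 = d1m_w3_T (k := k) x xi w1 := ⟨_, rfl⟩
  have hTw2 : d1m_w3_T (k := k) x xi w2 = 0 := by
    rw [hw2, hw1]; exact d1m_w3_TTT_Y hxF hxi h1 hXY hHX
  have hw2eq : w2 = -(2 • aeval X (Polynomial.X * d1m_w3_Q F Fi)) := by
    rw [hw2, hw1]; exact d1m_w3_TT_Y hxF hxi h1 hXY hHX
  -- the chain relations
  have c0 : x * Y * xi = Y + w1 := by
    rw [hw1, d1m_w3_T_apply]; abel
  have c1 : x * w1 * xi = w1 + w2 := by
    rw [hw2, d1m_w3_T_apply]; abel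
  have c2 : x * w2 * xi = w2 := by
    have := hTw2
    rw [d1m_w3_T_apply, sub_eq_zero] at this
    exact this
  obtain ⟨i2, i1, i0⟩ := d1m_w3_chain_inv h1 c0 c1 c2
  -- the Gram matrix
  obtain ⟨B, hB⟩ : ∃ B : LinearMap.BilinForm k (Module.End k V), B = d1m_w3_form k V := ⟨_, rfl⟩
  have hsymm : ∀ a c : V →ₗ[k] V, B a c = B c a := by
    rw [hB]; exact d1m_w3_form_symm
  have hBT : ∀ a c : V →ₗ[k] V,
      B (d1m_w3_T (k := k) x xi a) c = B a (d1m_w3_T (k := k) xi x c) := by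
    rw [hB]; exact d1m_w3_form_T x xi
  have hT'2 : d1m_w3_T (k := k) xi x w2 = 0 := by rw [d1m_w3_T_apply, i2, sub_self]
  have hT'1 : d1m_w3_T (k := k) xi x w1 = -w2 := by rw [d1m_w3_T_apply, i1]; abel
  have h22 : B w2 w2 = 0 := by
    conv_lhs => rw [hw2]
    rw [hBT, ← hw2, hT'2, map_zero]
  have h12 : B w1 w2 = 0 := by
    conv_lhs => rw [hw1]
    rw [hBT, hT'2, map_zero]
  have h11 : B w1 w1 = -B Y w2 := by
    conv_lhs => rw [hw1]
    rw [hBT, ← hw1, hT'1, map_neg]
  have hcval : B Y w2 = -(2 * LinearMap.trace k V (Y * X)) := by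
    have hco0 : (Polynomial.X * d1m_w3_Q F Fi).coeff 0 = 0 := by simp
    have hco1 : (Polynomial.X * d1m_w3_Q F Fi).coeff 1 = 1 := by
      rw [coeff_X_mul, d1m_w3_Q_coeff_zero hF1 hFi0]
    rw [hB, d1m_w3_form_apply, hw2eq, mul_neg, mul_smul_comm, map_neg, map_nsmul,
      d1m_w3_trace_Y_aeval p hdim hXnil hHX hHY _ hco0, hco1, one_mul, nsmul_eq_mul]
    norm_num
  have hc : B Y w2 ≠ 0 := by
    rw [hcval, neg_ne_zero]
    exact mul_ne_zero h2k htr
  have hw2ne : w2 ≠ 0 := by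
    intro h0
    apply hc
    rw [h0, map_zero]
  have hS0 : Y ∈ Submodule.span k ({Y, w1, w2} : Set (V →ₗ[k] V)) :=
    Submodule.subset_span (by simp)
  have hS1 : w1 ∈ Submodule.span k ({Y, w1, w2} : Set (V →ₗ[k] V)) :=
    Submodule.subset_span (by simp)
  have hS2 : w2 ∈ Submodule.span k ({Y, w1, w2} : Set (V →ₗ[k] V)) :=
    Submodule.subset_span (by simp)
  -- `Ad(σ g)` on the chain
  have hσxi : ∀ g : E, σ g * xi = xi ^ n g * σ g := by
    intro g
    have hcomm : Commute xi x := by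
      unfold Commute SemiconjBy; rw [h1, h1']
    have h3 : xi ^ n g * x ^ n g = 1 := by rw [← hcomm.mul_pow, h1, one_pow]
    calc σ g * xi = (xi ^ n g * x ^ n g) * σ g * xi := by rw [h3, one_mul]
      _ = xi ^ n g * (x ^ n g * σ g) * xi := by simp only [mul_assoc]
      _ = xi ^ n g * (σ g * x) * xi := by rw [hn g]
      _ = xi ^ n g * σ g * (x * xi) := by simp only [mul_assoc]
      _ = xi ^ n g * σ g := by rw [h1', mul_one]
  have hσinv : ∀ g : E, σ g * σ g⁻¹ = 1 ∧ σ g⁻¹ * σ g = 1 := by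
    intro g
    constructor
    · rw [← map_mul, mul_inv_cancel, map_one]
    · rw [← map_mul, inv_mul_cancel, map_one]
  have hxiσ : ∀ g : E, xi * σ g⁻¹ = σ g⁻¹ * xi ^ n g := by
    intro g
    calc xi * σ g⁻¹ = σ g⁻¹ * (σ g * xi) * σ g⁻¹ := by
          rw [← mul_assoc, (hσinv g).2, one_mul]
      _ = σ g⁻¹ * (xi ^ n g * σ g) * σ g⁻¹ := by rw [hσxi g]
      _ = σ g⁻¹ * xi ^ n g * (σ g * σ g⁻¹) := by simp only [mul_assoc]
      _ = σ g⁻¹ * xi ^ n g := by rw [(hσinv g).1, mul_one]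
  have hAd : ∀ (g : E) (A : V →ₗ[k] V),
      σ g * (x * A * xi) * σ g⁻¹ = x ^ n g * (σ g * A * σ g⁻¹) * xi ^ n g := by
    intro g A
    calc σ g * (x * A * xi) * σ g⁻¹ = (σ g * x) * A * (xi * σ g⁻¹) := by simp only [mul_assoc]
      _ = (x ^ n g * σ g) * A * (σ g⁻¹ * xi ^ n g) := by rw [hn g, hxiσ g]
      _ = x ^ n g * (σ g * A * σ g⁻¹) * xi ^ n g := by simp only [mul_assoc]
  have hσ0 : ∀ g : E, σ g * Y * σ g⁻¹ = (n g : k)⁻¹ • Y := by
    intro g
    have h3 : σ g * Y = (n g : k)⁻¹ • (Y * σ g) := by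
      rw [← hσY g, smul_smul, inv_mul_cancel₀ (hne g), one_smul]
    rw [h3, smul_mul_assoc, mul_assoc, (hσinv g).1, mul_one]
  have hσ1 : ∀ g : E, ∃ γ : k, σ g * w1 * σ g⁻¹ = w1 + γ • w2 := by
    intro g
    obtain ⟨γ, hγ⟩ := d1m_w3_chain_zero (k := k) c0 c1 c2 (n g)
    refine ⟨(n g : k)⁻¹ * γ, ?_⟩
    have h3 : w1 = x * Y * xi - Y := by rw [c0]; abel
    have h4 : σ g * w1 * σ g⁻¹ = x ^ n g * (σ g * Y * σ g⁻¹) * xi ^ n g - σ g * Y * σ g⁻¹ := by
      conv_lhs => rw [h3]
      rw [mul_sub, sub_mul, hAd g Y]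
    rw [h4, hσ0 g, mul_smul_comm, smul_mul_assoc, hγ, ← smul_sub, add_assoc,
      add_sub_cancel_left, smul_add, smul_smul, inv_mul_cancel₀ (hne g), one_smul, smul_smul]
  have hσ2 : ∀ g : E, σ g * w2 * σ g⁻¹ = (n g : k) • w2 := by
    intro g
    obtain ⟨γ, hγ⟩ := hσ1 g
    have h3 : w2 = x * w1 * xi - w1 := by rw [c1]; abel
    have h4 : σ g * w2 * σ g⁻¹ = x ^ n g * (σ g * w1 * σ g⁻¹) * xi ^ n g - σ g * w1 * σ g⁻¹ := by
      conv_lhs => rw [h3]
      rw [mul_sub, sub_mul, hAd g w1]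
    rw [h4, hγ, mul_add, add_mul, mul_smul_comm, smul_mul_assoc,
      d1m_w3_chain_one (k := k) c1 c2 (n g), d1m_w3_chain_two c2 (n g)]
    abel
  -- stability of the span
  have hstabσ : ∀ g : E, ∀ u ∈ Submodule.span k ({Y, w1, w2} : Set (V →ₗ[k] V)),
      (LinearMap.mulLeft k (σ g) * LinearMap.mulRight k (σ g⁻¹)) u ∈
        Submodule.span k ({Y, w1, w2} : Set (V →ₗ[k] V)) := by
    intro g
    apply d1m_w3_span_stable
    · simp only [Module.End.mul_apply, LinearMap.mulRight_apply, LinearMap.mulLeft_apply,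
        ← mul_assoc]
      rw [hσ0 g]
      exact Submodule.smul_mem _ _ hS0
    · simp only [Module.End.mul_apply, LinearMap.mulRight_apply, LinearMap.mulLeft_apply,
        ← mul_assoc]
      obtain ⟨γ, hγ⟩ := hσ1 g
      rw [hγ]
      exact Submodule.add_mem _ hS1 (Submodule.smul_mem _ _ hS2)
    · simp only [Module.End.mul_apply, LinearMap.mulRight_apply, LinearMap.mulLeft_apply,
        ← mul_assoc]
      rw [hσ2 g]
      exact Submodule.smul_mem _ _ hS2
  have hstabx : ∀ u ∈ Submodule.span k ({Y, w1, w2} : Set (V →ₗ[k] V)),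
      (LinearMap.mulLeft k x * LinearMap.mulRight k xi) u ∈
        Submodule.span k ({Y, w1, w2} : Set (V →ₗ[k] V)) := by
    apply d1m_w3_span_stable
    · simp only [Module.End.mul_apply, LinearMap.mulRight_apply, LinearMap.mulLeft_apply,
        ← mul_assoc]
      rw [c0]; exact Submodule.add_mem _ hS0 hS1
    · simp only [Module.End.mul_apply, LinearMap.mulRight_apply, LinearMap.mulLeft_apply,
        ← mul_assoc]
      rw [c1]; exact Submodule.add_mem _ hS1 hS2
    · simp only [Module.End.mul_apply, LinearMap.mulRight_apply, LinearMap.mulLeft_apply,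
        ← mul_assoc]
      rw [c2]; exact hS2
  have hstabxi : ∀ u ∈ Submodule.span k ({Y, w1, w2} : Set (V →ₗ[k] V)),
      (LinearMap.mulLeft k xi * LinearMap.mulRight k x) u ∈
        Submodule.span k ({Y, w1, w2} : Set (V →ₗ[k] V)) := by
    apply d1m_w3_span_stable
    · simp only [Module.End.mul_apply, LinearMap.mulRight_apply, LinearMap.mulLeft_apply,
        ← mul_assoc]
      rw [i0]; exact Submodule.add_mem _ (Submodule.sub_mem _ hS0 hS1) hS2
    · simp only [Module.End.mul_apply, LinearMap.mulRight_apply, LinearMap.mulLeft_apply,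
        ← mul_assoc]
      rw [i1]; exact Submodule.sub_mem _ hS1 hS2
    · simp only [Module.End.mul_apply, LinearMap.mulRight_apply, LinearMap.mulLeft_apply,
        ← mul_assoc]
      rw [i2]; exact hS2
  have hconj : ∀ u u' a c : V →ₗ[k] V, B (u * a * u') c = B a (u' * c * u) := by
    rw [hB]; exact d1m_w3_form_conj
  refine ⟨Y, w1, w2, d1m_w3_proj B Y w1 w2, ?_, ?_, c2, hw2ne,
    d1m_w3_proj_indep hsymm h22 h12 h11 hc, d1m_w3_proj_idem hsymm h22 h12 h11 hc,
    d1m_w3_proj_range hsymm h22 h12 h11 hc, ?_, ?_, ?_, hσ0, hσ2⟩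
  · rw [c0]; abel
  · rw [c1]; abel
  · intro A
    have := d1m_w3_proj_comm hsymm h22 h12 h11 hc
      (g := LinearMap.mulLeft k x * LinearMap.mulRight k xi)
      (g' := LinearMap.mulLeft k xi * LinearMap.mulRight k x)
      (fun a c => by
        simp only [Module.End.mul_apply, LinearMap.mulRight_apply, LinearMap.mulLeft_apply,
          ← mul_assoc]
        exact hconj x xi a c) hstabx hstabxi A
    simpa only [Module.End.mul_apply, LinearMap.mulRight_apply, LinearMap.mulLeft_apply,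
      ← mul_assoc] using this
  · intro g A
    have := d1m_w3_proj_comm hsymm h22 h12 h11 hc
      (g := LinearMap.mulLeft k (σ g) * LinearMap.mulRight k (σ g⁻¹))
      (g' := LinearMap.mulLeft k (σ g⁻¹) * LinearMap.mulRight k (σ g))
      (fun a c => by
        simp only [Module.End.mul_apply, LinearMap.mulRight_apply, LinearMap.mulLeft_apply,
          ← mul_assoc]
        exact hconj (σ g) (σ g⁻¹) a c) (hstabσ g)
      (by
        have := hstabσ g⁻¹
        rwa [inv_inv] at this) A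
    simpa only [Module.End.mul_apply, LinearMap.mulRight_apply, LinearMap.mulLeft_apply,
      ← mul_assoc] using this
  · intro A C
    have := d1m_w3_proj_adj hsymm h22 h12 h11 hc A C
    subst hB
    exact this

/-- **Seat 5 of S4504.**  From the output of `d1m_jord_main`: the three endomorphisms
`w0 = Y, w1 = T Y, w2 = T² Y` (`T = Ad(x) - 1`) form a Jordan chain for `Ad(x)`, span a subspace
`W'` of `End V` stable under `Ad(x)` and all `Ad(σ g)`, on which the trace form is non-degenerate; the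
orthogonal projection `e` onto `W'` is an idempotent commuting with `Ad(x)` and `Ad(σ g)`,
self-adjoint for the trace form; `σ g` acts on the top layer by `(n g)⁻¹` and on the socle by
`n g`. -/
theorem d1m_w3_main (p : ℕ) [hp : Fact p.Prime] [CharP k p]
    (x : V →ₗ[k] V) (hxp : x ^ p = 1) (hdim : 2 * Module.finrank k V + 1 ≤ p)
    {E : Type*} [Group E] (σ : Representation k E V) (n : E → ℕ)
    (hn : ∀ e, σ e * x = x ^ n e * σ e) (hne : ∀ e, (n e : k) ≠ 0)
    (X H Y : V →ₗ[k] V) (F : k[X]) (hF0 : F.coeff 0 = 1) (hF1 : F.coeff 1 = 1)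
    (hxF : x = aeval X F) (hXnil : X ^ Module.finrank k V = 0)
    (hHX : H * X - X * H = 2 • X) (hHY : H * Y - Y * H = -(2 • Y)) (hXY : X * Y - Y * X = H)
    (hσY : ∀ e, (n e : k) • (σ e * Y) = Y * σ e)
    (htr : LinearMap.trace k V (Y * X) ≠ 0) :
    ∃ (w0 w1 w2 : V →ₗ[k] V) (e : Module.End k (V →ₗ[k] V)),
      w1 = x * w0 * x ^ (p - 1) - w0 ∧ w2 = x * w1 * x ^ (p - 1) - w1 ∧
      x * w2 * x ^ (p - 1) = w2 ∧ w2 ≠ 0 ∧ LinearIndependent k ![w0, w1, w2] ∧
      IsIdempotentElem e ∧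
      LinearMap.range e = Submodule.span k ({w0, w1, w2} : Set (V →ₗ[k] V)) ∧
      (∀ A, e (x * A * x ^ (p - 1)) = x * e A * x ^ (p - 1)) ∧
      (∀ g A, e (σ g * A * σ g⁻¹) = σ g * e A * σ g⁻¹) ∧
      (∀ A C, LinearMap.trace k V (e A * C) = LinearMap.trace k V (A * e C)) ∧
      (∀ g, σ g * w0 * σ g⁻¹ = (n g : k)⁻¹ • w0) ∧
      (∀ g, σ g * w2 * σ g⁻¹ = (n g : k) • w2) := by
  have hp1 : p - 1 + 1 = p := Nat.sub_add_cancel hp.out.one_le
  have hxi : x ^ (p - 1) = aeval X (F ^ (p - 1)) := by rw [map_pow, ← hxF]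
  have h1 : x ^ (p - 1) * x = 1 := by rw [← pow_succ, hp1, hxp]
  have h1' : x * x ^ (p - 1) = 1 := by rw [← pow_succ', hp1, hxp]
  have hFi0 : (F ^ (p - 1)).coeff 0 = 1 := by
    rw [coeff_zero_eq_eval_zero, eval_pow, ← coeff_zero_eq_eval_zero, hF0, one_pow]
  exact d1m_w3_main_aux p x (x ^ (p - 1)) hdim σ n hn hne X H Y F (F ^ (p - 1)) hF1 hFi0 hxF hxi
    h1 h1' hXnil hHX hHY hXY hσY htr

end Main

end Cfsg.Agent.D1M
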