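import Cfsg.Agent.D1M.JordG
import Cfsg.Agent.D1M.M1A
import Cfsg.Agent.D1M.M1Def
import Cfsg.Agent.D1M.W3D

/-!
# D1M / M1G : glue — from the abstract output of `D1M/Jord*` + `D1M/W3*` to `d1m_IsW3` in `G`-terms
-/

set_option autoImplicit false
set_option linter.unusedSectionVars false

namespace Cfsg.Agent.D1M

open Representation

universe u v w

section conv

variable {k : Type v} [Field k] {G : Type u} [Group G] [Finite G] (p : ℕ) [Fact p.Prime]
  [CharP k p] {S : Type w} [AddCommGroup S] [Module k S] (σ : Representation k G S)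

/-- `Ad g A = σ g * A * σ g⁻¹` -/
theorem d1m_m1g_linHom (g : G) (A : Module.End k S) :
    linHom σ σ g A = σ g * A * σ g⁻¹ := by
  rw [linHom_apply]; rfl

/-- `σ x ^ (p - 1) = σ x⁻¹` for `x` of order `p` -/
theorem d1m_m1g_pow_pred {x : G} (hx : orderOf x = p) : σ x ^ (p - 1) = σ x⁻¹ := by
  rw [← map_pow]
  congr 1
  have hp1 : 1 ≤ p := (Fact.out : p.Prime).one_le
  have h1 : x ^ (p - 1) * x = 1 := by
    rw [← pow_succ, Nat.sub_add_cancel hp1, ← hx, pow_orderOf_eq_one]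
  exact eq_inv_of_mul_eq_one_left h1

/-- conversion of the output of `d1m_w3_main` (for `x := σ x`, `E := ↥E0`, `σ := σ.comp E0.subtype`)
into `d1m_IsW3`. -/
theorem d1m_m1g_conv {x : G} (hx : orderOf x = p) (hx1 : σ x ≠ 1) (E0 : Subgroup G) (n : E0 → ℕ)
    (hn : ∀ e : E0, (e : G) * x * (e : G)⁻¹ = x ^ n e)
    (hn0 : ∀ e : E0, (n e : k) ≠ 0)
    (w0 w1 w2 : Module.End k S) (e : Module.End k (Module.End k S))
    (h1 : w1 = σ x * w0 * σ x ^ (p - 1) - w0) (h2 : w2 = σ x * w1 * σ x ^ (p - 1) - w1)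
    (h3 : σ x * w2 * σ x ^ (p - 1) = w2) (h4 : w2 ≠ 0) (h5 : LinearIndependent k ![w0, w1, w2])
    (h6 : IsIdempotentElem e) (h7 : LinearMap.range e = Submodule.span k {w0, w1, w2})
    (h8 : ∀ A, e (σ x * A * σ x ^ (p - 1)) = σ x * e A * σ x ^ (p - 1))
    (h9 : ∀ (g : E0) (A : Module.End k S),
      e ((σ.comp E0.subtype) g * A * (σ.comp E0.subtype) g⁻¹)
        = (σ.comp E0.subtype) g * e A * (σ.comp E0.subtype) g⁻¹)
    (h10 : ∀ A C : Module.End k S, LinearMap.trace k S (e A * C) = LinearMap.trace k S (A * e C))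
    (h11 : ∀ g : E0, (σ.comp E0.subtype) g * w0 * (σ.comp E0.subtype) g⁻¹ = ((n g : k))⁻¹ • w0) :
    d1m_IsW3 σ x E0 w0 w1 w2 e := by
  have hpp := d1m_m1g_pow_pred p σ hx
  have hxp : σ x ^ p = 1 := by rw [← map_pow, ← hx, pow_orderOf_eq_one, map_one]
  refine ⟨?_, ?_, ?_, h4, h5, h6, h7, ?_, ?_, h10, ?_⟩
  · rw [d1m_m1g_linHom, ← hpp]; exact h1
  · rw [d1m_m1g_linHom, ← hpp]; exact h2
  · rw [d1m_m1g_linHom, ← hpp]; exact h3
  · intro A
    rw [d1m_m1g_linHom, d1m_m1g_linHom, ← hpp]; exact h8 A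
  · intro g hg A
    rw [d1m_m1g_linHom, d1m_m1g_linHom]
    exact h9 ⟨g, hg⟩ A
  · intro g hg n' hn'
    rw [d1m_m1g_linHom]
    have h12 := h11 ⟨g, hg⟩
    have h13 : (σ.comp E0.subtype) ⟨g, hg⟩ * w0 * (σ.comp E0.subtype) (⟨g, hg⟩ : E0)⁻¹
        = σ g * w0 * σ g⁻¹ := rfl
    rw [h13] at h12
    rw [h12]
    -- `n' ≡ n g mod p`
    have h14 : x ^ n' = x ^ n ⟨g, hg⟩ := by rw [← hn', ← hn ⟨g, hg⟩]
    have h15 : σ x ^ n' = σ x ^ n ⟨g, hg⟩ := by rw [← map_pow, ← map_pow, h14]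
    have h16 := (d1m_jord_pow_eq_iff p (σ x) hxp hx1 _ _).mp h15
    have h17 : (n' : k) = (n ⟨g, hg⟩ : k) := (CharP.natCast_eq_natCast k p).mpr h16
    rw [h17, smul_smul, mul_inv_cancel₀ (hn0 _), one_smul]

end conv

open Cfsg.Agent.BP Cfsg.Agent.D1 in
/-- **file 6, glue (A)**: for a simple `kG`-module `S` with `2 dim S + 1 ≤ p` on which `x` (of order `p`)
acts non-trivially there are a complement `E0` of `⟨x⟩` in `N_G(⟨x⟩)` and a Jordan chain `w0, w1, w2` in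
`End_k(S)` with its self-adjoint equivariant projection `e`: `d1m_IsW3 σ x E0 w0 w1 w2 e`. -/
theorem d1m_m1g_main {k : Type v} [Field k] {G : Type u} [Group G] [Finite G] (p : ℕ)
    [Fact p.Prime] [CharP k p] {S : Type w} [AddCommGroup S] [Module k S] [FiniteDimensional k S]
    (σ : Representation k G S) (x : G) (hx : orderOf x = p) (hsq : ¬ p ^ 2 ∣ Nat.card G)
    (hx1 : σ x ≠ 1) (hdim : 2 * Module.finrank k S + 1 ≤ p)
    (hsimple : ∀ W : Submodule k S, (∀ g : G, W.map (σ g) ≤ W) → W = ⊥ ∨ W = ⊤) :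
    ∃ (E0 : Subgroup G) (w0 w1 w2 : Module.End k S) (e : Module.End k (Module.End k S)),
      E0 ≤ Subgroup.normalizer ((Subgroup.zpowers x : Subgroup G) : Set G) ∧
      (∀ c ∈ Subgroup.normalizer ((Subgroup.zpowers x : Subgroup G) : Set G),
        ∃ (i : ℕ) (e0 : G), e0 ∈ E0 ∧ c = x ^ i * e0) ∧
      d1m_IsW3 σ x E0 w0 w1 w2 e := by
  classical
  -- (G5): `S` is indecomposable on `N`
  have hindN : ∀ π : S →ₗ[k] S, IsIdempotentElem π →
      (∀ h ∈ Subgroup.normalizer ((Subgroup.zpowers x : Subgroup G) : Set G),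
        π ∘ₗ σ h = σ h ∘ₗ π) → π = 0 ∨ π = 1 := by
    intro π hπ hN
    obtain ⟨P, hP⟩ := d1m_sylow_of_order p hx hsq
    have hcardP : Nat.card (P : Subgroup G) = p := by rw [hP, Nat.card_zpowers, hx]
    have hdim' : Module.finrank k S ≤ p - 1 := by omega
    have ht : ∀ y ∈ (P : Subgroup G), (σ y - 1) ^ (p - 1) = 0 := by
      intro y hy
      refine d1m_lift_unip_finrank p hdim' ?_
      have : orderOf y ∣ p := by
        have h1 : orderOf (⟨y, hy⟩ : (P : Subgroup G)) ∣ Nat.card (P : Subgroup G) :=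
          orderOf_dvd_natCard _
        rwa [Subgroup.orderOf_mk, hcardP] at h1
      exact orderOf_dvd_iff_pow_eq_one.mp this
    refine d1m_lift_indec p P hcardP ht (d1m_m1a_simple_idem σ hsimple) ?_ hπ
    rw [d1_isHom_iff]
    intro g hg
    rw [hP] at hg
    exact hN g hg
  obtain ⟨E0, n, hE0N, hE0p, hNdec, hn, hn', X, H, Y, F, hF0, hF1, hxF, hXnil, hHX, hHY, hXY,
    hσX, hσH, hσY, htr⟩ := d1m_jordg_main p σ x hx hsq hx1 hdim hindN
  have hxp : σ x ^ p = 1 := by rw [← map_pow, ← hx, pow_orderOf_eq_one, map_one]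
  have hne : ∀ e : E0, (n e : k) ≠ 0 :=
    d1m_jord_alpha_ne_zero (k := k) (A := S →ₗ[k] S) p (σ x) hxp hx1 (σ.comp E0.subtype) n hn'
  obtain ⟨w0, w1, w2, e, h1, h2, h3, h4, h5, h6, h7, h8, h9, h10, h11, _⟩ :=
    d1m_w3_main p (σ x) hxp hdim (σ.comp E0.subtype) n hn' hne X H Y F hF0 hF1 hxF hXnil hHX hHY
      hXY hσY htr
  refine ⟨E0, w0, w1, w2, e, hE0N, ?_, ?_⟩
  · intro c hc
    obtain ⟨i, e0, he0, hce⟩ := hNdec c hc
    exact ⟨i, e0, he0, hce⟩
  · exact d1m_m1g_conv p σ hx hx1 E0 n hn hne w0 w1 w2 e h1 h2 h3 h4 h5 h6 h7 h8 h9 h10 h11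

end Cfsg.Agent.D1M
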