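import Cfsg.Agent.D1M.M1B
import Cfsg.Agent.D1M.M1G

/-!
# D1M / M1 : the 3-dimensional orthogonal `kG`-module (file 6 of S4504)

`d1m_m1_main` (frozen header of `notes/S4504_headers.md`) = `d1m_m1g_main` (helper2: Lift (G5) + Jord + W3) followed by
`d1m_m1b_main` (section 5 (L) of `notes/S4504_helper9.md`).
-/

set_option autoImplicit false
set_option linter.unusedVariables false

namespace Cfsg.Agent.D1M

open Cfsg.Agent.BP Cfsg.Agent.D1 Representation

universe u v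

theorem d1m_m1_main {k : Type v} [Field k] [IsAlgClosed k] {G : Type u} [Group G] [Finite G]
    (p : ℕ) [hp : Fact p.Prime] [CharP k p] (hp5 : 5 ≤ p) (hsq : ¬ p ^ 2 ∣ Nat.card G) (x : G)
    (hx : orderOf x = p)
    (hperf : ⁅Subgroup.normalClosure ({x} : Set G), Subgroup.normalClosure ({x} : Set G)⁆
      = Subgroup.normalClosure ({x} : Set G))
    (haut : ∃ c ∈ Subgroup.normalClosure ({x} : Set G), ∃ a : ℕ, c * x * c⁻¹ = x ^ a ∧ x ^ a ≠ x)
    {d : ℕ} (hd : 2 * d + 1 ≤ p) (σ : Representation k G (Fin d → k)) (hx1 : σ x ≠ 1)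
    (hsimple : ∀ W : Submodule k (Fin d → k), (∀ g : G, W.map (σ g) ≤ W) → W = ⊥ ∨ W = ⊤) :
    ∃ (V : Type v) (_ : AddCommGroup V) (_ : Module k V) (τ : Representation k G V)
      (B : LinearMap.BilinForm k V),
      Module.finrank k V = 3 ∧ (∀ a b, B a b = B b a) ∧ (∀ a, (∀ b, B a b = 0) → a = 0) ∧
      (∀ g a b, B (τ g a) (τ g b) = B a b) ∧ (τ x - 1) ^ 2 ≠ 0 ∧
      (∀ z ∈ Subgroup.center G, τ z = 1) := by
  have hdim : 2 * Module.finrank k (Fin d → k) + 1 ≤ p := by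
    rw [Module.finrank_fin_fun]; exact hd
  obtain ⟨E0, w0, w1, w2, e, hE0N, hE0, hW⟩ := d1m_m1g_main p σ x hx hsq hx1 hdim hsimple
  have hp2 : p ≠ 2 := by omega
  exact d1m_m1b_main p σ hp2 hsq x hx hperf haut hdim hsimple E0 hE0N hE0 w0 w1 w2 e hW

end Cfsg.Agent.D1M
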