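import Cfsg.Agent.D1M.M1A
import Cfsg.Agent.D1M.M1Def

/-!
# D1M / M1B : from the `N`-summand `W'` of `End_k(S)` to the 3-dimensional orthogonal `kG`-module `M1`

`notes/S4504_helper9.md`, section 5 (L).  Input: the conclusion of `D1M/W3*` (helper7) in `G`-terms; output: a `kG`-module
`V` of dimension 3 with a non-degenerate invariant symmetric form on which `x` is a single Jordan block and on which the
centre of `G` acts trivially.
-/

set_option autoImplicit false
set_option linter.unusedVariables false
set_option linter.unusedSectionVars false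

namespace Cfsg.Agent.D1M

open Cfsg.Agent.BP Cfsg.Agent.D1 Representation

universe u v w

/-! ### the trace form on `End_k(S)` -/

section form

variable {k : Type v} [Field k] {S : Type w} [AddCommGroup S] [Module k S] [FiniteDimensional k S]

/-- the trace form `(A, C) ↦ tr (A C)` on `End_k(S)`. -/
noncomputable def d1m_m1b_form (k : Type v) [Field k] (S : Type w) [AddCommGroup S] [Module k S] :
    LinearMap.BilinForm k (Module.End k S) :=
  LinearMap.mk₂ k (fun A C => LinearMap.trace k S (A * C))
    (fun A A' C => by rw [add_mul, map_add])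
    (fun c A C => by rw [smul_mul_assoc, map_smul])
    (fun A C C' => by rw [mul_add, map_add])
    (fun c A C => by rw [mul_smul_comm, map_smul])

omit [FiniteDimensional k S] in
theorem d1m_m1b_form_apply (A C : Module.End k S) :
    d1m_m1b_form k S A C = LinearMap.trace k S (A * C) := rfl

omit [FiniteDimensional k S] in
theorem d1m_m1b_form_symm (A C : Module.End k S) :
    d1m_m1b_form k S A C = d1m_m1b_form k S C A := by
  rw [d1m_m1b_form_apply, d1m_m1b_form_apply, LinearMap.trace_mul_comm]

theorem d1m_m1b_form_sepLeft (A : Module.End k S) (hA : ∀ C, d1m_m1b_form k S A C = 0) :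
    A = 0 := by
  by_contra hne
  obtain ⟨v, hv⟩ : ∃ v, A v ≠ 0 := by
    by_contra h
    rw [not_exists] at h
    exact hne (LinearMap.ext fun v => by simpa using h v)
  obtain ⟨f, hf⟩ : ∃ f : Module.Dual k S, f (A v) ≠ 0 := by
    by_contra h
    rw [not_exists] at h
    exact hv ((Module.forall_dual_apply_eq_zero_iff k (A v)).mp fun f => by simpa using h f)
  have h1 := hA (f.smulRight v)
  rw [d1m_m1b_form_apply] at h1
  have h2 : A * f.smulRight v = f.smulRight (A v) := by
    ext s
    simp
  rw [h2, LinearMap.trace_smulRight] at h1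
  exact hf h1

theorem d1m_m1b_form_nondeg : (d1m_m1b_form k S).Nondegenerate :=
  ⟨d1m_m1b_form_sepLeft, fun C hC => d1m_m1b_form_sepLeft C fun A => by
    rw [d1m_m1b_form_symm]; exact hC A⟩

omit [FiniteDimensional k S] in
theorem d1m_m1b_form_inv {G : Type u} [Group G] (σ : Representation k G S) (g : G)
    (A C : Module.End k S) :
    d1m_m1b_form k S (linHom σ σ g A) (linHom σ σ g C) = d1m_m1b_form k S A C := by
  rw [d1m_m1b_form_apply, d1m_m1b_form_apply, linHom_apply, linHom_apply]
  have h1 : (σ g ∘ₗ A ∘ₗ σ g⁻¹) * (σ g ∘ₗ C ∘ₗ σ g⁻¹) = σ g * ((A * C) * σ g⁻¹) := by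
    have hinv : σ g⁻¹ * σ g = 1 := by rw [← map_mul, inv_mul_cancel, map_one]
    calc (σ g ∘ₗ A ∘ₗ σ g⁻¹) * (σ g ∘ₗ C ∘ₗ σ g⁻¹)
        = σ g * A * (σ g⁻¹ * σ g) * C * σ g⁻¹ := by
          simp only [Module.End.mul_eq_comp, LinearMap.comp_assoc]
      _ = σ g * ((A * C) * σ g⁻¹) := by rw [hinv, mul_one]; simp only [mul_assoc]
  rw [h1, LinearMap.trace_mul_comm, mul_assoc, ← map_mul, inv_mul_cancel, map_one, mul_one]

end form

/-! ### a unipotent isometry with one Jordan block on a 3-dimensional space -/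

section jordan

variable {k : Type v} [Field k] {V : Type w} [AddCommGroup V] [Module k V]
  (B : LinearMap.BilinForm k V) (t : V →ₗ[k] V) (v0 v1 v2 : V)

theorem d1m_m1b_gram (hBs : ∀ a b, B a b = B b a)
    (hinv : ∀ a b, B (a + t a) (b + t b) = B a b)
    (h01 : t v0 = v1) (h12 : t v1 = v2) (h2 : t v2 = 0) :
    B v2 v2 = 0 ∧ B v1 v2 = 0 ∧ B v1 v1 = -B v0 v2 := by
  have e1 := hinv v1 v2
  rw [h12, h2, add_zero] at e1
  -- B (v1 + v2) v2 = B v1 v2
  have e2 := hinv v0 v2
  rw [h01, h2, add_zero] at e2
  have e3 := hinv v0 v1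
  rw [h01, h12] at e3
  simp only [map_add, LinearMap.add_apply] at e1 e2 e3
  have a1 : B v2 v2 = 0 := by
    have := e1; linear_combination this
  have a2 : B v1 v2 = 0 := by
    have := e2; linear_combination this
  refine ⟨a1, a2, ?_⟩
  have a3 : B v1 v1 + B v0 v2 + B v1 v2 = 0 := by linear_combination e3
  rw [a2, add_zero] at a3
  linear_combination a3

theorem d1m_m1b_nondeg (hBs : ∀ a b, B a b = B b a)
    (hinv : ∀ a b, B (a + t a) (b + t b) = B a b)
    (h01 : t v0 = v1) (h12 : t v1 = v2) (h2 : t v2 = 0)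
    (hspan : ∀ a : V, ∃ α β γ : k, a = α • v0 + β • v1 + γ • v2)
    (hne : B v0 v2 ≠ 0) : ∀ a, (∀ b, B a b = 0) → a = 0 := by
  obtain ⟨g22, g12, g11⟩ := d1m_m1b_gram B t v0 v1 v2 hBs hinv h01 h12 h2
  intro a ha
  obtain ⟨α, β, γ, rfl⟩ := hspan a
  have e2 := ha v2
  simp only [map_add, map_smul, LinearMap.add_apply, LinearMap.smul_apply, smul_eq_mul, g22, g12,
    mul_zero, add_zero] at e2
  have hα : α = 0 := by
    rcases mul_eq_zero.mp e2 with h | h
    · exact h
    · exact absurd h hne
  have e1 := ha v1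
  simp only [map_add, map_smul, LinearMap.add_apply, LinearMap.smul_apply, smul_eq_mul, hα,
    zero_mul, zero_add, g11, hBs v2 v1, g12, mul_zero, add_zero] at e1
  have hβ : β = 0 := by
    rcases mul_eq_zero.mp e1 with h | h
    · exact h
    · exact absurd (neg_eq_zero.mp h) hne
  have e0 := ha v0
  simp only [map_add, map_smul, LinearMap.add_apply, LinearMap.smul_apply, smul_eq_mul, hα, hβ,
    zero_mul, zero_add, hBs v2 v0] at e0
  have hγ : γ = 0 := by
    rcases mul_eq_zero.mp e0 with h | h
    · exact h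
    · exact absurd h hne
  rw [hα, hβ, hγ]
  simp

theorem d1m_m1b_deg (h2k : (2 : k) ≠ 0) (hBs : ∀ a b, B a b = B b a)
    (hinv : ∀ a b, B (a + t a) (b + t b) = B a b)
    (h01 : t v0 = v1) (h12 : t v1 = v2) (h2 : t v2 = 0)
    (hspan : ∀ a : V, ∃ α β γ : k, a = α • v0 + β • v1 + γ • v2)
    (h0 : B v0 v2 = 0) : (∀ b, B v1 b = 0) ∧ (∀ b, B v2 b = 0) := by
  obtain ⟨g22, g12, g11⟩ := d1m_m1b_gram B t v0 v1 v2 hBs hinv h01 h12 h2
  rw [h0, neg_zero] at g11
  have g01 : B v0 v1 = 0 := by
    have e := hinv v0 v0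
    rw [h01] at e
    simp only [map_add, LinearMap.add_apply, g11, add_zero, hBs v1 v0] at e
    have : (2 : k) * B v0 v1 = 0 := by linear_combination e
    rcases mul_eq_zero.mp this with h | h
    · exact absurd h h2k
    · exact h
  constructor
  · intro b
    obtain ⟨α, β, γ, rfl⟩ := hspan b
    simp only [map_add, map_smul, smul_eq_mul, hBs v1 v0, g01, g11, g12, mul_zero, add_zero]
  · intro b
    obtain ⟨α, β, γ, rfl⟩ := hspan b
    simp only [map_add, map_smul, smul_eq_mul, hBs v2 v0, h0, hBs v2 v1, g12, g22, mul_zero,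
      add_zero]

end jordan

/-! ### characters of a group with perfect normal closure of `x` -/

section perfect

variable {k : Type v} [Field k] {G : Type u} [Group G]

/-- a multiplicative function into a field is trivial on the normal closure of `x` when this closure is perfect. -/
theorem d1m_m1b_perfect_char (lam : G → k) (h1 : lam 1 = 1)
    (hmul : ∀ g h, lam (g * h) = lam g * lam h) (x : G)
    (hperf : ⁅Subgroup.normalClosure ({x} : Set G), Subgroup.normalClosure ({x} : Set G)⁆
      = Subgroup.normalClosure ({x} : Set G)) :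
    ∀ c ∈ Subgroup.normalClosure ({x} : Set G), lam c = 1 := by
  have hinv : ∀ g, lam g * lam g⁻¹ = 1 := fun g => by rw [← hmul, mul_inv_cancel, h1]
  let K : Subgroup G :=
    { carrier := {g | lam g = 1}
      one_mem' := h1
      mul_mem' := by
        intro a b ha hb
        show lam (a * b) = 1
        rw [hmul, ha, hb, mul_one]
      inv_mem' := by
        intro a ha
        show lam a⁻¹ = 1
        have := hinv a
        rw [ha, one_mul] at this
        exact this }
  have hle : ⁅Subgroup.normalClosure ({x} : Set G), Subgroup.normalClosure ({x} : Set G)⁆ ≤ K := by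
    rw [Subgroup.commutator_le]
    intro g _ h _
    show lam (g * h * g⁻¹ * h⁻¹) = 1
    rw [hmul, hmul, hmul]
    calc lam g * lam h * lam g⁻¹ * lam h⁻¹ = (lam g * lam g⁻¹) * (lam h * lam h⁻¹) := by ring
      _ = 1 := by rw [hinv, hinv, mul_one]
  rw [hperf] at hle
  exact fun c hc => hle hc

end perfect

/-! ### the main theorem -/

section main

variable {k : Type v} [Field k] [IsAlgClosed k] {G : Type u} [Group G] [Finite G] (p : ℕ)
  [hp : Fact p.Prime] [CharP k p] {S : Type w} [AddCommGroup S] [Module k S]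
  [FiniteDimensional k S] (σ : Representation k G S)

omit [Finite G] in
/-- Schur: a central element acts on a simple module by a scalar, hence trivially by conjugation. -/
theorem d1m_m1b_center_ad [Nontrivial S]
    (hsimple : ∀ W : Submodule k S, (∀ g : G, W.map (σ g) ≤ W) → W = ⊥ ∨ W = ⊤)
    (z : G) (hz : z ∈ Subgroup.center G) (A : Module.End k S) : linHom σ σ z A = A := by
  obtain ⟨c, hc⟩ := Module.End.exists_eigenvalue (σ z)
  have hst : ∀ g : G, (Module.End.eigenspace (σ z) c).map (σ g) ≤ Module.End.eigenspace (σ z) c := by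
    rintro g _ ⟨w, hw, rfl⟩
    rw [SetLike.mem_coe, Module.End.mem_eigenspace_iff] at hw
    rw [Module.End.mem_eigenspace_iff, ← Module.End.mul_apply, ← map_mul,
      (Subgroup.mem_center_iff.mp hz g).symm, map_mul, Module.End.mul_apply, hw, map_smul]
  have htop : Module.End.eigenspace (σ z) c = ⊤ := by
    rcases hsimple _ hst with h | h
    · exact absurd h hc
    · exact h
  have hz1 : σ z = c • 1 := by
    ext v
    have : v ∈ Module.End.eigenspace (σ z) c := htop ▸ Submodule.mem_top
    rw [Module.End.mem_eigenspace_iff] at this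
    rw [this]; rfl
  have hzz : σ z * σ z⁻¹ = 1 := by rw [← map_mul, mul_inv_cancel, map_one]
  rw [linHom_apply]
  calc σ z ∘ₗ A ∘ₗ σ z⁻¹ = σ z * (A * σ z⁻¹) := rfl
    _ = (c • 1) * (A * σ z⁻¹) := by rw [hz1]
    _ = A * ((c • 1) * σ z⁻¹) := by
        rw [smul_mul_assoc, one_mul, smul_mul_assoc, one_mul, mul_smul_comm]
    _ = A * (σ z * σ z⁻¹) := by rw [hz1]
    _ = A := by rw [hzz, mul_one]

theorem d1m_m1b_main (hp2 : p ≠ 2) (hsq : ¬ p ^ 2 ∣ Nat.card G) (x : G) (hx : orderOf x = p)
    (hperf : ⁅Subgroup.normalClosure ({x} : Set G), Subgroup.normalClosure ({x} : Set G)⁆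
      = Subgroup.normalClosure ({x} : Set G))
    (haut : ∃ c ∈ Subgroup.normalClosure ({x} : Set G), ∃ a : ℕ, c * x * c⁻¹ = x ^ a ∧ x ^ a ≠ x)
    (hdim : 2 * Module.finrank k S + 1 ≤ p)
    (hsimple : ∀ W : Submodule k S, (∀ g : G, W.map (σ g) ≤ W) → W = ⊥ ∨ W = ⊤)
    (E0 : Subgroup G)
    (hE0N : E0 ≤ Subgroup.normalizer ((Subgroup.zpowers x : Subgroup G) : Set G))
    (hE0 : ∀ c ∈ Subgroup.normalizer ((Subgroup.zpowers x : Subgroup G) : Set G),
      ∃ (i : ℕ) (e0 : G), e0 ∈ E0 ∧ c = x ^ i * e0)
    (w0 w1 w2 : Module.End k S) (e : Module.End k (Module.End k S))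
    (hW : d1m_IsW3 σ x E0 w0 w1 w2 e) :
    ∃ (V : Type w) (_ : AddCommGroup V) (_ : Module k V) (τ : Representation k G V)
      (B : LinearMap.BilinForm k V),
      Module.finrank k V = 3 ∧ (∀ a b, B a b = B b a) ∧ (∀ a, (∀ b, B a b = 0) → a = 0) ∧
      (∀ g a b, B (τ g a) (τ g b) = B a b) ∧ (τ x - 1) ^ 2 ≠ 0 ∧
      (∀ z ∈ Subgroup.center G, τ z = 1) := by
  classical
  obtain ⟨h1, h2, h3, h4, hli, hee, hrange, hex, heE, hadj, htop⟩ := hW
  have hnt : Nontrivial S := by
    by_contra hS
    rw [not_nontrivial_iff_subsingleton] at hS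
    exact h4 (LinearMap.ext fun v => Subsingleton.elim _ _)
  obtain ⟨P, hP⟩ := d1m_sylow_of_order p hx hsq
  have hcardP : Nat.card (P : Subgroup G) = p := by rw [hP, Nat.card_zpowers, hx]
  have hPN : (P : Subgroup G) ≤ Subgroup.normalizer ((P : Subgroup G) : Set G) :=
    Subgroup.le_normalizer
  have hNeq : Subgroup.normalizer ((P : Subgroup G) : Set G)
      = Subgroup.normalizer ((Subgroup.zpowers x : Subgroup G) : Set G) := by rw [hP]
  have hxP : x ∈ (P : Subgroup G) := by rw [hP]; exact Subgroup.mem_zpowers x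
  have hxN : x ∈ Subgroup.normalizer ((P : Subgroup G) : Set G) := hPN hxP
  have hd2 : 2 * Module.finrank k S ≤ p := by omega
  -- unipotence of `Ad y` for `y ∈ P`
  have htM : ∀ y ∈ (P : Subgroup G), (linHom σ σ y - 1) ^ (p - 1) = 0 := by
    intro y hy
    have hyp : y ^ p = 1 := by
      have h1 : orderOf (⟨y, hy⟩ : (P : Subgroup G)) ∣ Nat.card (P : Subgroup G) :=
        orderOf_dvd_natCard _
      rw [Subgroup.orderOf_mk, hcardP] at h1
      exact orderOf_dvd_iff_pow_eq_one.mp h1
    have hnil : IsNilpotent (σ y - 1) := ⟨p, d1m_lift_unip p hyp⟩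
    exact d1m_lift_unip_end p hd2 (d1m_lift_nilp_finrank hnil le_rfl)
  -- `e` is an `N`-homomorphism
  have hexpow : ∀ (i : ℕ) (A : Module.End k S),
      e ((linHom σ σ x ^ i) A) = (linHom σ σ x ^ i) (e A) := by
    intro i
    induction i with
    | zero => intro A; simp
    | succ i ih =>
      intro A
      rw [pow_succ, Module.End.mul_apply, ih, hex, ← Module.End.mul_apply, ← pow_succ]
  have heN : d1_IsHom (linHom σ σ) (linHom σ σ)
      (Subgroup.normalizer ((P : Subgroup G) : Set G)) e := by
    rw [d1_isHom_iff]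
    intro g hg
    rw [hNeq] at hg
    obtain ⟨i, e0, he0, rfl⟩ := hE0 g hg
    ext A : 1
    rw [LinearMap.comp_apply, LinearMap.comp_apply, map_mul, map_pow, Module.End.mul_apply,
      hexpow, heE e0 he0, ← Module.End.mul_apply]
  -- lifting
  obtain ⟨e', hidem', he'G, hd⟩ := d1m_lift_idem p P hcardP htM heN hee
  obtain ⟨u, huN, hu⟩ :=
    d1m_lift_equiv p hcardP hPN htM heN (he'G.mono le_top) hee hidem' hd
  have hur := d1m_lift_range u hu
  -- `R = range e'` is `G`-stable
  have hRst : ∀ g : G, (LinearMap.range e').map (linHom σ σ g) ≤ LinearMap.range e' := by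
    rintro g _ ⟨_, ⟨A, rfl⟩, rfl⟩
    exact ⟨linHom σ σ g A, d1_isHom_apply he'G (Subgroup.mem_top g) A⟩
  have huAd : ∀ g ∈ Subgroup.normalizer ((P : Subgroup G) : Set G), ∀ A,
      u (linHom σ σ g A) = linHom σ σ g (u A) := fun g hg A => d1_isHom_apply huN hg A
  -- the Jordan chain in `R`
  have hv01 : linHom σ σ x (u w0) - u w0 = u w1 := by
    rw [← huAd x hxN, ← map_sub, ← h1]
  have hv12 : linHom σ σ x (u w1) - u w1 = u w2 := by
    rw [← huAd x hxN, ← map_sub, ← h2]
  have hv2 : linHom σ σ x (u w2) = u w2 := by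
    rw [← huAd x hxN, h3]
  have hv2ne : u w2 ≠ 0 := fun h => h4 (u.map_eq_zero_iff.mp h)
  have hwspan : ∀ i : Fin 3, ![w0, w1, w2] i ∈ Submodule.span k ({w0, w1, w2} : Set (Module.End k S)) := by
    intro i
    apply Submodule.subset_span
    fin_cases i <;> simp
  have hmemR : ∀ b ∈ Submodule.span k ({w0, w1, w2} : Set (Module.End k S)), u b ∈ LinearMap.range e' := by
    intro b hb
    rw [← hur, hrange]
    exact Submodule.mem_map_of_mem hb
  have hv0R : u w0 ∈ LinearMap.range e' := hmemR _ (hwspan 0)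
  have hv1R : u w1 ∈ LinearMap.range e' := hmemR _ (hwspan 1)
  have hv2R : u w2 ∈ LinearMap.range e' := hmemR _ (hwspan 2)
  have hspanR : ∀ a ∈ LinearMap.range e', ∃ α β γ : k, a = α • u w0 + β • u w1 + γ • u w2 := by
    intro a ha
    rw [← hur, hrange] at ha
    obtain ⟨b, hb, rfl⟩ := ha
    obtain ⟨α, β, γ, rfl⟩ := Submodule.mem_span_triple.mp hb
    exact ⟨α, β, γ, by simp⟩
  have hfin : Module.finrank k (LinearMap.range e') = 3 := by
    rw [← hur, LinearEquiv.finrank_map_eq, hrange]
    have h := finrank_span_eq_card hli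
    have hr : Set.range ![w0, w1, w2] = ({w0, w1, w2} : Set (Module.End k S)) := by
      ext a
      simp only [Set.mem_range, Set.mem_insert_iff, Set.mem_singleton_iff]
      constructor
      · rintro ⟨i, rfl⟩
        fin_cases i <;> simp
      · rintro (rfl | rfl | rfl)
        · exact ⟨0, rfl⟩
        · exact ⟨1, rfl⟩
        · exact ⟨2, rfl⟩
    rw [hr] at h
    rw [h]; rfl
  -- the module, the form
  set R : Submodule k (Module.End k S) := LinearMap.range e' with hRdef
  set F := d1m_m1b_form k S with hFdef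
  have hFnd : F.Nondegenerate := d1m_m1b_form_nondeg
  have hFinv : ∀ (g : G) (A C : Module.End k S), F (linHom σ σ g A) (linHom σ σ g C) = F A C :=
    d1m_m1b_form_inv σ
  have hτ : ∀ (a : Module.End k S) (ha : a ∈ R),
      (d1m_min_sub (linHom σ σ) R hRst x - 1) ⟨a, ha⟩
        = (⟨linHom σ σ x a - a, R.sub_mem (hRst x (Submodule.mem_map_of_mem ha)) ha⟩ : R) := by
    intro a ha
    apply Subtype.ext
    simp [d1m_min_sub]
  refine ⟨R, inferInstance, inferInstance, d1m_min_sub (linHom σ σ) R hRst, F.restrict R, hfin,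
    fun a b => ?_, ?_, fun g a b => ?_, ?_, fun z hz => ?_⟩
  · -- symmetric
    simp only [LinearMap.BilinForm.restrict_apply]
    exact d1m_m1b_form_symm _ _
  · -- non-degenerate
    have h2k : (2 : k) ≠ 0 := by
      intro h
      have h' : ((2 : ℕ) : k) = 0 := by exact_mod_cast h
      rw [CharP.cast_eq_zero_iff k p] at h'
      exact hp2 ((Nat.prime_dvd_prime_iff_eq hp.out Nat.prime_two).mp h')
    have hBs : ∀ a b : R, (F.restrict R) a b = (F.restrict R) b a := fun a b => by
      simp only [LinearMap.BilinForm.restrict_apply]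
      exact d1m_m1b_form_symm _ _
    have hinvt : ∀ a b : R, (F.restrict R) (a + (d1m_min_sub (linHom σ σ) R hRst x - 1) a)
        (b + (d1m_min_sub (linHom σ σ) R hRst x - 1) b) = (F.restrict R) a b := by
      intro a b
      have e1 : ∀ c : R, c + (d1m_min_sub (linHom σ σ) R hRst x - 1) c
          = d1m_min_sub (linHom σ σ) R hRst x c := fun c => by
        rw [LinearMap.sub_apply, Module.End.one_apply]; abel
      rw [e1, e1]
      simp only [LinearMap.BilinForm.restrict_apply]
      exact hFinv x a b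
    have h01' : (d1m_min_sub (linHom σ σ) R hRst x - 1) ⟨u w0, hv0R⟩ = ⟨u w1, hv1R⟩ := by
      rw [hτ, Subtype.mk.injEq]; exact hv01
    have h12' : (d1m_min_sub (linHom σ σ) R hRst x - 1) ⟨u w1, hv1R⟩ = ⟨u w2, hv2R⟩ := by
      rw [hτ, Subtype.mk.injEq]; exact hv12
    have h2' : (d1m_min_sub (linHom σ σ) R hRst x - 1) ⟨u w2, hv2R⟩ = 0 := by
      rw [hτ]; apply Subtype.ext; simp only [ZeroMemClass.coe_zero]; rw [hv2, sub_self]
    have hspan' : ∀ a : R, ∃ α β γ : k,
        a = α • (⟨u w0, hv0R⟩ : R) + β • (⟨u w1, hv1R⟩ : R) + γ • (⟨u w2, hv2R⟩ : R) := by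
      rintro ⟨a, ha⟩
      obtain ⟨α, β, γ, rfl⟩ := hspanR a ha
      exact ⟨α, β, γ, Subtype.ext (by simp)⟩
    by_cases hβ : (F.restrict R) ⟨u w0, hv0R⟩ ⟨u w2, hv2R⟩ = 0
    · exfalso
      obtain ⟨hr1, hr2⟩ := d1m_m1b_deg (F.restrict R) _ _ _ _ h2k hBs hinvt h01' h12' h2' hspan' hβ
      have hF1 : ∀ b ∈ R, F (u w1) b = 0 := fun b hb => hr1 ⟨b, hb⟩
      have hF2 : ∀ b ∈ R, F (u w2) b = 0 := fun b hb => hr2 ⟨b, hb⟩
      have hFs : ∀ A C, F A C = F C A := d1m_m1b_form_symm
      by_cases hγ : F (u w0) (u w0) = 0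
      · -- `F` vanishes on `R`: the adjoint argument
        have hzero : ∀ a ∈ R, ∀ b ∈ R, F a b = 0 := by
          intro a ha b hb
          obtain ⟨α, β, γ', rfl⟩ := hspanR a ha
          have h0b : F (u w0) b = 0 := by
            obtain ⟨α', β', γ'', rfl⟩ := hspanR b hb
            rw [hFs]
            simp only [map_add, map_smul, LinearMap.add_apply, LinearMap.smul_apply, smul_eq_mul,
              hγ, hF1 _ hv0R, hF2 _ hv0R, mul_zero, add_zero]
          simp only [map_add, map_smul, LinearMap.add_apply, LinearMap.smul_apply, smul_eq_mul,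
            h0b, hF1 b hb, hF2 b hb, mul_zero, add_zero]
        set e'' := F.leftAdjointOfNondegenerate hFnd e' with he''def
        have hadj' : ∀ v w, F (e'' v) w = F v (e' w) :=
          F.isAdjointPairLeftAdjointOfNondegenerate hFnd e'
        have he''G : d1_IsHom (linHom σ σ) (linHom σ σ) ⊤ e'' :=
          d1m_lift_adjoint_isHom F hFnd hFinv hadj' he'G
        have hadjd : ∀ v w, F ((e'' - e) v) w = F v ((e' - e) w) := by
          intro v w
          rw [LinearMap.sub_apply, LinearMap.sub_apply, map_sub, LinearMap.sub_apply, map_sub,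
            hadj']
          congr 1
          exact hadj v w
        have hd'' : d1_IsPr (linHom σ σ) (linHom σ σ)
            (Subgroup.normalizer ((P : Subgroup G) : Set G)) (e'' - e) :=
          d1m_lift_adjoint_isPr F hFnd hFinv hadjd hd
        have hzz : e'' * e' = 0 := by
          apply LinearMap.ext
          intro A
          apply hFnd.1
          intro C
          rw [Module.End.mul_apply, hadj']
          exact hzero _ ⟨A, rfl⟩ _ ⟨C, rfl⟩
        have hid : e'' * e' - e = e'' * (e' - e) + (e'' - e) * e := by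
          rw [mul_sub, sub_mul, hee.eq]; abel
        have hpr : d1_IsPr (linHom σ σ) (linHom σ σ)
            (Subgroup.normalizer ((P : Subgroup G) : Set G)) (e'' * e' - e) := by
          rw [hid]
          exact (hd.comp_left (he''G.mono le_top)).add (hd''.comp_right heN)
        rw [hzz, zero_sub] at hpr
        have hpre : d1_IsPr (linHom σ σ) (linHom σ σ)
            (Subgroup.normalizer ((P : Subgroup G) : Set G)) e := by
          have := hpr.smul (-1)
          simpa using this
        have he0 := d1m_lift_isPr_idem_zero p hcardP hPN htM hee hpre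
        have hw2 : w2 ∈ LinearMap.range e := hrange ▸ hwspan 2
        obtain ⟨A, hA⟩ := hw2
        rw [he0, LinearMap.zero_apply] at hA
        exact h4 hA.symm
      · -- the top layer gives a character of `G` which is non-trivial on `Hx`
        have hAdR : ∀ (g : G) (a : Module.End k S), a ∈ R → linHom σ σ g a ∈ R :=
          fun g a ha => hRst g (Submodule.mem_map_of_mem ha)
        have hback : ∀ (g : G) (b : Module.End k S),
            b = linHom σ σ g (linHom σ σ g⁻¹ b) := fun g b => by
          rw [← Module.End.mul_apply, ← map_mul, mul_inv_cancel, map_one, Module.End.one_apply]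
        have hF1g : ∀ (g : G) (b : Module.End k S), b ∈ R → F (linHom σ σ g (u w1)) b = 0 := by
          intro g b hb
          rw [hback g b, hFinv]
          exact hF1 _ (hAdR g⁻¹ b hb)
        have hF2g : ∀ (g : G) (b : Module.End k S), b ∈ R → F (linHom σ σ g (u w2)) b = 0 := by
          intro g b hb
          rw [hback g b, hFinv]
          exact hF2 _ (hAdR g⁻¹ b hb)
        set γ := F (u w0) (u w0) with hγdef
        let lam : G → k := fun g => F (linHom σ σ g (u w0)) (u w0) * γ⁻¹
        have hlam1 : lam 1 = 1 := by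
          show F (linHom σ σ 1 (u w0)) (u w0) * γ⁻¹ = 1
          rw [map_one, Module.End.one_apply]
          exact mul_inv_cancel₀ hγ
        have hlammul : ∀ g h, lam (g * h) = lam g * lam h := by
          intro g h
          obtain ⟨α, β, γ', hα⟩ := hspanR (linHom σ σ h (u w0)) (hAdR h _ hv0R)
          have hαv : F (linHom σ σ h (u w0)) (u w0) = α * γ := by
            rw [hα]
            simp only [map_add, map_smul, LinearMap.add_apply, LinearMap.smul_apply, smul_eq_mul,
              hF1 _ hv0R, hF2 _ hv0R, mul_zero, add_zero]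
            rfl
          show F (linHom σ σ (g * h) (u w0)) (u w0) * γ⁻¹
            = (F (linHom σ σ g (u w0)) (u w0) * γ⁻¹) * (F (linHom σ σ h (u w0)) (u w0) * γ⁻¹)
          rw [hαv, map_mul, Module.End.mul_apply, hα]
          simp only [map_add, map_smul, LinearMap.add_apply, LinearMap.smul_apply, smul_eq_mul,
            hF1g g _ hv0R, hF2g g _ hv0R, mul_zero, add_zero]
          field_simp
        have hlamH := d1m_m1b_perfect_char lam hlam1 hlammul x hperf
        obtain ⟨c, hcH, a, hca, hane⟩ := haut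
        have hcN : c ∈ Subgroup.normalizer ((Subgroup.zpowers x : Subgroup G) : Set G) := by
          apply Subgroup.mem_normalizer_fintype
          intro n hn
          obtain ⟨j, rfl⟩ := Subgroup.mem_zpowers_iff.mp hn
          rw [← conj_zpow, hca]
          exact Subgroup.zpow_mem _ (Subgroup.pow_mem _ (Subgroup.mem_zpowers x) a) j
        obtain ⟨i, e0, he0, rfl⟩ := hE0 c hcN
        have he0x : e0 * x * e0⁻¹ = x ^ a := by
          have h5 : e0 * x * e0⁻¹ = (x ^ i)⁻¹ * ((x ^ i * e0) * x * (x ^ i * e0)⁻¹) * x ^ i := by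
            group
          have hc : Commute (x ^ i) (x ^ a) := (Commute.refl x).pow_pow i a
          rw [h5, hca, mul_assoc, ← hc.eq, ← mul_assoc, inv_mul_cancel, one_mul]
        have hlamx : lam x = 1 := by
          show F (linHom σ σ x (u w0)) (u w0) * γ⁻¹ = 1
          have h5 : linHom σ σ x (u w0) = u w0 + u w1 := by rw [← hv01]; abel
          rw [h5, map_add, LinearMap.add_apply, hF1 _ hv0R, add_zero]
          exact mul_inv_cancel₀ hγ
        have hlampow : ∀ j : ℕ, lam (x ^ j) = 1 := by
          intro j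
          induction j with
          | zero => rw [pow_zero]; exact hlam1
          | succ j ih => rw [pow_succ, hlammul, ih, hlamx, one_mul]
        have hlame0 : (a : k) * lam e0 = 1 := by
          have h5 := htop e0 he0 a he0x
          have h6 : (a : k) • linHom σ σ e0 (u w0) = u w0 := by
            rw [← huAd e0 (hNeq ▸ hE0N he0), ← map_smul, h5]
          show (a : k) * (F (linHom σ σ e0 (u w0)) (u w0) * γ⁻¹) = 1
          rw [← mul_assoc, ← smul_eq_mul (a := (a : k)), ← LinearMap.smul_apply, ← map_smul, h6]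
          exact mul_inv_cancel₀ hγ
        have hc1 := hlamH _ hcH
        rw [hlammul, hlampow, one_mul] at hc1
        rw [hc1, mul_one] at hlame0
        have h7 : (a : k) = ((1 : ℕ) : k) := by rw [hlame0, Nat.cast_one]
        have hmod := (CharP.natCast_eq_natCast k p).mp h7
        apply hane
        have h8 : x ^ a = x ^ 1 := pow_eq_pow_iff_modEq.mpr (hx ▸ hmod)
        rw [h8, pow_one]
    · exact d1m_m1b_nondeg (F.restrict R) _ _ _ _ hBs hinvt h01' h12' h2' hspan' hβ
  · -- invariant
    simp only [LinearMap.BilinForm.restrict_apply]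
    exact hFinv g a b
  · -- Jordan block
    intro h
    have h5 := LinearMap.congr_fun h ⟨u w0, hv0R⟩
    rw [pow_two, Module.End.mul_apply, hτ, LinearMap.zero_apply] at h5
    have h6 := congrArg (fun z : R => (z : Module.End k S)) h5
    simp only [ZeroMemClass.coe_zero] at h6
    rw [hτ] at h6
    simp only at h6
    rw [hv01, hv12] at h6
    exact hv2ne h6
  · -- centre
    ext ⟨A, hA⟩ : 2
    simp only [d1m_min_sub, MonoidHom.coe_mk, OneHom.coe_mk, LinearMap.coe_restrict_apply,
      Module.End.one_apply]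
    exact d1m_m1b_center_ad σ hsimple z hz A

end main

end Cfsg.Agent.D1M
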