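import Mathlib

/-!
# D1M / NormCompl : a `p`-group quotient forces `N(P) = C(P)` when `p ∥ |H|`

Pure group theory used in `notes/S4504_helper9.md`, (S) and section 8: if `K ⊴ H` with `h ^ p ∈ K`
for all `h` and `p ^ 2 ∤ |H|`, then `H ⧸ K` is commutative; hence a subgroup `P` with `P ⊓ K = ⊥`
is centralized by its normalizer.
-/

set_option autoImplicit false

namespace Cfsg.Agent.D1M

open scoped commutatorElement

/-- if `K` is normal in `H`, every `p`-th power lies in `K` and `p ^ 2 ∤ |H|`, then `[H, H] ≤ K`. -/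
theorem d1m_nc_commutator_le {H : Type*} [Group H] [Finite H] (p : ℕ) [hp : Fact p.Prime]
    (hp2 : ¬ p ^ 2 ∣ Nat.card H) (K : Subgroup H) [K.Normal] (hexp : ∀ h : H, h ^ p ∈ K) :
    commutator H ≤ K := by
  classical
  have hpg : IsPGroup p (H ⧸ K) := by
    intro q
    induction q using QuotientGroup.induction_on with
    | H h =>
      refine ⟨1, ?_⟩
      rw [pow_one, ← QuotientGroup.mk_pow, QuotientGroup.eq_one_iff]
      exact hexp h
  obtain ⟨m, hm⟩ := IsPGroup.iff_card.1 hpg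
  have hdvd : Nat.card (H ⧸ K) ∣ Nat.card H := Subgroup.card_quotient_dvd_card K
  have hm1 : m ≤ 1 := by
    by_contra hlt
    rw [not_le] at hlt
    apply hp2
    exact dvd_trans (pow_dvd_pow p hlt) (hm ▸ hdvd)
  have hcomm : ∀ a b : H ⧸ K, a * b = b * a := by
    interval_cases m
    · have h1 : Nat.card (H ⧸ K) = 1 := by simpa using hm
      have : Subsingleton (H ⧸ K) := (Nat.card_eq_one_iff_unique.1 h1).1
      intro a b
      rw [Subsingleton.elim a b]
    · have h1 : Nat.card (H ⧸ K) = p := by simpa using hm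
      have : IsCyclic (H ⧸ K) := isCyclic_of_prime_card h1
      intro a b
      exact IsCyclic.commGroup.mul_comm a b
  exact Subgroup.Normal.quotient_commutative_iff_commutator_le.1 ⟨⟨hcomm⟩⟩

/-- **no non-trivial `p`-quotient**: with `K ⊴ H`, `H / K` of exponent `p`, `p ^ 2 ∤ |H|` and
`P ⊓ K = ⊥`, the normalizer of `P` centralizes `P`. -/
theorem d1m_nc_main {H : Type*} [Group H] [Finite H] (p : ℕ) [hp : Fact p.Prime]
    (hp2 : ¬ p ^ 2 ∣ Nat.card H) (K : Subgroup H) [K.Normal] (hexp : ∀ h : H, h ^ p ∈ K)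
    (P : Subgroup H) (hPK : P ⊓ K = ⊥) :
    ∀ n ∈ Subgroup.normalizer (P : Set H), ∀ x ∈ P, n * x = x * n := by
  intro n hn x hx
  have hc := d1m_nc_commutator_le p hp2 K hexp
  have h1 : ⁅n, x⁆ ∈ K := by
    apply hc
    rw [commutator_def]
    exact Subgroup.commutator_mem_commutator (Subgroup.mem_top n) (Subgroup.mem_top x)
  have h2 : ⁅n, x⁆ ∈ P := by
    rw [commutatorElement_def]
    have h3 : n * x * n⁻¹ ∈ P := (Subgroup.mem_normalizer_iff.1 hn x).1 hx
    exact P.mul_mem h3 (P.inv_mem hx)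
  have h3 : ⁅n, x⁆ ∈ P ⊓ K := Subgroup.mem_inf.2 ⟨h2, h1⟩
  rw [hPK, Subgroup.mem_bot, commutatorElement_eq_one_iff_mul_comm] at h3
  exact h3

/-- the version inside an ambient group: `K, H ≤ G`, `K` normalized by `H`, `h ^ p ∈ K` for
`h ∈ H`, `p ^ 2 ∤ |H|`, `P ≤ H`, `P ⊓ K = ⊥`: every element of `H` normalizing `P` centralizes `P`. -/
theorem d1m_nc_sub {G : Type*} [Group G] [Finite G] (p : ℕ) [hp : Fact p.Prime]
    (H K P : Subgroup G) (hp2 : ¬ p ^ 2 ∣ Nat.card H)
    (hKn : ∀ h ∈ H, ∀ k ∈ K, h * k * h⁻¹ ∈ K) (hexp : ∀ h ∈ H, h ^ p ∈ K)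
    (hPH : P ≤ H) (hPK : P ⊓ K = ⊥) :
    ∀ n ∈ H, n ∈ Subgroup.normalizer (P : Set G) → ∀ x ∈ P, n * x = x * n := by
  intro n hnH hn x hx
  haveI : (K.subgroupOf H).Normal := by
    constructor
    intro k hk h
    rw [Subgroup.mem_subgroupOf] at hk ⊢
    exact hKn h h.2 k hk
  have hexp' : ∀ h : H, h ^ p ∈ K.subgroupOf H := by
    intro h
    rw [Subgroup.mem_subgroupOf]
    exact hexp h h.2
  have hPK' : P.subgroupOf H ⊓ K.subgroupOf H = ⊥ := by
    rw [eq_bot_iff]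
    intro y hy
    rw [Subgroup.mem_inf, Subgroup.mem_subgroupOf, Subgroup.mem_subgroupOf] at hy
    have h1 : (y : G) ∈ P ⊓ K := Subgroup.mem_inf.2 hy
    rw [hPK, Subgroup.mem_bot] at h1
    rw [Subgroup.mem_bot]
    exact Subtype.ext h1
  have hn' : (⟨n, hnH⟩ : H) ∈ Subgroup.normalizer ((P.subgroupOf H : Subgroup H) : Set H) := by
    rw [Subgroup.mem_normalizer_iff]
    intro y
    rw [Subgroup.mem_subgroupOf, Subgroup.mem_subgroupOf]
    exact Subgroup.mem_normalizer_iff.1 hn y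
  have := d1m_nc_main p hp2 (K.subgroupOf H) hexp' (P.subgroupOf H) hPK' ⟨n, hnH⟩ hn'
    ⟨x, hPH hx⟩ (by rw [Subgroup.mem_subgroupOf]; exact hx)
  exact congrArg Subtype.val this

end Cfsg.Agent.D1M
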