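import Mathlib

/-!
# D1M / W3A : the operator calculus `Ad(x) - 1 = (ad X) U`

`notes/S4504_helper9.md`, section 5 (W), first half.  `A` is a `k`-algebra, `X ∈ A`, `x = F(X)`
invertible with inverse `xi = Fi(X)`.  On `A` we have the commuting operators `L = (X * ·)`,
`R = (· * X)` and
`T := Ad(x) - 1 = (L - R) * U`, `U := Φ * R_xi`, with `Φ = ∑_j F_j ∑_{i<j} L^i R^(j-1-i)`.
For `Z` commuting with `X`: `U Z = F'(X) * Z * xi`.
-/

set_option autoImplicit false

namespace Cfsg.Agent.D1M

open Polynomial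

section Alg

variable {k : Type*} [Field k] {A : Type*} [Ring A] [Algebra k A]

/-- left multiplication by a polynomial in `X`. -/
theorem d1m_w3_mulLeft_aeval (X : A) (F : k[X]) :
    LinearMap.mulLeft k (aeval X F) = aeval (LinearMap.mulLeft k X) F := by
  induction F using Polynomial.induction_on' with
  | add f g hf hg =>
    rw [map_add, map_add, ← hf, ← hg]
    ext Z
    simp [add_mul]
  | monomial n c =>
    rw [aeval_monomial, aeval_monomial, LinearMap.pow_mulLeft]
    ext Z
    simp [Algebra.algebraMap_eq_smul_one]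

/-- right multiplication by a polynomial in `X`. -/
theorem d1m_w3_mulRight_aeval (X : A) (F : k[X]) :
    LinearMap.mulRight k (aeval X F) = aeval (LinearMap.mulRight k X) F := by
  induction F using Polynomial.induction_on' with
  | add f g hf hg =>
    rw [map_add, map_add, ← hf, ← hg]
    ext Z
    simp [mul_add]
  | monomial n c =>
    rw [aeval_monomial, aeval_monomial, LinearMap.pow_mulRight]
    ext Z
    simp [Algebra.algebraMap_eq_smul_one]

/-- the inner sums `G_j = ∑_{i<j} L^i R^(j-1-i)`. -/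
noncomputable def d1m_w3_G (X : A) (j : ℕ) : Module.End k A :=
  ∑ i ∈ Finset.range j, LinearMap.mulLeft k X ^ i * LinearMap.mulRight k X ^ (j - 1 - i)

/-- the divided difference operator `Φ = (F(L) - F(R)) / (L - R)`. -/
noncomputable def d1m_w3_Phi (X : A) (F : k[X]) : Module.End k A :=
  F.sum (fun j c => c • d1m_w3_G (k := k) X j)

theorem d1m_w3_commute_LR (X Y : A) :
    Commute (LinearMap.mulLeft k X) (LinearMap.mulRight k Y) :=
  LinearMap.commute_mulLeft_right X Y

theorem d1m_w3_G_mul (X : A) (j : ℕ) :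
    d1m_w3_G (k := k) X j * (LinearMap.mulLeft k X - LinearMap.mulRight k X) =
      LinearMap.mulLeft k X ^ j - LinearMap.mulRight k X ^ j := by
  unfold d1m_w3_G
  exact (d1m_w3_commute_LR X X).geom_sum₂_mul j

theorem d1m_w3_Phi_mul (X : A) (F : k[X]) :
    d1m_w3_Phi X F * (LinearMap.mulLeft k X - LinearMap.mulRight k X) =
      aeval (LinearMap.mulLeft k X) F - aeval (LinearMap.mulRight k X) F := by
  unfold d1m_w3_Phi
  rw [aeval_def, aeval_def, eval₂_eq_sum, eval₂_eq_sum, Polynomial.sum_def, Polynomial.sum_def,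
    Polynomial.sum_def, Finset.sum_mul, ← Finset.sum_sub_distrib]
  refine Finset.sum_congr rfl (fun j _ => ?_)
  rw [smul_mul_assoc, d1m_w3_G_mul, smul_sub, Algebra.smul_def, Algebra.smul_def]

/-- `G_j` applied to an element commuting with `X`. -/
theorem d1m_w3_G_apply (X Z : A) (hZ : Commute X Z) (j : ℕ) :
    d1m_w3_G (k := k) X j Z = (j : k) • (X ^ (j - 1) * Z) := by
  unfold d1m_w3_G
  rw [LinearMap.sum_apply]
  have h1 : ∀ i ∈ Finset.range j,
      (LinearMap.mulLeft k X ^ i * LinearMap.mulRight k X ^ (j - 1 - i)) Z = X ^ (j - 1) * Z := by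
    intro i hi
    have hi' : i < j := Finset.mem_range.1 hi
    rw [LinearMap.pow_mulLeft, LinearMap.pow_mulRight, Module.End.mul_apply,
      LinearMap.mulRight_apply, LinearMap.mulLeft_apply, ← (hZ.pow_left (j - 1 - i)).eq,
      ← mul_assoc, ← pow_add]
    congr 2
    omega
  rw [Finset.sum_congr rfl h1, Finset.sum_const, Finset.card_range, ← Nat.cast_smul_eq_nsmul k]

/-- `Φ` applied to an element commuting with `X` is multiplication by `F'(X)`. -/
theorem d1m_w3_Phi_apply (X Z : A) (hZ : Commute X Z) (F : k[X]) :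
    d1m_w3_Phi X F Z = aeval X (derivative F) * Z := by
  unfold d1m_w3_Phi
  rw [derivative_apply, Polynomial.sum_def, Polynomial.sum_def, LinearMap.sum_apply, map_sum,
    Finset.sum_mul]
  refine Finset.sum_congr rfl (fun j _ => ?_)
  rw [LinearMap.smul_apply, d1m_w3_G_apply X Z hZ, map_mul, aeval_C, map_pow, aeval_X,
    Algebra.algebraMap_eq_smul_one, smul_mul_assoc, one_mul, smul_mul_assoc, smul_smul]

/-- everything in sight commutes with `L` and `R`. -/
theorem d1m_w3_G_commute (X : A) (j : ℕ) {W : Module.End k A}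
    (hL : Commute (LinearMap.mulLeft k X) W) (hR : Commute (LinearMap.mulRight k X) W) :
    Commute (d1m_w3_G (k := k) X j) W := by
  unfold d1m_w3_G
  refine Commute.sum_left _ _ _ (fun i _ => ?_)
  exact (hL.pow_left i).mul_left (hR.pow_left _)

theorem d1m_w3_Phi_commute (X : A) (F : k[X]) {W : Module.End k A}
    (hL : Commute (LinearMap.mulLeft k X) W) (hR : Commute (LinearMap.mulRight k X) W) :
    Commute (d1m_w3_Phi X F) W := by
  unfold d1m_w3_Phi
  rw [Polynomial.sum_def]
  refine Commute.sum_left _ _ _ (fun j _ => ?_)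
  exact (d1m_w3_G_commute X j hL hR).smul_left _

omit [Ring A] [Algebra k A] in
theorem d1m_w3_aeval_commute (F : k[X]) {B : Type*} [Ring B] [Algebra k B] {a W : B}
    (h : Commute a W) : Commute (aeval a F) W := by
  induction F using Polynomial.induction_on' with
  | add f g hf hg => rw [map_add]; exact hf.add_left hg
  | monomial n c =>
    rw [aeval_monomial]
    exact (Algebra.commute_algebraMap_left c W).mul_left (h.pow_left n)

/-- `T = Ad(x) - 1 : Z ↦ x * Z * xi - Z`. -/
noncomputable def d1m_w3_T (x xi : A) : Module.End k A :=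
  LinearMap.mulLeft k x * LinearMap.mulRight k xi - 1

/-- `ad X : Z ↦ X * Z - Z * X`. -/
noncomputable def d1m_w3_ad (X : A) : Module.End k A :=
  LinearMap.mulLeft k X - LinearMap.mulRight k X

/-- `U = Φ * R_xi`. -/
noncomputable def d1m_w3_U (X : A) (F : k[X]) (xi : A) : Module.End k A :=
  d1m_w3_Phi X F * LinearMap.mulRight k xi

theorem d1m_w3_T_apply (x xi Z : A) : d1m_w3_T (k := k) x xi Z = x * Z * xi - Z := by
  simp [d1m_w3_T, mul_assoc]

theorem d1m_w3_ad_apply (X Z : A) : d1m_w3_ad (k := k) X Z = X * Z - Z * X := by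
  simp [d1m_w3_ad]

section Fact

variable {X x xi : A} {F Fi : k[X]}

theorem d1m_w3_commute_R_Rxi (hxi : xi = aeval X Fi) :
    Commute (LinearMap.mulRight k X) (LinearMap.mulRight k xi) := by
  rw [hxi, d1m_w3_mulRight_aeval]
  exact (d1m_w3_aeval_commute Fi (Commute.refl _)).symm

theorem d1m_w3_commute_ad_U (hxi : xi = aeval X Fi) :
    Commute (d1m_w3_ad (k := k) X) (d1m_w3_U X F xi) := by
  unfold d1m_w3_ad d1m_w3_U
  have hLL : Commute (LinearMap.mulLeft k X) (LinearMap.mulLeft k X) := Commute.refl _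
  have hRR : Commute (LinearMap.mulRight k X) (LinearMap.mulRight k X) := Commute.refl _
  have hLR : Commute (LinearMap.mulLeft k X) (LinearMap.mulRight k X) := d1m_w3_commute_LR X X
  have h1 : Commute (LinearMap.mulLeft k X) (d1m_w3_Phi X F) :=
    (d1m_w3_Phi_commute X F hLL hLR.symm).symm
  have h2 : Commute (LinearMap.mulRight k X) (d1m_w3_Phi X F) :=
    (d1m_w3_Phi_commute X F hLR hRR).symm
  exact ((h1.mul_right (d1m_w3_commute_LR X xi)).sub_left
    (h2.mul_right (d1m_w3_commute_R_Rxi hxi)))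

/-- **the factorization** `Ad(x) - 1 = (ad X) * U`. -/
theorem d1m_w3_T_eq (hx : x = aeval X F) (hxi : xi = aeval X Fi) (h1 : xi * x = 1) :
    d1m_w3_T (k := k) x xi = d1m_w3_ad X * d1m_w3_U X F xi := by
  have hRR : LinearMap.mulRight k x * LinearMap.mulRight k xi = 1 := by
    ext Z
    simp [mul_assoc, h1]
  have h2 : d1m_w3_T (k := k) x xi =
      (LinearMap.mulLeft k x - LinearMap.mulRight k x) * LinearMap.mulRight k xi := by
    unfold d1m_w3_T
    rw [sub_mul, hRR]
  have h3 : LinearMap.mulLeft k x - LinearMap.mulRight k x =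
      d1m_w3_Phi X F * d1m_w3_ad X := by
    unfold d1m_w3_ad
    rw [d1m_w3_Phi_mul, hx, d1m_w3_mulLeft_aeval, d1m_w3_mulRight_aeval]
  rw [h2, h3, (d1m_w3_commute_ad_U (F := F) hxi).eq]
  unfold d1m_w3_U
  have hLL : Commute (LinearMap.mulLeft k X) (LinearMap.mulLeft k X) := Commute.refl _
  have hRR' : Commute (LinearMap.mulRight k X) (LinearMap.mulRight k X) := Commute.refl _
  have hLR : Commute (LinearMap.mulLeft k X) (LinearMap.mulRight k X) := d1m_w3_commute_LR X X
  have h4 : Commute (d1m_w3_ad (k := k) X) (LinearMap.mulRight k xi) := by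
    unfold d1m_w3_ad
    exact (d1m_w3_commute_LR X xi).sub_left (d1m_w3_commute_R_Rxi hxi)
  rw [mul_assoc, mul_assoc, h4.eq]

theorem d1m_w3_T_pow (hx : x = aeval X F) (hxi : xi = aeval X Fi) (h1 : xi * x = 1) (n : ℕ) :
    d1m_w3_T (k := k) x xi ^ n = d1m_w3_ad X ^ n * d1m_w3_U X F xi ^ n := by
  rw [d1m_w3_T_eq hx hxi h1, (d1m_w3_commute_ad_U (F := F) hxi).mul_pow]

/-- `U` applied to an element commuting with `X`. -/
theorem d1m_w3_U_apply (hxi : xi = aeval X Fi) {Z : A} (hZ : Commute X Z) :
    d1m_w3_U X F xi Z = aeval X (derivative F) * Z * xi := by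
  unfold d1m_w3_U
  have hxiX : Commute X xi := by
    rw [hxi]
    exact (d1m_w3_aeval_commute Fi (Commute.refl X)).symm
  rw [Module.End.mul_apply, LinearMap.mulRight_apply, d1m_w3_Phi_apply X (Z * xi) (hZ.mul_right hxiX),
    mul_assoc]

end Fact

end Alg

end Cfsg.Agent.D1M
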