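import Cfsg.Agent.D1M.W3A

/-!
# D1M / W3B : the three vectors `Y, TY, T²Y` and their Gram matrix

`notes/S4504_helper9.md`, section 5 (W).  `V` finite-dimensional over `k` of characteristic `p`,
`x = F(X)` with `F = 1 + z + …`, `x ^ p = 1`, and an `sl₂`-triple `(X, H, Y)` in `End V`.
With `T := Ad(x) - 1`: `T Y = U H`, `T² Y = -2 z Q(X)` with `Q(0) = 1`, `T³ Y = 0`, and for the trace
form `B(A, C) = tr (A C)`: `B(Y, T²Y) = -2 tr(Y X)`, `B(TY, TY) = 2 tr(Y X)`,
`B(TY, T²Y) = B(T²Y, T²Y) = 0`.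
-/

set_option autoImplicit false

namespace Cfsg.Agent.D1M

open Polynomial

section Triple

variable {k : Type*} [Field k] {V : Type*} [AddCommGroup V] [Module k V]
  {x X H Y : Module.End k V} {F : k[X]}

/-- the polynomial `Q = F'² Fi²` with `T² Y = -2 (z Q)(X)`. -/
noncomputable def d1m_w3_Q (F Fi : k[X]) : k[X] := derivative F * (derivative F * Fi) * Fi

theorem d1m_w3_Q_coeff_zero {Fi : k[X]} (hF1 : F.coeff 1 = 1) (hFi0 : Fi.coeff 0 = 1) :
    (d1m_w3_Q F Fi).coeff 0 = 1 := by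
  unfold d1m_w3_Q
  have h1 : (derivative F).coeff 0 = 1 := by
    rw [coeff_derivative]; simp [hF1]
  rw [mul_coeff_zero, mul_coeff_zero, mul_coeff_zero, h1, hFi0]; norm_num

variable {xi : Module.End k V} {Fi : k[X]}

theorem d1m_w3_ad_Y (hXY : X * Y - Y * X = H) : d1m_w3_ad (k := k) X Y = H := by
  rw [d1m_w3_ad_apply, hXY]

theorem d1m_w3_ad_H (hHX : H * X - X * H = 2 • X) : d1m_w3_ad (k := k) X H = -(2 • X) := by
  rw [d1m_w3_ad_apply, ← hHX]; abel

theorem d1m_w3_ad_X : d1m_w3_ad (k := k) X X = 0 := by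
  rw [d1m_w3_ad_apply, sub_self]

/-- `T Y = U H`. -/
theorem d1m_w3_T_Y (hx : x = aeval X F) (hxi : xi = aeval X Fi) (h1 : xi * x = 1)
    (hXY : X * Y - Y * X = H) :
    d1m_w3_T (k := k) x xi Y = d1m_w3_U X F xi H := by
  rw [d1m_w3_T_eq hx hxi h1, (d1m_w3_commute_ad_U (F := F) hxi).eq, Module.End.mul_apply,
    d1m_w3_ad_Y hXY]

/-- `U² X = (z Q)(X)`. -/
theorem d1m_w3_UU_X (hxi : xi = aeval X Fi) :
    d1m_w3_U X F xi (d1m_w3_U X F xi X) = aeval X (Polynomial.X * d1m_w3_Q F Fi) := by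
  have hXX : Commute X X := Commute.refl X
  have hxiX : Commute X xi := by
    rw [hxi]; exact (d1m_w3_aeval_commute Fi (Commute.refl X)).symm
  have hD : Commute X (aeval X (derivative F)) :=
    (d1m_w3_aeval_commute (derivative F) (Commute.refl X)).symm
  rw [d1m_w3_U_apply (F := F) hxi hXX]
  have hc : Commute X (aeval X (derivative F) * X * xi) := (hD.mul_right hXX).mul_right hxiX
  rw [d1m_w3_U_apply (F := F) hxi hc, hxi]
  unfold d1m_w3_Q
  have e1 : aeval X (derivative F) * (aeval X (derivative F) * X * aeval X Fi) * aeval X Fi =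
      aeval X (derivative F * (derivative F * Polynomial.X * Fi) * Fi) := by
    simp only [map_mul, aeval_X]
  rw [e1]
  congr 1
  ring

/-- `T² Y = -2 (z Q)(X)`. -/
theorem d1m_w3_TT_Y (hx : x = aeval X F) (hxi : xi = aeval X Fi) (h1 : xi * x = 1)
    (hXY : X * Y - Y * X = H) (hHX : H * X - X * H = 2 • X) :
    d1m_w3_T (k := k) x xi (d1m_w3_T (k := k) x xi Y) =
      -(2 • aeval X (Polynomial.X * d1m_w3_Q F Fi)) := by
  have hc := d1m_w3_commute_ad_U (k := k) (X := X) (F := F) hxi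
  have h2 : d1m_w3_T (k := k) x xi (d1m_w3_T (k := k) x xi Y) =
      (d1m_w3_T (k := k) x xi ^ 2) Y := by
    rw [pow_two, Module.End.mul_apply]
  have hadad : (d1m_w3_ad (k := k) X ^ 2) Y = -(2 • X) := by
    rw [pow_two, Module.End.mul_apply, d1m_w3_ad_Y hXY, d1m_w3_ad_H hHX]
  rw [h2, d1m_w3_T_pow hx hxi h1, (hc.pow_pow 2 2).eq, Module.End.mul_apply, hadad, pow_two,
    Module.End.mul_apply, map_neg, map_neg, map_nsmul, map_nsmul, d1m_w3_UU_X hxi]

/-- `T³ Y = 0`. -/
theorem d1m_w3_TTT_Y (hx : x = aeval X F) (hxi : xi = aeval X Fi) (h1 : xi * x = 1)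
    (hXY : X * Y - Y * X = H) (hHX : H * X - X * H = 2 • X) :
    d1m_w3_T (k := k) x xi (d1m_w3_T (k := k) x xi (d1m_w3_T (k := k) x xi Y)) = 0 := by
  rw [d1m_w3_TT_Y hx hxi h1 hXY hHX, map_neg, map_nsmul, d1m_w3_T_apply]
  have hc : Commute x (aeval X (Polynomial.X * d1m_w3_Q F Fi)) := by
    rw [hx]
    exact d1m_w3_aeval_commute F ((d1m_w3_aeval_commute _ (Commute.refl X)).symm)
  have h3 : xi * x = 1 := h1
  have h4 : x * xi = 1 := by
    rw [hx, hxi]
    have : Commute (aeval X F) (aeval X Fi) :=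
      d1m_w3_aeval_commute F ((d1m_w3_aeval_commute Fi (Commute.refl X)).symm)
    rw [this.eq, ← hx, ← hxi, h1]
  rw [hc.eq, mul_assoc, h4, mul_one, sub_self, smul_zero, neg_zero]

end Triple

section Trace

variable {k : Type*} [Field k] {V : Type*} [AddCommGroup V] [Module k V]
  {X H Y : Module.End k V}

/-- `H X^n = X^n H + 2n X^n`. -/
theorem d1m_w3_H_Xpow (hHX : H * X - X * H = 2 • X) (n : ℕ) :
    H * X ^ n = X ^ n * H + (2 * n) • X ^ n := by
  have hHX' : H * X = X * H + 2 • X := by rw [← hHX]; abel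
  induction n with
  | zero => simp
  | succ n ih =>
    rw [pow_succ, ← mul_assoc, ih, add_mul, mul_assoc, hHX', mul_add, smul_mul_assoc, ← pow_succ,
      mul_smul_comm, ← pow_succ, ← mul_assoc, ← pow_succ, add_assoc, ← add_smul]
    congr 2
    ring

/-- `Y X^n` is an `ad H`-eigenvector of eigenvalue `2n - 2`. -/
theorem d1m_w3_H_YXpow (hHX : H * X - X * H = 2 • X) (hHY : H * Y - Y * H = -(2 • Y)) (n : ℕ) :
    H * (Y * X ^ n) - (Y * X ^ n) * H = (2 * (n : k) - 2) • (Y * X ^ n) := by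
  have hHY' : H * Y = Y * H - 2 • Y := by
    have h := hHY
    rw [sub_eq_iff_eq_add] at h
    rw [h]; abel
  have e1 : (2 * n) • (Y * X ^ n) = (2 * (n : k)) • (Y * X ^ n) := by
    rw [← Nat.cast_smul_eq_nsmul k]; push_cast; rfl
  have e2 : (2 : ℕ) • (Y * X ^ n) = (2 : k) • (Y * X ^ n) := by
    rw [← Nat.cast_smul_eq_nsmul k]; push_cast; rfl
  have h3 : H * (Y * X ^ n) = Y * X ^ n * H + (2 * n) • (Y * X ^ n) - 2 • (Y * X ^ n) := by
    rw [← mul_assoc, hHY', sub_mul, mul_assoc Y H, d1m_w3_H_Xpow hHX, mul_add, mul_assoc,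
      smul_mul_assoc, mul_smul_comm]
  rw [h3, e1, e2, sub_smul]
  abel

/-- `tr (Y X^n) = 0` for `n ≥ 2`. -/
theorem d1m_w3_trace_YXpow (p : ℕ) [CharP k p]
    (hdim : 2 * Module.finrank k V + 1 ≤ p) (hXnil : X ^ Module.finrank k V = 0)
    (hHX : H * X - X * H = 2 • X) (hHY : H * Y - Y * H = -(2 • Y)) {n : ℕ} (hn : 2 ≤ n) :
    LinearMap.trace k V (Y * X ^ n) = 0 := by
  by_cases hnd : Module.finrank k V ≤ n
  · obtain ⟨m, rfl⟩ := Nat.exists_eq_add_of_le hnd
    rw [pow_add, hXnil, zero_mul, mul_zero, map_zero]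
  · rw [not_le] at hnd
    have h1 := congrArg (LinearMap.trace k V) (d1m_w3_H_YXpow (k := k) hHX hHY n)
    rw [map_sub, LinearMap.trace_mul_comm k H, sub_self, map_smul, smul_eq_mul] at h1
    have hne : (2 * (n : k) - 2) ≠ 0 := by
      have h2 : (2 * (n : k) - 2) = ((2 * (n - 1) : ℕ) : k) := by
        have : 1 ≤ n := by omega
        push_cast [Nat.cast_sub this]
        ring
      rw [h2]
      intro h0
      have hdvd := (CharP.cast_eq_zero_iff k p _).1 h0
      have hpos : 0 < 2 * (n - 1) := by omega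
      have hlt : 2 * (n - 1) < p := by omega
      exact absurd (Nat.le_of_dvd hpos hdvd) (by omega)
    rcases mul_eq_zero.1 h1.symm with h | h
    · exact absurd h hne
    · exact h

/-- `tr (Y G(X)) = G_1 tr (Y X)` for a polynomial `G` without constant term. -/
theorem d1m_w3_trace_Y_aeval (p : ℕ) [CharP k p]
    (hdim : 2 * Module.finrank k V + 1 ≤ p) (hXnil : X ^ Module.finrank k V = 0)
    (hHX : H * X - X * H = 2 • X) (hHY : H * Y - Y * H = -(2 • Y)) (G : k[X])
    (hG0 : G.coeff 0 = 0) :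
    LinearMap.trace k V (Y * aeval X G) = G.coeff 1 * LinearMap.trace k V (Y * X) := by
  rw [aeval_eq_sum_range, Finset.mul_sum, map_sum]
  have hterm : ∀ i ∈ Finset.range (G.natDegree + 1), i ≠ 1 →
      LinearMap.trace k V (Y * G.coeff i • X ^ i) = 0 := by
    intro i _ hi1
    rw [mul_smul_comm, map_smul]
    rcases Nat.lt_or_ge i 2 with hlt | hge
    · have hi0 : i = 0 := by omega
      rw [hi0, hG0, zero_smul]
    · rw [d1m_w3_trace_YXpow p hdim hXnil hHX hHY hge, smul_zero]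
  rw [Finset.sum_eq_single 1 hterm]
  · rw [mul_smul_comm, map_smul, smul_eq_mul, pow_one]
  · intro h1
    have : G.natDegree < 1 := by
      by_contra hcon
      exact h1 (Finset.mem_range.2 (by omega))
    rw [coeff_eq_zero_of_natDegree_lt this, zero_smul, mul_zero, map_zero]

end Trace

end Cfsg.Agent.D1M
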