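import Cfsg.Agent.D1M.W3B

/-!
# D1M / W3C : the orthogonal projection onto `span(w0, w1, w2)` for an anti-triangular Gram matrix

Abstract linear algebra: `B` a symmetric bilinear form on `M`, `w0 w1 w2 : M` with
`B w2 w2 = 0`, `B w1 w2 = 0`, `B w1 w1 = - B w0 w2`, `B w0 w2 ≠ 0`.  Then `B` is non-degenerate on
`W' = span(w0, w1, w2)`, the three vectors are independent, and there is a `B`-self-adjoint
idempotent `e` with range `W'`, commuting with every isometry stabilizing `W'`.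
-/

set_option autoImplicit false

namespace Cfsg.Agent.D1M

section Proj

variable {k : Type*} [Field k] {M : Type*} [AddCommGroup M] [Module k M]
  (B : LinearMap.BilinForm k M) (w0 w1 w2 : M)

/-- the projection onto `span(w0,w1,w2)` along its `B`-orthogonal. -/
noncomputable def d1m_w3_proj : M →ₗ[k] M :=
  (B.flip ((B w0 w2)⁻¹ • w2)).smulRight w0 +
  (B.flip (-(B w0 w2)⁻¹ • w1 + (B w0 w1 * (B w0 w2)⁻¹ ^ 2) • w2)).smulRight w1 +
  (B.flip ((B w0 w2)⁻¹ • w0 + (B w0 w1 * (B w0 w2)⁻¹ ^ 2) • w1 +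
    (-(B w0 w0 * (B w0 w2)⁻¹ ^ 2) - B w0 w1 ^ 2 * (B w0 w2)⁻¹ ^ 3) • w2)).smulRight w2

theorem d1m_w3_proj_apply (v : M) :
    d1m_w3_proj B w0 w1 w2 v =
      ((B w0 w2)⁻¹ * B v w2) • w0 +
      (-(B w0 w2)⁻¹ * B v w1 + (B w0 w1 * (B w0 w2)⁻¹ ^ 2) * B v w2) • w1 +
      ((B w0 w2)⁻¹ * B v w0 + (B w0 w1 * (B w0 w2)⁻¹ ^ 2) * B v w1 +
        (-(B w0 w0 * (B w0 w2)⁻¹ ^ 2) - B w0 w1 ^ 2 * (B w0 w2)⁻¹ ^ 3) * B v w2) • w2 := by
  simp [d1m_w3_proj]

theorem d1m_w3_proj_mem (v : M) :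
    d1m_w3_proj B w0 w1 w2 v ∈ Submodule.span k ({w0, w1, w2} : Set M) := by
  rw [d1m_w3_proj_apply]
  have h0 : w0 ∈ Submodule.span k ({w0, w1, w2} : Set M) := Submodule.subset_span (by simp)
  have h1 : w1 ∈ Submodule.span k ({w0, w1, w2} : Set M) := Submodule.subset_span (by simp)
  have h2 : w2 ∈ Submodule.span k ({w0, w1, w2} : Set M) := Submodule.subset_span (by simp)
  exact Submodule.add_mem _ (Submodule.add_mem _ (Submodule.smul_mem _ _ h0)
    (Submodule.smul_mem _ _ h1)) (Submodule.smul_mem _ _ h2)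

variable {B w0 w1 w2}
variable (hsymm : ∀ a c : M, B a c = B c a) (h22 : B w2 w2 = 0) (h12 : B w1 w2 = 0)
  (h11 : B w1 w1 = -B w0 w2) (hc : B w0 w2 ≠ 0)

include hsymm h22 h12 h11 hc

/-- the defining property: `B (e v) u = B v u` for `u = w0, w1, w2`. -/
theorem d1m_w3_proj_form (v : M) :
    B (d1m_w3_proj B w0 w1 w2 v) w0 = B v w0 ∧ B (d1m_w3_proj B w0 w1 w2 v) w1 = B v w1 ∧
      B (d1m_w3_proj B w0 w1 w2 v) w2 = B v w2 := by
  rw [d1m_w3_proj_apply]
  have e10 : B w1 w0 = B w0 w1 := hsymm _ _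
  have e20 : B w2 w0 = B w0 w2 := hsymm _ _
  have e21 : B w2 w1 = 0 := by rw [hsymm, h12]
  simp only [map_add, map_smul, LinearMap.add_apply, LinearMap.smul_apply, smul_eq_mul, e10, e20,
    e21, h22, h12, h11]
  refine ⟨?_, ?_, ?_⟩
  · field_simp
    ring
  · field_simp
    ring
  · field_simp
    ring

/-- uniqueness: an element of the span orthogonal to `w0, w1, w2` is zero. -/
theorem d1m_w3_proj_uniq {w : M} (hw : w ∈ Submodule.span k ({w0, w1, w2} : Set M))
    (h0 : B w w0 = 0) (h1 : B w w1 = 0) (h2 : B w w2 = 0) : w = 0 := by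
  obtain ⟨a, b, c, rfl⟩ := Submodule.mem_span_triple.1 hw
  have e10 : B w1 w0 = B w0 w1 := hsymm _ _
  have e20 : B w2 w0 = B w0 w2 := hsymm _ _
  have e21 : B w2 w1 = 0 := by rw [hsymm, h12]
  simp only [map_add, map_smul, LinearMap.add_apply, LinearMap.smul_apply, smul_eq_mul, e10, e20,
    e21, h22, h12, h11] at h0 h1 h2
  have ha : a = 0 := by
    have : a * B w0 w2 = 0 := by linear_combination h2
    rcases mul_eq_zero.1 this with h | h
    · exact h
    · exact absurd h hc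
  subst ha
  have hb : b = 0 := by
    have : b * B w0 w2 = 0 := by linear_combination -h1
    rcases mul_eq_zero.1 this with h | h
    · exact h
    · exact absurd h hc
  subst hb
  have hc' : c = 0 := by
    have : c * B w0 w2 = 0 := by linear_combination h0
    rcases mul_eq_zero.1 this with h | h
    · exact h
    · exact absurd h hc
  subst hc'
  simp

/-- `e` is the identity on the span. -/
theorem d1m_w3_proj_id {u : M} (hu : u ∈ Submodule.span k ({w0, w1, w2} : Set M)) :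
    d1m_w3_proj B w0 w1 w2 u = u := by
  obtain ⟨f0, f1, f2⟩ := d1m_w3_proj_form hsymm h22 h12 h11 hc u
  have hmem := Submodule.sub_mem _ (d1m_w3_proj_mem B w0 w1 w2 u) hu
  have := d1m_w3_proj_uniq hsymm h22 h12 h11 hc hmem
    (by rw [map_sub, LinearMap.sub_apply, f0, sub_self])
    (by rw [map_sub, LinearMap.sub_apply, f1, sub_self])
    (by rw [map_sub, LinearMap.sub_apply, f2, sub_self])
  exact sub_eq_zero.1 this

theorem d1m_w3_proj_idem : IsIdempotentElem (d1m_w3_proj B w0 w1 w2) := by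
  unfold IsIdempotentElem
  ext v
  rw [Module.End.mul_apply]
  exact d1m_w3_proj_id hsymm h22 h12 h11 hc (d1m_w3_proj_mem B w0 w1 w2 v)

theorem d1m_w3_proj_range :
    LinearMap.range (d1m_w3_proj B w0 w1 w2) = Submodule.span k ({w0, w1, w2} : Set M) := by
  apply le_antisymm
  · rintro _ ⟨v, rfl⟩
    exact d1m_w3_proj_mem B w0 w1 w2 v
  · intro u hu
    exact ⟨u, d1m_w3_proj_id hsymm h22 h12 h11 hc hu⟩

/-- `B (e v) u = B v u` for every `u` in the span. -/
theorem d1m_w3_proj_form_span (v : M) {u : M}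
    (hu : u ∈ Submodule.span k ({w0, w1, w2} : Set M)) :
    B (d1m_w3_proj B w0 w1 w2 v) u = B v u := by
  obtain ⟨f0, f1, f2⟩ := d1m_w3_proj_form hsymm h22 h12 h11 hc v
  obtain ⟨a, b, c, rfl⟩ := Submodule.mem_span_triple.1 hu
  simp only [map_add, map_smul, f0, f1, f2]

/-- `e` is `B`-self-adjoint. -/
theorem d1m_w3_proj_adj (v v' : M) :
    B (d1m_w3_proj B w0 w1 w2 v) v' = B v (d1m_w3_proj B w0 w1 w2 v') := by
  have h1 := d1m_w3_proj_form_span hsymm h22 h12 h11 hc v (d1m_w3_proj_mem B w0 w1 w2 v')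
  have h2 := d1m_w3_proj_form_span hsymm h22 h12 h11 hc v' (d1m_w3_proj_mem B w0 w1 w2 v)
  calc B (d1m_w3_proj B w0 w1 w2 v) v' = B v' (d1m_w3_proj B w0 w1 w2 v) := hsymm _ _
    _ = B (d1m_w3_proj B w0 w1 w2 v') (d1m_w3_proj B w0 w1 w2 v) := h2.symm
    _ = B (d1m_w3_proj B w0 w1 w2 v) (d1m_w3_proj B w0 w1 w2 v') := hsymm _ _
    _ = B v (d1m_w3_proj B w0 w1 w2 v') := h1

/-- `e` commutes with every invertible `B`-isometry stabilizing the span. -/
theorem d1m_w3_proj_comm {g g' : M →ₗ[k] M} (hadj : ∀ a c, B (g a) c = B a (g' c))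
    (hg : ∀ u ∈ Submodule.span k ({w0, w1, w2} : Set M), g u ∈ Submodule.span k ({w0, w1, w2} : Set M))
    (hg' : ∀ u ∈ Submodule.span k ({w0, w1, w2} : Set M),
      g' u ∈ Submodule.span k ({w0, w1, w2} : Set M)) (v : M) :
    d1m_w3_proj B w0 w1 w2 (g v) = g (d1m_w3_proj B w0 w1 w2 v) := by
  have hmem : d1m_w3_proj B w0 w1 w2 (g v) - g (d1m_w3_proj B w0 w1 w2 v) ∈
      Submodule.span k ({w0, w1, w2} : Set M) :=
    Submodule.sub_mem _ (d1m_w3_proj_mem B w0 w1 w2 _) (hg _ (d1m_w3_proj_mem B w0 w1 w2 v))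
  have hkey : ∀ u ∈ Submodule.span k ({w0, w1, w2} : Set M),
      B (d1m_w3_proj B w0 w1 w2 (g v) - g (d1m_w3_proj B w0 w1 w2 v)) u = 0 := by
    intro u hu
    rw [map_sub, LinearMap.sub_apply, d1m_w3_proj_form_span hsymm h22 h12 h11 hc _ hu, hadj,
      hadj, d1m_w3_proj_form_span hsymm h22 h12 h11 hc _ (hg' u hu), sub_self]
  have h0 : w0 ∈ Submodule.span k ({w0, w1, w2} : Set M) := Submodule.subset_span (by simp)
  have h1 : w1 ∈ Submodule.span k ({w0, w1, w2} : Set M) := Submodule.subset_span (by simp)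
  have h2 : w2 ∈ Submodule.span k ({w0, w1, w2} : Set M) := Submodule.subset_span (by simp)
  exact sub_eq_zero.1 (d1m_w3_proj_uniq hsymm h22 h12 h11 hc hmem (hkey _ h0) (hkey _ h1)
    (hkey _ h2))

/-- the three vectors are linearly independent. -/
theorem d1m_w3_proj_indep : LinearIndependent k ![w0, w1, w2] := by
  rw [Fintype.linearIndependent_iff]
  intro c hsum
  rw [Fin.sum_univ_three] at hsum
  simp only [Matrix.cons_val_zero, Matrix.cons_val_one, Matrix.cons_val_two, Matrix.head_cons,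
    Matrix.tail_cons] at hsum
  have e10 : B w1 w0 = B w0 w1 := hsymm _ _
  have e20 : B w2 w0 = B w0 w2 := hsymm _ _
  have e21 : B w2 w1 = 0 := by rw [hsymm, h12]
  have k0 := congrArg (fun w => B w w0) hsum
  have k1 := congrArg (fun w => B w w1) hsum
  have k2 := congrArg (fun w => B w w2) hsum
  simp only [map_add, map_smul, LinearMap.add_apply, LinearMap.smul_apply, smul_eq_mul, e10, e20,
    e21, h22, h12, h11, map_zero, LinearMap.zero_apply] at k0 k1 k2
  have ha : c 0 = 0 := by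
    have : c 0 * B w0 w2 = 0 := by linear_combination k2
    rcases mul_eq_zero.1 this with h | h
    · exact h
    · exact absurd h hc
  rw [ha] at k0 k1
  have hb : c 1 = 0 := by
    have : c 1 * B w0 w2 = 0 := by linear_combination -k1
    rcases mul_eq_zero.1 this with h | h
    · exact h
    · exact absurd h hc
  rw [hb] at k0
  have hc' : c 2 = 0 := by
    have : c 2 * B w0 w2 = 0 := by linear_combination k0
    rcases mul_eq_zero.1 this with h | h
    · exact h
    · exact absurd h hc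
  intro i
  fin_cases i
  · exact ha
  · exact hb
  · exact hc'

end Proj

end Cfsg.Agent.D1M
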